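import Groth.Agent.Hensel.Henselization
import Mathlib.RingTheory.Smooth.Local
import Mathlib.RingTheory.Smooth.Locus
import Mathlib.RingTheory.Etale.Basic

/-!
# Smoothness from lifting along square-zero extensions of strictly henselian local rings
-/

set_option autoImplicit false

universe u

open IsLocalRing TensorProduct MvPolynomial

namespace Groth.Agent.IsoNatLib

/-- A strictly henselian local ring. -/
class IsSH (A : Type u) [CommRing A] : Prop where
  henselian : HenselianLocalRing A
  sepClosed : letI := henselian; IsSepClosed (ResidueField A)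

theorem henselianLocalRing_quotient {A : Type u} [CommRing A] [HenselianLocalRing A] (I : Ideal A)
    (hI : I ≠ ⊤) : HenselianLocalRing (A ⧸ I) := by
  have : Nontrivial (A ⧸ I) := Ideal.Quotient.nontrivial_iff.mpr hI
  have : IsLocalRing (A ⧸ I) := IsLocalRing.of_surjective' _ Ideal.Quotient.mk_surjective
  have hloc : IsLocalHom (Ideal.Quotient.mk I) := .of_surjective _ Ideal.Quotient.mk_surjective
  refine { is_henselian := fun f hf a₀ h₁ h₂ => ?_ }
  obtain ⟨F, hF, -, hFm⟩ := Polynomial.lifts_and_natDegree_eq_and_monic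
    ((Polynomial.mem_lifts f).mpr (Polynomial.map_surjective _ Ideal.Quotient.mk_surjective f)) hf
  obtain ⟨b₀, rfl⟩ := Ideal.Quotient.mk_surjective a₀
  rw [← hF, Polynomial.eval_map_apply] at h₁
  rw [← hF, Polynomial.derivative_map, Polynomial.eval_map_apply] at h₂
  obtain ⟨b, hb, hb'⟩ := HenselianLocalRing.is_henselian F hFm b₀
    (fun h => h₁ (h.map _)) (hloc.map_nonunit _ h₂)
  refine ⟨Ideal.Quotient.mk I b, ?_, fun h => hb' ?_⟩
  · rw [← hF, Polynomial.IsRoot, Polynomial.eval_map_apply, hb.eq_zero, map_zero]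
  · rw [← map_sub] at h
    exact hloc.map_nonunit _ h

theorem isSH_quotient {A : Type u} [CommRing A] [h : IsSH A] (I : Ideal A) (hI : I ≠ ⊤) : IsSH (A ⧸ I) := by
  let := h.henselian
  have := h.sepClosed
  let := henselianLocalRing_quotient I hI
  have hloc : IsLocalHom (Ideal.Quotient.mk I) := .of_surjective _ Ideal.Quotient.mk_surjective
  refine ⟨henselianLocalRing_quotient I hI, Hensel.isSepClosed_of_ringEquiv
    (RingEquiv.ofBijective (ResidueField.map (Ideal.Quotient.mk I)) ⟨RingHom.injective _, fun z => ?_⟩)⟩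
  obtain ⟨a, rfl⟩ := residue_surjective z
  obtain ⟨b, rfl⟩ := Ideal.Quotient.mk_surjective a
  exact ⟨residue A b, rfl⟩

/-- Lifting along square-zero extensions of strictly henselian local rings. -/
def HasSHLifts {C B : Type u} [CommRing C] [CommRing B] (f : C →+* B) : Prop :=
  ∀ (A A₀ : Type u) [CommRing A] [CommRing A₀] [IsSH A] [IsSH A₀] (π : A →+* A₀),
    Function.Surjective π → (∀ a b, π a = 0 → π b = 0 → a * b = 0) →
    ∀ (c : C →+* A) (b : B →+* A₀), π.comp c = b.comp f → ∃ s : B →+* A, π.comp s = b ∧ s.comp f = c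

theorem isSmoothAt_of_hasSHLifts {C B : Type u} [CommRing C] [CommRing B] [Algebra C B]
    [Algebra.FinitePresentation C B] (h : HasSHLifts (algebraMap C B)) (q : Ideal B) [q.IsPrime] :
    Algebra.IsSmoothAt C q := by
  obtain ⟨n, f₀, hf₀⟩ := Algebra.FiniteType.iff_quotient_mvPolynomial''.mp
    (inferInstance : Algebra.FiniteType C B)
  let S := Localization.AtPrime q
  let M' := q.primeCompl.comap f₀
  let P := Localization M'
  let q' : Ideal (MvPolynomial (Fin n) C) := q.comap f₀
  have hM' : M' = q'.primeCompl := rfl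
  have : IsLocalization.AtPrime P q' := inferInstanceAs (IsLocalization M' P)
  have : IsLocalRing P := IsLocalization.AtPrime.isLocalRing P q'
  let fP : P →ₐ[C] S := IsLocalization.liftAlgHom (M := M')
      (f := (IsScalarTower.toAlgHom C B S).comp f₀) fun x => by
    simpa using IsLocalization.map_units (M := q.primeCompl) _ ⟨f₀ x.1, x.2⟩
  have hfP₀ : ∀ p, fP (algebraMap _ P p) = algebraMap B S (f₀ p) := fun p => by simp [fP]
  have hf₁ : Function.Surjective fP := by
    intro x
    obtain ⟨x, ⟨s, hs⟩, rfl⟩ := IsLocalization.exists_mk'_eq q.primeCompl x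
    obtain ⟨x, rfl⟩ := hf₀ x
    obtain ⟨s, rfl⟩ := hf₀ s
    refine ⟨IsLocalization.mk' (M := M') _ x ⟨s, hs⟩, ?_⟩
    simp [fP, S, IsLocalization.lift_mk', Units.mul_inv_eq_iff_eq_mul, IsUnit.liftRight]
  have hker : RingHom.ker fP = (RingHom.ker f₀).map (algebraMap _ P) := by
    refine le_antisymm ?_ (Ideal.map_le_iff_le_comap.mpr fun x hx ↦ by simp_all [fP])
    intro x hx
    obtain ⟨x, s, rfl⟩ := IsLocalization.exists_mk'_eq M' x
    obtain ⟨a, ha, e⟩ : ∃ a ∈ q.primeCompl, a * f₀ x = 0 := by
      simpa [fP, S, IsLocalization.lift_mk', IsLocalization.map_eq_zero_iff q.primeCompl] using hx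
    obtain ⟨a, rfl⟩ := hf₀ a
    rw [IsLocalization.mk'_mem_map_algebraMap_iff]
    exact ⟨a, ha, by simpa⟩
  have hfP : (RingHom.ker fP).FG := by
    rw [hker]; exact (Algebra.FinitePresentation.ker_fG_of_surjective _ hf₀).map _
  let : Algebra P S := fP.toRingHom.toAlgebra
  have : IsScalarTower C P S := .of_algebraMap_eq fun r => (fP.commutes r).symm
  have : Algebra.FormallyEtale (MvPolynomial (Fin n) C) P := .of_isLocalization M'
  have : Algebra.FormallySmooth C P := .comp _ (MvPolynomial (Fin n) C) _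
  have : Module.Free P Ω[P⁄C] :=
    .of_equiv (KaehlerDifferential.tensorKaehlerEquivOfFormallyEtale C (MvPolynomial (Fin n) C) P)
  have : IsLocalHom fP.toRingHom := .of_surjective _ hf₁
  let H := Hensel.StrictHenz P
  let k := ResidueField H
  have hPk : ∀ x, algebraMap P k x = residue H (algebraMap P H x) := fun _ => rfl
  let K : Ideal P := RingHom.ker (algebraMap P S)
  let KH : Ideal H := K.map (algebraMap P H)
  have hKm : K ≤ maximalIdeal P := le_maximalIdeal (RingHom.ker_ne_top _)
  have hKH : KH ≤ maximalIdeal H := Ideal.map_le_iff_le_comap.mpr fun x hx => map_nonunit _ x (hKm hx)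
  let J : Ideal H := maximalIdeal H * KH
  have hJ : J ≤ KH := Ideal.mul_le_right
  have hKHtop : KH ≠ ⊤ := ne_top_of_le_ne_top (maximalIdeal.isMaximal H).ne_top hKH
  have : IsSH H := ⟨inferInstance,
    (Hensel.isSepClosure_residueField_strictHenz P).sep_closed⟩
  have := isSH_quotient J (ne_top_of_le_ne_top hKHtop hJ)
  have := isSH_quotient KH hKHtop
  let π : H ⧸ J →+* H ⧸ KH := Ideal.Quotient.factor hJ
  have : Nontrivial (H ⧸ KH) := Ideal.Quotient.nontrivial_iff.mpr hKHtop
  let : Algebra C (H ⧸ J) := ((Ideal.Quotient.mk J).comp ((algebraMap P H).comp (algebraMap C P))).toAlgebra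
  have hPmk : ∀ (x : P) (w : H ⧸ J), x • w = Ideal.Quotient.mk J (algebraMap P H x) * w := fun x w => by
    obtain ⟨w, rfl⟩ := Ideal.Quotient.mk_surjective w
    rw [← map_mul, ← Algebra.smul_def]; rfl
  have : IsScalarTower C P (H ⧸ J) := ⟨fun c x w => by
    rw [hPmk, hPmk, Algebra.smul_def c x, map_mul, map_mul, mul_assoc, Algebra.smul_def]; rfl⟩
  -- the maps
  let kH : S →+* H ⧸ KH :=
    RingHom.liftOfSurjective fP.toRingHom hf₁ ⟨(Ideal.Quotient.mk KH).comp (algebraMap P H), fun x hx => by
      show Ideal.Quotient.mk KH (algebraMap P H x) = 0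
      exact Ideal.Quotient.eq_zero_iff_mem.mpr (Ideal.mem_map_of_mem _ hx)⟩
  have hkH : ∀ x, kH (fP x) = Ideal.Quotient.mk KH (algebraMap P H x) := fun x =>
    RingHom.liftOfRightInverse_comp_apply _ _ _ _ x
  obtain ⟨s, hs₁, hs₂⟩ := h (H ⧸ J) (H ⧸ KH) π (Ideal.Quotient.factor_surjective hJ)
    (fun a b ha hb => by
      obtain ⟨a, rfl⟩ := Ideal.Quotient.mk_surjective a
      obtain ⟨b, rfl⟩ := Ideal.Quotient.mk_surjective b
      rw [← map_mul, Ideal.Quotient.eq_zero_iff_mem]
      exact Ideal.mul_mem_mul (hKH (Ideal.Quotient.eq_zero_iff_mem.mp ha))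
        (Ideal.Quotient.eq_zero_iff_mem.mp hb))
    ((Ideal.Quotient.mk J).comp ((algebraMap P H).comp (algebraMap C P)))
    (kH.comp (algebraMap B S)) (RingHom.ext fun r => by
      show π (Ideal.Quotient.mk J _) = kH (algebraMap B S (algebraMap C B r))
      rw [← IsScalarTower.algebraMap_apply C B S, ← fP.commutes r, hkH]
      rfl)
  -- extend the lift to the localization
  have : Nontrivial (H ⧸ J) := Ideal.Quotient.nontrivial_iff.mpr (ne_top_of_le_ne_top hKHtop hJ)
  have : IsLocalRing (H ⧸ J) := IsLocalRing.of_surjective' _ Ideal.Quotient.mk_surjective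
  have hloc : IsLocalHom π := .of_surjective _ (Ideal.Quotient.factor_surjective hJ)
  have hu : ∀ y : q.primeCompl, IsUnit (s y) := fun y => hloc.map_nonunit _ (by
    rw [show π (s y) = kH (algebraMap B S y) from congr($hs₁ (y : B))]
    exact (IsLocalization.map_units S y).map kH)
  let σ : S →+* H ⧸ J := IsLocalization.lift hu
  have hσ₁ : π.comp σ = kH := IsLocalization.ringHom_ext q.primeCompl (RingHom.ext fun b => by
    show π (σ (algebraMap B S b)) = _
    rw [IsLocalization.lift_eq]
    exact congr($hs₁ b))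
  -- the derivation
  let ι : P →+* H ⧸ J := (Ideal.Quotient.mk J).comp (algebraMap P H)
  have hι : ∀ x, π (ι x) = kH (fP x) := fun x => (hkH x).symm
  have hDmul : ∀ x a, π a = 0 → (ι x - σ (fP x)) * a = 0 := fun x a ha => by
    obtain ⟨a, rfl⟩ := Ideal.Quotient.mk_surjective a
    obtain ⟨d, hd⟩ := Ideal.Quotient.mk_surjective (ι x - σ (fP x))
    rw [← hd, ← map_mul, Ideal.Quotient.eq_zero_iff_mem]
    refine Ideal.mul_mem_mul (hKH ?_) (Ideal.Quotient.eq_zero_iff_mem.mp ha)
    rw [← Ideal.Quotient.eq_zero_iff_mem, show Ideal.Quotient.mk KH d = π (ι x - σ (fP x)) from hd ▸ rfl,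
      map_sub, hι, sub_eq_zero]
    exact congr($hσ₁ (fP x)).symm
  have hD₀ : ∀ x, π (ι x - σ (fP x)) = 0 := fun x => by
    rw [map_sub, hι, sub_eq_zero]; exact congr($hσ₁ (fP x)).symm
  let D : Derivation C P (H ⧸ J) :=
    { toFun := fun x => ι x - σ (fP x)
      map_add' := fun x y => by simp only [map_add]; ring
      map_smul' := fun r x => by
        have e : σ (fP (algebraMap C P r)) = ι (algebraMap C P r) := by
          rw [fP.commutes, IsScalarTower.algebraMap_apply C B S]
          show σ (algebraMap B S _) = _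
          rw [IsLocalization.lift_eq]
          exact congr($hs₂ r)
        rw [RingHom.id_apply, Algebra.smul_def, map_mul, map_mul, map_mul, e, ← mul_sub,
          Algebra.smul_def]
        rfl
      map_one_eq_zero' := by show ι (1 : P) - σ (fP (1 : P)) = 0; rw [map_one ι, map_one fP, map_one σ, sub_self]
      leibniz' := fun x y => by
        show ι (x * y) - σ (fP (x * y)) = x • (ι y - σ (fP y)) + y • (ι x - σ (fP x))
        rw [hPmk, hPmk]
        show _ = ι x * (ι y - σ (fP y)) + ι y * (ι x - σ (fP x))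
        have := hDmul x _ (hD₀ y)
        rw [map_mul, map_mul, map_mul]
        linear_combination -this }
  let ψ : Ω[P⁄C] →ₗ[P] H ⧸ J := D.liftKaehlerDifferential
  have hres : ∀ a : k, ∃ b : H, residue H b = a := residue_surjective
  have hψK : ∀ ω, π (ψ ω) = 0 := fun ω => by
    have : ω ∈ Submodule.span P (Set.range (KaehlerDifferential.D C P)) := by
      rw [KaehlerDifferential.span_range_derivation]; trivial
    induction this using Submodule.span_induction with
    | mem w hw =>
      obtain ⟨x, rfl⟩ := hw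
      rw [show ψ (KaehlerDifferential.D C P x) = D x from D.liftKaehlerDifferential_comp_D x]
      exact hD₀ x
    | zero => simp
    | add a b _ _ ha hb => rw [map_add, map_add, ha, hb, add_zero]
    | smul c a _ ha =>
      rw [map_smul, hPmk, map_mul, ha, mul_zero]
  -- left inverse
  let Φ : k →ₗ[P] Ω[P⁄C] →ₗ[P] H ⧸ J :=
    { toFun := fun a =>
        { toFun := fun ω => Ideal.Quotient.mk J (hres a).choose * ψ ω
          map_add' := fun x y => by rw [map_add, mul_add]
          map_smul' := fun c x => by rw [map_smul, RingHom.id_apply, mul_smul_comm] }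
      map_add' := fun a b => LinearMap.ext fun ω => by
        show _ * ψ ω = _ * ψ ω + _ * ψ ω
        rw [← add_mul, ← map_add, ← sub_eq_zero, ← sub_mul, ← map_sub]
        obtain ⟨m, hm⟩ := Ideal.Quotient.mk_surjective (ψ ω)
        rw [← hm, ← map_mul, Ideal.Quotient.eq_zero_iff_mem]
        refine Ideal.mul_mem_mul ?_ (Ideal.Quotient.eq_zero_iff_mem.mp
          (show π (Ideal.Quotient.mk J m) = 0 by rw [hm]; exact hψK ω))
        rw [← residue_eq_zero_iff, map_sub, map_add, (hres _).choose_spec, (hres a).choose_spec,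
          (hres b).choose_spec, sub_self]
      map_smul' := fun c a => LinearMap.ext fun ω => by
        show _ * ψ ω = c • (_ * ψ ω)
        rw [hPmk, ← mul_assoc, ← map_mul, ← sub_eq_zero, ← sub_mul, ← map_sub]
        obtain ⟨m, hm⟩ := Ideal.Quotient.mk_surjective (ψ ω)
        rw [← hm, ← map_mul, Ideal.Quotient.eq_zero_iff_mem]
        refine Ideal.mul_mem_mul ?_ (Ideal.Quotient.eq_zero_iff_mem.mp
          (show π (Ideal.Quotient.mk J m) = 0 by rw [hm]; exact hψK ω))
        rw [← residue_eq_zero_iff, map_sub, map_mul, (hres _).choose_spec, (hres a).choose_spec,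
          Algebra.smul_def, sub_eq_zero]
        rfl }
  let L : k ⊗[P] Ω[P⁄C] →ₗ[P] H ⧸ J := TensorProduct.lift Φ
  -- injectivity of the multiplication
  let u : H ⊗[P] K →ₗ[P] H :=
    TensorProduct.lift ((LinearMap.mul P H).compl₂ ((Algebra.linearMap P H).comp K.subtype))
  have hu' : Function.Injective u := by
    have e : u = (TensorProduct.rid P H).toLinearMap ∘ₗ K.subtype.lTensor H := TensorProduct.ext' fun a x => by
      simp [u, Algebra.smul_def, mul_comm]
    rw [e]
    exact (TensorProduct.rid P H).injective.comp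
      (Module.Flat.lTensor_preserves_injective_linearMap _ Subtype.val_injective)
  let v : H ⊗[P] K →ₗ[P] k ⊗[P] K := LinearMap.rTensor K
    ({ toFun := residue H, map_add' := map_add _, map_smul' := fun c a => by
        rw [RingHom.id_apply, Algebra.smul_def, Algebra.smul_def, map_mul, hPk] } : H →ₗ[P] k)
  have hv : Function.Surjective v := LinearMap.rTensor_surjective _ residue_surjective
  have hmv : ∀ (m : H), m ∈ maximalIdeal H → ∀ z, v (m • z) = 0 := fun m hm z => by
    induction z with
    | zero => simp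
    | add a b ha hb => rw [smul_add, map_add, ha, hb, add_zero]
    | tmul a x =>
      rw [smul_tmul', show v ((m • a) ⊗ₜ[P] x) = residue H (m • a) ⊗ₜ x from rfl, smul_eq_mul, map_mul,
        (residue_eq_zero_iff m).mpr hm, zero_mul, zero_tmul]
  have hum : ∀ (m : H) z, u (m • z) = m * u z := fun m z => by
    induction z with
    | zero => simp
    | add a b ha hb => rw [smul_add, map_add, ha, hb, map_add, mul_add]
    | tmul a x => simp [u, smul_tmul', mul_assoc]
  have huK : ∀ y ∈ KH, ∃ z, u z = y := fun y hy => by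
    induction hy using Submodule.span_induction with
    | mem w hw => obtain ⟨x, hx, rfl⟩ := hw; exact ⟨1 ⊗ₜ ⟨x, hx⟩, by simp [u]⟩
    | zero => exact ⟨0, map_zero u⟩
    | add a b _ _ ha hb => obtain ⟨a', rfl⟩ := ha; obtain ⟨b', rfl⟩ := hb; exact ⟨a' + b', map_add u _ _⟩
    | smul c a _ ha => obtain ⟨a', rfl⟩ := ha; exact ⟨c • a', hum c a'⟩
  rw [Algebra.IsSmoothAt]
  rw [Algebra.FormallySmooth.iff_injective_cotangentComplexBaseChange_residueField (S := S) P hf₁ hfP]
  let kS : S →+* k := RingHom.liftOfSurjective fP.toRingHom hf₁ ⟨algebraMap P k, fun x hx =>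
    (residue_eq_zero_iff _).mpr (hKH (Ideal.mem_map_of_mem _ hx))⟩
  let : Algebra S k := kS.toAlgebra
  have : IsScalarTower P S k := .of_algebraMap_eq fun x => Eq.symm (RingHom.liftOfRightInverse_comp_apply fP.toRingHom _ _ _ x)
  rw [← Algebra.FormallySmooth.iff_injective_cotangentComplexBaseChange_residueField (S := S) P hf₁ hfP,
    Algebra.FormallySmooth.iff_injective_cotangentComplexBaseChange (S := S) P k hf₁ hfP (fun x hx => by
      obtain ⟨p, rfl⟩ := hf₁ x
      show kS (fP p) = 0
      rw [show kS (fP p) = algebraMap P k p from RingHom.liftOfRightInverse_comp_apply _ _ _ _ p]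
      exact (residue_eq_zero_iff _).mpr (map_nonunit _ _ fun hp => hx (hp.map fP.toRingHom)))]
  rw [injective_iff_map_eq_zero]
  intro z hz
  obtain ⟨w, rfl⟩ := hv z
  have key : ∀ w : H ⊗[P] K, L (KaehlerDifferential.cotangentComplexBaseChange C S P k (v w)) =
      Ideal.Quotient.mk J (u w) := fun w => by
    induction w with
    | zero => simp
    | add a b ha hb => rw [map_add, map_add, map_add, ha, hb, map_add, map_add]
    | tmul a x =>
      show Ideal.Quotient.mk J (hres (residue H a • (1 : k))).choose * ψ (KaehlerDifferential.D C P x.1) = _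
      rw [show ψ (KaehlerDifferential.D C P x.1) = D x.1 from D.liftKaehlerDifferential_comp_D _]
      show _ * (ι x.1 - σ (fP x.1)) = _
      rw [show fP x.1 = 0 from x.2, map_zero, sub_zero]
      show Ideal.Quotient.mk J _ * Ideal.Quotient.mk J _ = _
      rw [← map_mul, Ideal.Quotient.eq]
      have : u (a ⊗ₜ x) = a * algebraMap P H x.1 := rfl
      rw [this, ← sub_mul]
      exact Ideal.mul_mem_mul ((residue_eq_zero_iff _).mp (by rw [map_sub, (hres _).choose_spec, smul_eq_mul, mul_one, sub_self]))
        (Ideal.mem_map_of_mem _ x.2)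
  have hzero := key w
  rw [hz, map_zero, eq_comm, Ideal.Quotient.eq_zero_iff_mem] at hzero
  have hgen : ∀ y ∈ J, ∃ z, u z = y ∧ v z = 0 := fun y hy => by
    refine Submodule.mul_induction_on hy (fun m hm y hy => ?_) fun a b ha hb => ?_
    · obtain ⟨z, rfl⟩ := huK y hy
      exact ⟨m • z, hum m z, hmv m hm z⟩
    · obtain ⟨a', rfl, ha⟩ := ha
      obtain ⟨b', rfl, hb⟩ := hb
      exact ⟨a' + b', map_add u _ _, by rw [map_add, ha, hb, add_zero]⟩
  obtain ⟨z, hz₁, hz₂⟩ := hgen _ hzero
  rw [← hu' hz₁, hz₂]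

theorem formallySmooth_of_hasSHLifts {C B : Type u} [CommRing C] [CommRing B] [Algebra C B]
    [Algebra.FinitePresentation C B] (h : HasSHLifts (algebraMap C B)) : Algebra.FormallySmooth C B :=
  Algebra.smoothLocus_eq_univ_iff.mp (Set.eq_univ_of_forall fun p => isSmoothAt_of_hasSHLifts h p.asIdeal)

end Groth.Agent.IsoNatLib
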