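import Groth.Agent.IsoNatLib.Gadget
import Mathlib.Data.Fin.VecNotation
import Mathlib.Tactic.FinCases

/-!
# Automorphism groups from classes of loops
-/

set_option autoImplicit false
set_option backward.isDefEq.respectTransparency false
set_option backward.isDefEq.respectTransparency.types false

universe v₃ u₃ v₂ u₂ v u

open CategoryTheory CategoryTheory.Functor CategoryTheory.Limits Groth.Agent.FibBase Groth.Agent.StkLib

namespace Groth.Agent.IsoNatLib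

variable {C : Type u} [Category.{v} C] {J : GrothendieckTopology C} {T : C}

variable (J T) in
/-- Loops with two and three branches and the three inclusions. -/
structure GadgetSys where
  /-- the branch -/
  L : Dbl J T
  /-- the origin -/
  z : Over.mk (𝟙 T) ⟶ L.U
  /-- two branches -/
  D₂ : Gadget L z 2
  /-- three branches -/
  D₃ : Gadget L z 3
  /-- branches 0, 1 -/
  f₀₁ : GadgetHom D₂ D₃ ![0, 1]
  /-- branches 0, 2 -/
  f₀₂ : GadgetHom D₂ D₃ ![0, 2]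
  /-- branches 1, 2 -/
  f₁₂ : GadgetHom D₂ D₃ ![1, 2]

variable {𝒳 : BasedCategory.{v₂, u₂} C} [hf : FibCat.IsFibGrpd 𝒳.p] {𝒴 : BasedCategory.{v₃, u₃} C}
  [hg : FibCat.IsFibGrpd 𝒴.p]

variable (𝒳 𝒴) in
/-- A natural bijection of classes. -/
structure ClsIso where
  /-- the bijection -/
  eqv : ∀ V : C, Cls 𝒳 V ≃ Cls 𝒴 V
  nat : ∀ {V V' : C} (g : V' ⟶ V) (c : Cls 𝒳 V), eqv V' (pull g c) = pull g (eqv V c)

/-- The inverse bijection. -/
def ClsIso.symm (ψ : ClsIso 𝒳 𝒴) : ClsIso 𝒴 𝒳 where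
  eqv V := (ψ.eqv V).symm
  nat {V V'} g c := by
    apply (ψ.eqv V').injective
    rw [Equiv.apply_symm_apply, ψ.nat, Equiv.apply_symm_apply]

variable (hst : Stk.IsStack J 𝒳) (K : FibCat.overCat T ⥤ᵇ 𝒳) (S : GadgetSys J T)

lemma triv_eq_pull (V : Over T) : triv K V = pull V.hom (triv K (Over.mk (𝟙 T))) :=
  (pull_triv (toId V)).symm

/-- Loop classes as a type. -/
abbrev Loops {L : Dbl J T} {z : Over.mk (𝟙 T) ⟶ L.U} {n : ℕ} (D : Gadget L z n) :=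
  {c : Cls 𝒳 D.D.Z.left // IsLoop D K c}

include hst in
lemma subsingleton_loops_iff (hinj : Function.Injective (res (K := K) S.L.j)) :
    Subsingleton (Loops K S.D₂) ↔ Subsingleton (AutAt K (Over.mk (𝟙 T))) := by
  constructor
  · intro h
    refine ⟨fun x y => ?_⟩
    suffices ∀ x : AutAt K (Over.mk (𝟙 T)), x = 1 by rw [this x, this y]
    intro x
    have e : Φ hst S.D₂ ![x, 1] = Φ hst S.D₂ (fun _ => (1 : AutAt K (Over.mk (𝟙 T)))) :=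
      congrArg Subtype.val (Subsingleton.elim (⟨_, isLoop_Φ hst S.D₂ ![x, 1]⟩ : Loops K S.D₂)
        ⟨_, isLoop_Φ hst S.D₂ _⟩)
    obtain ⟨g, k, he⟩ := (Φ_eq_iff hst S.D₂ hinj _ _).1 e
    have h1 : (1 : AutAt K (Over.mk (𝟙 T))) = g * x * k⁻¹ := he 0
    have h2 : (1 : AutAt K (Over.mk (𝟙 T))) = g * 1 * k⁻¹ := he 1
    rw [mul_one] at h2
    obtain rfl := mul_inv_eq_one.1 h2.symm
    rw [eq_mul_inv_iff_mul_eq, one_mul] at h1
    exact mul_left_cancel (h1.symm.trans (mul_one g).symm)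
  · intro h
    refine ⟨fun c c' => Subtype.ext ?_⟩
    obtain ⟨t, ht⟩ := exists_Φ_eq hst S.D₂ hinj c.2
    obtain ⟨t', ht'⟩ := exists_Φ_eq hst S.D₂ hinj c'.2
    rw [← ht, ← ht', Subsingleton.elim t t']

/-- Restriction of the classes with three branches to two pairs is injective. -/
def PairInj : Prop :=
  ∀ c c' : Loops K S.D₃, pull S.f₀₁.hom.Z.left c.1 = pull S.f₀₁.hom.Z.left c'.1 →
    pull S.f₀₂.hom.Z.left c.1 = pull S.f₀₂.hom.Z.left c'.1 → c = c'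

include hst in
lemma pairInj_iff (hinj : Function.Injective (res (K := K) S.L.j)) :
    PairInj K S ↔ ∀ x y : AutAt K (Over.mk (𝟙 T)), x * y = y * x := by
  constructor
  · intro h a x
    have := h ⟨_, isLoop_Φ hst S.D₃ ![1, x, x]⟩ ⟨_, isLoop_Φ hst S.D₃ ![1, x, a * x * a⁻¹]⟩
      (by
        simp only [pull_Φ hst S.D₃]
        exact (Φ_eq_iff hst S.D₂ hinj _ _).2 ⟨1, 1, fun i => by fin_cases i <;> simp⟩)
      (by
        simp only [pull_Φ hst S.D₃]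
        exact (Φ_eq_iff hst S.D₂ hinj _ _).2 ⟨a, a, fun i => by fin_cases i <;> simp⟩)
    obtain ⟨g, k, he⟩ := (Φ_eq_iff hst S.D₃ hinj _ _).1 (congrArg Subtype.val this)
    have h0 : (1 : AutAt K (Over.mk (𝟙 T))) = g * 1 * k⁻¹ := he 0
    have h1 : x = g * x * k⁻¹ := he 1
    have h2 : a * x * a⁻¹ = g * x * k⁻¹ := he 2
    have := h2.trans h1.symm
    rwa [mul_inv_eq_iff_eq_mul] at this
  · intro hc c c' e₁ e₂
    obtain ⟨t, ht⟩ := exists_Φ_eq hst S.D₃ hinj c.2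
    obtain ⟨t', ht'⟩ := exists_Φ_eq hst S.D₃ hinj c'.2
    refine Subtype.ext ?_
    rw [← ht, ← ht'] at e₁ e₂ ⊢
    rw [pull_Φ hst S.D₃, pull_Φ hst S.D₃, Φ_eq_iff hst S.D₂ hinj] at e₁ e₂
    obtain ⟨g₁, k₁, h₁⟩ := e₁
    obtain ⟨g₂, k₂, h₂⟩ := e₂
    refine (Φ_eq_iff hst S.D₃ hinj _ _).2 ⟨g₁, k₁, fun i => ?_⟩
    fin_cases i
    · exact h₁ 0
    · exact h₁ 1
    · have a0 : t' 0 = g₁ * t 0 * k₁⁻¹ := h₁ 0
      have b0 : t' 0 = g₂ * t 0 * k₂⁻¹ := h₂ 0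
      have b2 : t' 2 = g₂ * t 2 * k₂⁻¹ := h₂ 1
      letI : CommGroup (AutAt K (Over.mk (𝟙 T))) := { (inferInstance : Group _) with mul_comm := hc }
      have : g₁ * k₁⁻¹ = g₂ * k₂⁻¹ := by
        refine mul_right_cancel (b := t 0) ?_
        rw [mul_right_comm, ← a0, b0, mul_right_comm]
      show t' 2 = g₁ * t 2 * k₁⁻¹
      rw [b2, mul_right_comm, ← this, mul_right_comm]

include hst in
lemma Φ₂_eq_iff {K : FibCat.overCat T ⥤ᵇ 𝒳} (hinj : Function.Injective (res (K := K) S.L.j))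
    (hc : ∀ x y : AutAt K (Over.mk (𝟙 T)), x * y = y * x) (t t' : Fin 2 → AutAt K (Over.mk (𝟙 T))) :
    Φ hst S.D₂ t = Φ hst S.D₂ t' ↔ (t 0)⁻¹ * t 1 = (t' 0)⁻¹ * t' 1 := by
  letI : CommGroup (AutAt K (Over.mk (𝟙 T))) := { (inferInstance : Group _) with mul_comm := hc }
  rw [Φ_eq_iff hst S.D₂ hinj]
  constructor
  · rintro ⟨g, k, h⟩
    rw [h 0, h 1, mul_inv_rev, mul_inv_rev, inv_inv]
    calc (t 0)⁻¹ * t 1 = (k * k⁻¹) * (g⁻¹ * g) * ((t 0)⁻¹ * t 1) := by simp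
      _ = k * ((t 0)⁻¹ * g⁻¹) * (g * t 1 * k⁻¹) := by ac_rfl
  · intro h
    refine ⟨t' 0 * (t 0)⁻¹, 1, fun i => ?_⟩
    rw [inv_one, mul_one]
    fin_cases i
    · exact (inv_mul_cancel_right _ _).symm
    · show t' 1 = t' 0 * (t 0)⁻¹ * t 1
      rw [mul_assoc, h, mul_inv_cancel_left]

variable {K} {K' : FibCat.overCat T ⥤ᵇ 𝒴} (ψ : ClsIso 𝒳 𝒴)
  (hψ : ψ.eqv T (triv K (Over.mk (𝟙 T))) = triv K' (Over.mk (𝟙 T)))

include hψ

omit hst in
lemma eqv_triv (V : Over T) : ψ.eqv V.left (triv K V) = triv K' V := by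
  rw [triv_eq_pull, ψ.nat, triv_eq_pull K']
  exact congrArg _ hψ

omit hst in
lemma isLoop_eqv {n : ℕ} {L : Dbl J T} {z : Over.mk (𝟙 T) ⟶ L.U} (D : Gadget L z n) (c : Cls 𝒳 D.D.Z.left) :
    IsLoop D K c ↔ IsLoop D K' (ψ.eqv _ c) := by
  simp only [IsLoop]
  constructor
  · rintro ⟨a, b, h⟩
    exact ⟨by rw [← ψ.nat, a, eqv_triv ψ hψ], by rw [← ψ.nat, b, eqv_triv ψ hψ],
      fun i => by rw [← ψ.nat, h i, eqv_triv ψ hψ]⟩
  · rintro ⟨a, b, h⟩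
    exact ⟨(ψ.eqv _).injective (by rw [ψ.nat, a, eqv_triv ψ hψ]),
      (ψ.eqv _).injective (by rw [ψ.nat, b, eqv_triv ψ hψ]),
      fun i => (ψ.eqv _).injective (by rw [ψ.nat, h i, eqv_triv ψ hψ])⟩

/-- Transport of loop classes. -/
def loopsEquiv {n : ℕ} {L : Dbl J T} {z : Over.mk (𝟙 T) ⟶ L.U} (D : Gadget L z n) : Loops K D ≃ Loops K' D :=
  (ψ.eqv D.D.Z.left).subtypeEquiv (isLoop_eqv ψ hψ D)

variable (hst' : Stk.IsStack J 𝒴) (hinj : Function.Injective (res (K := K) S.L.j))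
  (hinj' : Function.Injective (res (K := K') S.L.j))

include hst hst' hinj hinj'

theorem subsingleton_aut_iff :
    Subsingleton (AutAt K (Over.mk (𝟙 T))) ↔ Subsingleton (AutAt K' (Over.mk (𝟙 T))) := by
  rw [← subsingleton_loops_iff hst K S hinj, ← subsingleton_loops_iff hst' K' S hinj']
  exact (loopsEquiv ψ hψ S.D₂).subsingleton_congr

theorem comm_aut_iff :
    (∀ x y : AutAt K (Over.mk (𝟙 T)), x * y = y * x) ↔ ∀ x y : AutAt K' (Over.mk (𝟙 T)), x * y = y * x := by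
  rw [← pairInj_iff hst K S hinj, ← pairInj_iff hst' K' S hinj']
  constructor
  · intro h c c' e₁ e₂
    obtain ⟨c, rfl⟩ := (loopsEquiv ψ hψ S.D₃).surjective c
    obtain ⟨c', rfl⟩ := (loopsEquiv ψ hψ S.D₃).surjective c'
    refine congrArg _ (h c c' ((ψ.eqv _).injective ?_) ((ψ.eqv _).injective ?_))
    · rw [ψ.nat, ψ.nat]; exact e₁
    · rw [ψ.nat, ψ.nat]; exact e₂
  · intro h c c' e₁ e₂
    refine (loopsEquiv ψ hψ S.D₃).injective (h _ _ ?_ ?_)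
    · show pull _ (ψ.eqv _ c.1) = pull _ (ψ.eqv _ c'.1)
      rw [← ψ.nat, e₁, ψ.nat]
    · show pull _ (ψ.eqv _ c.1) = pull _ (ψ.eqv _ c'.1)
      rw [← ψ.nat, e₂, ψ.nat]

theorem exists_mulEquiv_spec (hc : ∀ x y : AutAt K (Over.mk (𝟙 T)), x * y = y * x) :
    ∃ m : AutAt K (Over.mk (𝟙 T)) ≃* AutAt K' (Over.mk (𝟙 T)),
      ∀ x, ψ.eqv _ (Φ hst S.D₂ ![1, x]) = Φ hst' S.D₂ ![1, m x] := by
  have hc' := (comm_aut_iff hst S ψ hψ hst' hinj hinj').1 hc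
  have keyX := Φ₂_eq_iff hst S hinj hc
  have keyY := Φ₂_eq_iff hst' S hinj' hc'
  have ex : ∀ x : AutAt K (Over.mk (𝟙 T)), ∃ y : AutAt K' (Over.mk (𝟙 T)),
      ψ.eqv _ (Φ hst S.D₂ ![1, x]) = Φ hst' S.D₂ ![1, y] := fun x => by
    obtain ⟨t, ht⟩ := exists_Φ_eq hst' S.D₂ hinj' ((isLoop_eqv ψ hψ S.D₂ _).1 (isLoop_Φ hst S.D₂ ![1, x]))
    exact ⟨(t 0)⁻¹ * t 1, ht.symm.trans ((keyY _ _).2 (by simp))⟩
  choose f hf using ex
  have hfeq : ∀ t : Fin 2 → AutAt K (Over.mk (𝟙 T)),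
      ψ.eqv _ (Φ hst S.D₂ t) = Φ hst' S.D₂ ![1, f ((t 0)⁻¹ * t 1)] := fun t => by
    rw [← hf, (keyX t ![1, (t 0)⁻¹ * t 1]).2 (by simp)]
  have hinjf : Function.Injective f := fun x y e => by
    have h := hf x
    rw [e, ← hf y] at h
    simpa using (keyX _ _).1 ((ψ.eqv _).injective h)
  have hsurjf : Function.Surjective f := fun y => by
    obtain ⟨c, hc₁⟩ := (loopsEquiv ψ hψ S.D₂).surjective ⟨_, isLoop_Φ hst' S.D₂ ![1, y]⟩
    obtain ⟨t, ht⟩ := exists_Φ_eq hst S.D₂ hinj c.2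
    refine ⟨(t 0)⁻¹ * t 1, ?_⟩
    have : ψ.eqv _ c.1 = Φ hst' S.D₂ ![1, y] := congrArg Subtype.val hc₁
    rw [← ht, hfeq] at this
    simpa using (keyY _ _).1 this
  have hmul : ∀ x y, f (x * y) = f x * f y := fun x y => by
    obtain ⟨t', ht'⟩ := exists_Φ_eq hst' S.D₃ hinj'
      ((isLoop_eqv ψ hψ S.D₃ _).1 (isLoop_Φ hst S.D₃ ![1, x, x * y]))
    have e : ∀ (e : Fin 2 → Fin 3) (F : GadgetHom S.D₂ S.D₃ e),
        (t' (e 0))⁻¹ * t' (e 1) = f ((![1, x, x * y] (e 0))⁻¹ * ![1, x, x * y] (e 1)) := fun e F => by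
      have h := congrArg (pull F.hom.Z.left) ht'
      rw [pull_Φ hst' S.D₃, ← ψ.nat, pull_Φ hst S.D₃, hfeq] at h
      simpa using (keyY _ _).1 h
    have a := e _ S.f₀₁
    have b := e _ S.f₁₂
    have c := e _ S.f₀₂
    simp at a b c
    rw [← a, ← b, ← c, mul_assoc, mul_inv_cancel_left]
  exact ⟨{ toEquiv := Equiv.ofBijective f ⟨hinjf, hsurjf⟩, map_mul' := hmul }, hf⟩

theorem nonempty_mulEquiv (hc : ∀ x y : AutAt K (Over.mk (𝟙 T)), x * y = y * x) :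
    Nonempty (AutAt K (Over.mk (𝟙 T)) ≃* AutAt K' (Over.mk (𝟙 T))) :=
  let ⟨m, _⟩ := exists_mulEquiv_spec hst S ψ hψ hst' hinj hinj' hc
  ⟨m⟩

end Groth.Agent.IsoNatLib
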