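import Groth.Agent.IsoNatLib.Axes
import Groth.Agent.IsoNatLib.Recover
import Groth.Prelude.Def_AlgSp

/-!
# Loop gadgets over the big fppf site
-/

set_option autoImplicit false
set_option backward.isDefEq.respectTransparency false
set_option backward.isDefEq.respectTransparency.types false

universe u

open CategoryTheory CategoryTheory.Limits AlgebraicGeometry AlgSp Groth.Agent.FibBase

namespace Groth.Agent.IsoNatLib

variable {S : Scheme.{u}}

/-- A jointly surjective family of open immersions covers. -/
theorem mem_J_of_openImm {ι : Type u} {U : Over S} (V : ι → Over S) (v : ∀ i, V i ⟶ U)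
    (hv : ∀ i, IsOpenImmersion (v i).left) (hs : ∀ x : U.left, ∃ i, x ∈ Set.range (v i).left)
    (R : Sieve U) (hR : ∀ i, R (v i)) : R ∈ J S U := by
  rw [GrothendieckTopology.mem_over_iff]
  have hm : Presieve.ofArrows (fun i => (V i).left) (fun i => (v i).left) ∈
      Scheme.precoverage (@Flat ⊓ @LocallyOfFinitePresentation) U.left :=
    (Scheme.ofArrows_mem_precoverage_iff _).2 ⟨hs, fun i => have := hv i; ⟨inferInstance, inferInstance⟩⟩
  refine GrothendieckTopology.superset_covering _ ?_ (Precoverage.generate_mem_toGrothendieck hm)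
  rintro Z _ ⟨Y, a, _, ⟨i⟩, rfl⟩
  rw [Sieve.overEquiv_iff]
  convert R.downward_closed (hR i) (Over.homMk (U := Over.mk ((a ≫ (v i).left) ≫ U.hom)) (V := V i) a
    (by simp)) using 1
  ext; simp

/-- Nothing covers the empty scheme. -/
theorem bot_mem_J {V : Over S} (h : IsEmpty V.left) : (⊥ : Sieve V) ∈ J S V :=
  mem_J_of_openImm (ι := PEmpty.{u + 1}) (fun i => i.elim) (fun i => i.elim) (fun i => i.elim)
    (fun x => h.elim x) _ fun i => i.elim

/-- The map to the spectrum of the integers. -/
noncomputable abbrev toPt (X : Scheme.{u}) : X ⟶ Spec (.of kk.{u}) := specULiftZIsTerminal.from X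

variable (T : Over S)

/-- The product with a scheme, over `S`. -/
noncomputable abbrev prodS (A : Scheme.{u}) : Over S :=
  Over.mk (pullback.fst (toPt T.left) (toPt A) ≫ T.hom)

/-- The product with a scheme, over `T`. -/
noncomputable abbrev prodT (A : Scheme.{u}) : Over T :=
  Over.mk (Over.homMk (pullback.fst (toPt T.left) (toPt A)) rfl : prodS T A ⟶ T)

variable {A B D : Scheme.{u}}

/-- The product with a morphism, of schemes. -/
noncomputable abbrev prodL (f : A ⟶ B) :
    pullback (toPt T.left) (toPt A) ⟶ pullback (toPt T.left) (toPt B) :=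
  pullback.lift (pullback.fst _ _) (pullback.snd _ _ ≫ f) (specULiftZIsTerminal.hom_ext _ _)

/-- The product with a morphism. -/
noncomputable def prodMap (f : A ⟶ B) : prodT T A ⟶ prodT T B :=
  Over.homMk (Over.homMk (prodL T f) (by simp)) (by ext; simp)

lemma prodMap_left (f : A ⟶ B) : (prodMap T f).left.left = prodL T f := rfl

lemma prodMap_comp (f : A ⟶ B) (g : B ⟶ D) : prodMap T f ≫ prodMap T g = prodMap T (f ≫ g) := by
  apply Over.OverMorphism.ext
  apply Over.OverMorphism.ext
  show prodL T f ≫ prodL T g = prodL T (f ≫ g)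
  apply pullback.hom_ext <;> simp

lemma prodMap_id : prodMap T (𝟙 A) = 𝟙 _ := by
  apply Over.OverMorphism.ext
  apply Over.OverMorphism.ext
  show prodL T (𝟙 A) = 𝟙 _
  apply pullback.hom_ext <;> simp

lemma prodT_hom_ext {V : Over T} (f g : V ⟶ prodT T A)
    (h : f.left.left ≫ pullback.snd (toPt T.left) (toPt A) = g.left.left ≫ pullback.snd _ _) : f = g := by
  apply Over.OverMorphism.ext
  apply Over.OverMorphism.ext
  exact pullback.hom_ext
    ((congrArg CommaMorphism.left (Over.w f)).trans (congrArg CommaMorphism.left (Over.w g)).symm) h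

lemma isPullback_prodL (f : A ⟶ B) :
    IsPullback (pullback.snd (toPt T.left) (toPt A)) (prodL T f) f (pullback.snd (toPt T.left) (toPt B)) := by
  refine IsPullback.of_bot ?_ (by simp [prodL]) (IsPullback.of_hasPullback (toPt T.left) (toPt B)).flip
  simpa [prodL, specULiftZIsTerminal.hom_ext (f ≫ toPt B) (toPt A)] using
    (IsPullback.of_hasPullback (toPt T.left) (toPt A)).flip

instance (f : A ⟶ B) [IsOpenImmersion f] : IsOpenImmersion (prodL T f) :=
  MorphismProperty.of_isPullback (P := @IsOpenImmersion) (isPullback_prodL T f) inferInstance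

lemma range_prodL (f : A ⟶ B) : Set.range (prodL T f) = (pullback.snd (toPt T.left) (toPt B)) ⁻¹' Set.range f := by
  rw [← (isPullback_prodL T f).isoPullback_hom_snd, Scheme.Hom.comp_base, TopCat.coe_comp, Set.range_comp,
    Set.range_eq_univ.2 ?_, Set.image_univ, Scheme.Pullback.range_snd]
  exact (isPullback_prodL T f).isoPullback.hom.homeomorph.surjective

lemma mem_range_prodL (f : A ⟶ B) (x : ↥(pullback (toPt T.left) (toPt B))) :
    x ∈ Set.range (prodL T f) ↔ pullback.snd (toPt T.left) (toPt B) x ∈ Set.range f := by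
  rw [range_prodL]; rfl

section Dbl

variable {W U : Scheme.{u}} (j : W ⟶ U) [IsOpenImmersion j]

lemma mem_range_inl_iff (x : U) : pushout.inr j j x ∈ Set.range (pushout.inl j j) ↔ x ∈ Set.range j := by
  refine ⟨fun ⟨y, hy⟩ => ?_, ?_⟩
  · obtain ⟨rfl, h⟩ := eq_of_inl_eq_inr j hy
    exact h
  · rintro ⟨z, rfl⟩
    exact ⟨j z, by rw [← Scheme.Hom.comp_apply, ← Scheme.Hom.comp_apply, pushout.condition]⟩

lemma isPullback_prodL_dbl :
    IsPullback (prodL T j) (prodL T j) (prodL T (pushout.inl j j)) (prodL T (pushout.inr j j)) :=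
  IsOpenImmersion.isPullback _ _ _ _ (pullback.hom_ext (by simp) (by simp [pushout.condition]))
    (TopologicalSpace.Opens.ext (Set.ext fun x => by
      show prodL T (pushout.inr j j) x ∈ Set.range (prodL T (pushout.inl j j)) ↔ x ∈ Set.range (prodL T j)
      rw [mem_range_prodL, mem_range_prodL, ← Scheme.Hom.comp_apply, pullback.lift_snd, Scheme.Hom.comp_apply]
      exact mem_range_inl_iff j _))

/-- The doubled product. -/
noncomputable def dblT : Dbl (J S) T where
  U := prodT T U
  W := prodT T W
  Z := prodT T (dblS j)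
  i₁ := prodMap T (pushout.inl j j)
  i₂ := prodMap T (pushout.inr j j)
  j := prodMap T j
  mono₁ := (Over.forget S).mono_of_mono_map (inferInstanceAs (Mono (prodL T (pushout.inl j j))))
  mono₂ := (Over.forget S).mono_of_mono_map (inferInstanceAs (Mono (prodL T (pushout.inr j j))))
  sq := IsPullback.of_map (Over.forget S) (by
    apply Over.OverMorphism.ext
    exact (isPullback_prodL_dbl T j).w) (isPullback_prodL_dbl T j)
  cov := by
    refine mem_J_of_openImm (ι := ULift.{u} Bool) (fun _ => prodS T U)
      (fun i => bif i.down then (prodMap T (pushout.inl j j)).left else (prodMap T (pushout.inr j j)).left)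
      (fun i => ?_) (fun x => ?_) _ (fun i => ?_)
    · rcases i with ⟨_ | _⟩
      · exact inferInstanceAs (IsOpenImmersion (prodL T (pushout.inr j j)))
      · exact inferInstanceAs (IsOpenImmersion (prodL T (pushout.inl j j)))
    · rcases dblS_jointly_surjective j (pullback.snd (toPt T.left) (toPt (dblS j)) x) with h | h
      · exact ⟨⟨true⟩, (mem_range_prodL T _ x).2 h⟩
      · exact ⟨⟨false⟩, (mem_range_prodL T _ x).2 h⟩
    · rcases i with ⟨_ | _⟩
      · exact Or.inr ⟨𝟙 _, Category.id_comp _⟩
      · exact Or.inl ⟨𝟙 _, Category.id_comp _⟩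

variable {W' U' : Scheme.{u}} (j' : W' ⟶ U') [IsOpenImmersion j']

/-- A morphism of doubled products. -/
noncomputable def dblTHom (fU : U ⟶ U') (fW : W ⟶ W') (w : j ≫ fU = fW ≫ j') :
    DblHom (dblT T j) (dblT T j') where
  U := prodMap T fU
  W := prodMap T fW
  Z := prodMap T (pushout.map j j j' j' fU fU fW w w)
  w₁ := by simp [dblT, prodMap_comp]
  w₂ := by simp [dblT, prodMap_comp]
  wj := by simp only [dblT, prodMap_comp, w]

end Dbl

/-- The origin of the line. -/
noncomputable abbrev linePt : Spec (.of kk.{u}) ⟶ lineS.{u} := Spec.map (CommRingCat.ofHom originHom)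

/-- A point times `T`. -/
noncomputable def ptSec (p : Spec (.of kk.{u}) ⟶ A) : Over.mk (𝟙 T) ⟶ prodT T A :=
  Over.homMk (Over.homMk (pullback.lift (𝟙 T.left) (toPt T.left ≫ p) (specULiftZIsTerminal.hom_ext _ _))
    ((pullback.lift_fst_assoc _ _ _ _).trans (Category.id_comp _))) (by ext; simp)

lemma ptSec_prodMap (p : Spec (.of kk.{u}) ⟶ A) (f : A ⟶ B) : ptSec T p ≫ prodMap T f = ptSec T (p ≫ f) := by
  apply prodT_hom_ext
  simp [ptSec, prodMap]

lemma prodMap_toPt_comp (p : Spec (.of kk.{u}) ⟶ B) :
    prodMap T (toPt A ≫ p) = toId (prodT T A) ≫ ptSec T p := by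
  apply prodT_hom_ext
  simp [ptSec, prodMap, toId]
  rw [← Category.assoc, ← Category.assoc]
  congr 1
  exact specULiftZIsTerminal.hom_ext _ _

/-- The doubled line. -/
noncomputable abbrev lineDbl : Dbl (J S) T := dblT T gmToLine

/-- The origin on the line. -/
noncomputable abbrev lineZero : Over.mk (𝟙 T) ⟶ (lineDbl T).U := ptSec T linePt

/-- The gadget with `n` axes. -/
noncomputable def axesGadget {n : ℕ} (a₀ : Fin n) : Gadget (lineDbl T) (lineZero T) n where
  D := dblT T (branchesOpen.{u} n).ι
  β a := dblTHom T _ _ (axisMap a) (branchIn a) (by rw [gmToLine_axisMap, branchIn_ι])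
  ρ a := prodMap T (Spec.map (CommRingCat.ofHom (axisRetr a)))
  o := ptSec T (linePt ≫ axisMap a₀)
  zβ a := by
    show ptSec T linePt ≫ prodMap T (axisMap a) = _
    rw [ptSec_prodMap, ← Spec.map_comp, ← Spec.map_comp, ← CommRingCat.ofHom_comp, ← CommRingCat.ofHom_comp,
      origin_axisProj a a₀]
  ρβ a := by
    show prodMap T (axisMap a) ≫ prodMap T _ = 𝟙 (prodT T _)
    rw [prodMap_comp, ← Spec.map_comp, ← CommRingCat.ofHom_comp, axisProj_comp_retr]
    simp [prodMap_id]
  ρβne a b hab := by
    show prodMap T (axisMap a) ≫ prodMap T _ = toId (prodT T _) ≫ ptSec T linePt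
    rw [prodMap_comp, ← Spec.map_comp, ← CommRingCat.ofHom_comp, axisProj_comp_retr_ne hab,
      CommRingCat.ofHom_comp, Spec.map_comp, ← prodMap_toPt_comp,
      specULiftZIsTerminal.hom_ext (Spec.map (CommRingCat.ofHom Polynomial.C)) (toPt lineS)]
  cov := by
    refine mem_J_of_openImm (ι := ULift.{u} (Fin n)) (fun _ => prodS T gmS)
      (fun a => (prodMap T (branchIn a.down)).left)
      (fun a => inferInstanceAs (IsOpenImmersion (prodL T (branchIn a.down)))) (fun x => ?_) _
      (fun a => Sieve.ofArrows_mk _ _ a.down)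
    obtain ⟨a, h⟩ := branchIn_jointly_surjective (pullback.snd (toPt T.left) (toPt _) x)
    exact ⟨⟨a⟩, (mem_range_prodL T _ x).2 h⟩
  monoW a := (Over.forget S).mono_of_mono_map (show Mono (prodL T (branchIn a)) from inferInstance)
  disj a b hab {V} g g' h := by
    refine bot_mem_J ⟨fun x => hab ?_⟩
    have h' : (g.left ≫ prodL T (branchIn a)) ≫ pullback.snd _ _ =
        (g'.left ≫ prodL T (branchIn b)) ≫ pullback.snd _ _ :=
      congrArg (fun φ => CommaMorphism.left φ ≫ pullback.snd _ _) h
    simp only [Category.assoc, pullback.lift_snd] at h'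
    exact eq_of_branchIn_eq (congrArg (fun φ : V.left ⟶ _ => φ x) h')

/-- The inclusion of some of the axes. -/
noncomputable def axesGadgetHom {m n : ℕ} (b₀ : Fin m) (a₀ : Fin n) (e : Fin m → Fin n) :
    GadgetHom (axesGadget T b₀) (axesGadget T a₀) e where
  hom := dblTHom T _ _ (Spec.map (CommRingCat.ofHom (axesMap e)))
    (IsOpenImmersion.lift (branchesOpen.{u} n).ι _ (branchesOpen_axesMap e)) (IsOpenImmersion.lift_fac _ _ _).symm
  w b := by
    show prodMap T (branchIn b) ≫ prodMap T _ = prodMap T (branchIn (e b))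
    rw [prodMap_comp]
    congr 1
    rw [← cancel_mono (branchesOpen.{u} n).ι, Category.assoc, IsOpenImmersion.lift_fac, branchIn_ι,
      branchIn_ι_assoc, branchMap_axesMap]

/-- The loop gadgets over a scheme. -/
noncomputable def gadgetSys : GadgetSys (J S) T where
  L := lineDbl T
  z := lineZero T
  D₂ := axesGadget T 0
  D₃ := axesGadget T 0
  f₀₁ := axesGadgetHom T 0 0 _
  f₀₂ := axesGadgetHom T 0 0 _
  f₁₂ := axesGadgetHom T 0 0 _

end Groth.Agent.IsoNatLib
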