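import Mathlib.AlgebraicGeometry.Limits
import Mathlib.AlgebraicGeometry.Restrict
import Mathlib.AlgebraicGeometry.Gluing
import Mathlib.Algebra.Polynomial.Laurent
import Mathlib.Algebra.Polynomial.Eval.Defs
import Mathlib.CategoryTheory.Limits.Shapes.Pullback.IsPullback.Basic

/-!
# Doubled schemes and the coordinate axes
-/

set_option autoImplicit false
set_option backward.isDefEq.respectTransparency false
set_option backward.isDefEq.respectTransparency.types false

universe u

open CategoryTheory CategoryTheory.Limits AlgebraicGeometry Polynomial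
open scoped LaurentPolynomial

namespace Groth.Agent.IsoNatLib

section Doubled

variable {W U : Scheme.{u}} (j : W ⟶ U) [IsOpenImmersion j]

/-- The scheme obtained by gluing two copies along an open subscheme. -/
noncomputable abbrev dblS : Scheme.{u} := pushout j j

/-- The projection to one copy. -/
noncomputable abbrev dblFold : dblS j ⟶ U := pushout.desc (𝟙 U) (𝟙 U) rfl

instance : IsOpenImmersion (pushout.inl j j) := inferInstanceAs (IsOpenImmersion (colimit.ι _ _))

instance : IsOpenImmersion (pushout.inr j j) := inferInstanceAs (IsOpenImmersion (colimit.ι _ _))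

lemma dblS_jointly_surjective (x : dblS j) :
    x ∈ Set.range (pushout.inl j j) ∨ x ∈ Set.range (pushout.inr j j) := by
  obtain ⟨i, y, rfl⟩ := Scheme.IsLocallyDirected.ι_jointly_surjective (span j j) x
  rcases i with _ | (_ | _)
  · refine Or.inl ⟨j y, ?_⟩
    rw [← colimit.w (span j j) WalkingSpan.Hom.fst]
    rfl
  · exact Or.inl ⟨y, rfl⟩
  · exact Or.inr ⟨y, rfl⟩

lemma eq_of_inl_eq_inr {x y : U} (h : pushout.inl j j x = pushout.inr j j y) : x = y ∧ x ∈ Set.range j := by
  refine ⟨?_, ?_⟩
  · have := congrArg (dblFold j) h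
    rwa [← Scheme.Hom.comp_apply, ← Scheme.Hom.comp_apply, pushout.inl_desc, pushout.inr_desc] at this
  · obtain ⟨k, fi, fj, z, hz, -⟩ := (Scheme.IsLocallyDirected.ι_eq_ι_iff (span j j)).1 h
    rcases k with _ | (_ | _)
    · obtain rfl : fi = WalkingSpan.Hom.fst := Subsingleton.elim _ _
      exact ⟨z, hz⟩
    · exact (nomatch fj)
    · exact (nomatch fi)

lemma isPullback_dblS : IsPullback j j (pushout.inl j j) (pushout.inr j j) :=
  IsOpenImmersion.isPullback _ _ _ _ pushout.condition.symm (TopologicalSpace.Opens.ext (Set.ext fun x => by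
    show pushout.inr j j x ∈ Set.range (pushout.inl j j) ↔ x ∈ Set.range j
    refine ⟨fun ⟨y, hy⟩ => ?_, ?_⟩
    · obtain ⟨rfl, h⟩ := eq_of_inl_eq_inr j hy
      exact h
    · rintro ⟨z, rfl⟩
      exact ⟨j z, by rw [← Scheme.Hom.comp_apply, ← Scheme.Hom.comp_apply, pushout.condition]⟩))

end Doubled

/-- The integers. -/
abbrev kk : Type u := ULift.{u} ℤ

/-- Functions on the axes: tuples of polynomials with equal constant terms. -/
noncomputable def axesRing (n : ℕ) : Subring (Fin n → (kk.{u})[X]) where
  carrier := {f | ∀ a b, (f a).eval 0 = (f b).eval 0}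
  one_mem' := by intro a b; simp
  mul_mem' := by intro f g hf hg a b; simp [eval_mul, hf a b, hg a b]
  zero_mem' := by intro a b; simp
  add_mem' := by intro f g hf hg a b; simp [eval_add, hf a b, hg a b]
  neg_mem' := by intro f hf a b; simp [eval_neg, hf a b]

variable {n : ℕ}

/-- The projection to an axis. -/
noncomputable def axisProj (a : Fin n) : axesRing.{u} n →+* (kk.{u})[X] := (Pi.evalRingHom _ a).comp (axesRing n).subtype

/-- The coordinate of an axis. -/
noncomputable def coord (a : Fin n) : axesRing.{u} n :=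
  ⟨Pi.single a X, fun b c => by
    have : ∀ d, eval 0 (Pi.single (M := fun _ : Fin n => (kk.{u})[X]) a X d) = 0 := fun d => by
      by_cases hd : d = a
      · subst hd; simp
      · simp [Pi.single_eq_of_ne hd]
    rw [this, this]⟩

lemma axisProj_coord (a : Fin n) : axisProj.{u} a (coord a) = X := by simp [axisProj, coord]

lemma axisProj_coord_ne {a b : Fin n} (h : a ≠ b) : axisProj.{u} a (coord b) = 0 := by
  simp [axisProj, coord, Pi.single_eq_of_ne h]

/-- The retraction to an axis. -/
noncomputable def axisRetr (a : Fin n) : (kk.{u})[X] →+* axesRing.{u} n :=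
  eval₂RingHom ((Int.castRingHom _).comp ULift.ringEquiv.toRingHom) (coord a)

lemma kk_ringHom_ext {A : Type*} [Semiring A] (f g : kk.{u} →+* A) : f = g := by
  have : f.comp ULift.ringEquiv.symm.toRingHom = g.comp ULift.ringEquiv.symm.toRingHom :=
    RingHom.ext_int _ _
  exact RingHom.ext fun x => RingHom.congr_fun this x.down

lemma polyHom_ext {A : Type*} [CommRing A] (f g : (kk.{u})[X] →+* A) (h : f X = g X) : f = g :=
  ringHom_ext' (kk_ringHom_ext _ _) h

lemma axisProj_comp_retr (a : Fin n) : (axisProj.{u} a).comp (axisRetr a) = RingHom.id _ :=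
  polyHom_ext _ _ (by simp [axisRetr, axisProj_coord])

/-- The origin of a line. -/
noncomputable def originHom : (kk.{u})[X] →+* kk.{u} := evalRingHom 0

lemma axisProj_comp_retr_ne {a b : Fin n} (h : a ≠ b) :
    (axisProj.{u} a).comp (axisRetr b) = C.comp originHom :=
  polyHom_ext _ _ (by simp [axisRetr, axisProj_coord_ne h, originHom])

lemma origin_axisProj (a b : Fin n) : originHom.{u}.comp (axisProj a) = originHom.comp (axisProj b) :=
  RingHom.ext fun f => f.2 a b

lemma coord_mul_coord {a b : Fin n} (h : a ≠ b) : coord.{u} a * coord b = 0 := by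
  apply Subtype.ext
  funext c
  show (Pi.single a X : Fin n → (kk.{u})[X]) c * (Pi.single b X : Fin n → (kk.{u})[X]) c = 0
  by_cases hc : c = a
  · subst hc; simp [Pi.single_eq_of_ne h]
  · simp [Pi.single_eq_of_ne hc]

lemma coord_mul_eq_of_axisProj_eq {a : Fin n} {f g : axesRing.{u} n} (h : axisProj a f = axisProj a g) :
    coord a * f = coord a * g := by
  apply Subtype.ext
  funext c
  show (Pi.single a X : Fin n → (kk.{u})[X]) c * f.1 c = (Pi.single a X : Fin n → (kk.{u})[X]) c * g.1 c
  by_cases hc : c = a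
  · subst hc; exact congrArg _ h
  · simp [Pi.single_eq_of_ne hc]

lemma axisProj_surjective (a : Fin n) : Function.Surjective (axisProj.{u} a) :=
  fun p => ⟨axisRetr a p, RingHom.congr_fun (axisProj_comp_retr a) p⟩

/-- Restriction of functions along a map of axes. -/
noncomputable def axesMap {m : ℕ} (e : Fin m → Fin n) : axesRing.{u} n →+* axesRing.{u} m where
  toFun f := ⟨f.1 ∘ e, fun a b => f.2 (e a) (e b)⟩
  map_one' := rfl
  map_mul' _ _ := rfl
  map_zero' := rfl
  map_add' _ _ := rfl

/-- The map to an axis with the origin removed. -/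
noncomputable def branchHom (a : Fin n) : axesRing.{u} n →+* (kk.{u})[T;T⁻¹] :=
  toLaurent.comp (axisProj a)

lemma isLocalization_branch (a : Fin n) :
    letI := (branchHom.{u} a).toAlgebra
    IsLocalization.Away (coord a) (kk.{u})[T;T⁻¹] := by
  let i := (branchHom.{u} a).toAlgebra
  have hX : ∀ k : ℕ, branchHom.{u} a (coord a ^ k) = toLaurent (X ^ k) := fun k => by
    simp [branchHom, axisProj_coord]
  constructor
  constructor
  · rintro ⟨_, k, rfl⟩
    show IsUnit (branchHom a (coord a ^ k))
    rw [hX, Polynomial.toLaurent_X_pow]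
    exact LaurentPolynomial.isUnit_T _
  · intro z
    obtain ⟨k, f, hf⟩ := z.exists_T_pow
    obtain ⟨r, hr⟩ := axisProj_surjective a f
    refine ⟨⟨r, ⟨coord a ^ k, k, rfl⟩⟩, ?_⟩
    show z * branchHom a (coord a ^ k) = branchHom a r
    rw [hX, Polynomial.toLaurent_X_pow, ← hf]
    simp [branchHom, hr]
  · intro f g h
    have h' : axisProj a f = axisProj a g := Polynomial.toLaurent_injective h
    exact ⟨⟨coord a, 1, pow_one _⟩, coord_mul_eq_of_axisProj_eq h'⟩

/-- The line. -/
noncomputable abbrev lineS : Scheme.{u} := Spec (.of (kk.{u})[X])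

/-- The line with the origin removed. -/
noncomputable abbrev gmS : Scheme.{u} := Spec (.of (kk.{u})[T;T⁻¹])

/-- The inclusion of the line with the origin removed. -/
noncomputable abbrev gmToLine : gmS.{u} ⟶ lineS.{u} := Spec.map (CommRingCat.ofHom toLaurent)

instance : IsOpenImmersion gmToLine.{u} :=
  letI : Algebra (kk.{u})[X] (kk.{u})[T;T⁻¹] := LaurentPolynomial.algebraPolynomial _
  IsOpenImmersion.of_isLocalization (X : (kk.{u})[X]) (S := (kk.{u})[T;T⁻¹])

/-- The union of the axes. -/
noncomputable abbrev axesS (n : ℕ) : Scheme.{u} := Spec (.of (axesRing.{u} n))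

/-- An axis. -/
noncomputable abbrev axisMap (a : Fin n) : lineS.{u} ⟶ axesS.{u} n := Spec.map (CommRingCat.ofHom (axisProj a))

/-- An axis without the origin. -/
noncomputable abbrev branchMap (a : Fin n) : gmS.{u} ⟶ axesS.{u} n := Spec.map (CommRingCat.ofHom (branchHom a))

lemma gmToLine_axisMap (a : Fin n) : gmToLine ≫ axisMap.{u} a = branchMap a := by
  rw [← Spec.map_comp, ← CommRingCat.ofHom_comp]
  rfl

instance (a : Fin n) : IsOpenImmersion (branchMap.{u} a) :=
  letI := (branchHom.{u} a).toAlgebra
  haveI := isLocalization_branch.{u} a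
  IsOpenImmersion.of_isLocalization (coord a) (S := (kk.{u})[T;T⁻¹])

lemma range_branchMap (a : Fin n) :
    Set.range (branchMap.{u} a) = (PrimeSpectrum.basicOpen (coord.{u} a) : Set (PrimeSpectrum (axesRing.{u} n))) :=
  letI := (branchHom.{u} a).toAlgebra
  haveI := isLocalization_branch.{u} a
  PrimeSpectrum.localization_away_comap_range _ (coord a)

lemma eq_of_branchMap_eq {a b : Fin n} {x y : gmS.{u}} (h : branchMap a x = branchMap b y) : a = b := by
  by_contra hab
  have h₁ : branchMap a x ∈ (PrimeSpectrum.basicOpen (coord.{u} a) : Set (PrimeSpectrum (axesRing.{u} n))) := by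
    rw [← range_branchMap]; exact ⟨x, rfl⟩
  have h₂ : branchMap a x ∈ (PrimeSpectrum.basicOpen (coord.{u} b) : Set (PrimeSpectrum (axesRing.{u} n))) := by
    rw [← range_branchMap, h]; exact ⟨y, rfl⟩
  have h₃ : branchMap a x ∈ (PrimeSpectrum.basicOpen (coord.{u} a * coord b)) := by
    rw [PrimeSpectrum.basicOpen_mul]; exact ⟨h₁, h₂⟩
  rw [coord_mul_coord hab, PrimeSpectrum.basicOpen_zero] at h₃
  exact h₃

/-- The axes without the origin. -/
noncomputable def branchesOpen (n : ℕ) : (axesS.{u} n).Opens := ⨆ a, (branchMap.{u} a).opensRange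

lemma branchMap_range_subset (a : Fin n) : Set.range (branchMap.{u} a) ⊆ Set.range (branchesOpen.{u} n).ι := by
  rw [Scheme.Opens.range_ι]
  exact (le_iSup (fun b => (branchMap.{u} b).opensRange) a : _)

/-- A branch. -/
noncomputable def branchIn (a : Fin n) : gmS.{u} ⟶ (branchesOpen.{u} n).toScheme :=
  IsOpenImmersion.lift (branchesOpen.{u} n).ι (branchMap a) (branchMap_range_subset a)

@[reassoc]
lemma branchIn_ι (a : Fin n) : branchIn.{u} a ≫ (branchesOpen n).ι = branchMap a :=
  IsOpenImmersion.lift_fac _ _ _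

instance (a : Fin n) : IsOpenImmersion (branchIn.{u} a) :=
  have : IsOpenImmersion (branchIn.{u} a ≫ (branchesOpen n).ι) := by rw [branchIn_ι]; infer_instance
  IsOpenImmersion.of_comp _ (branchesOpen n).ι

lemma branchIn_jointly_surjective (x : (branchesOpen.{u} n).toScheme) :
    ∃ a, x ∈ Set.range (branchIn.{u} a) := by
  obtain ⟨a, y, hy⟩ := TopologicalSpace.Opens.mem_iSup.1 x.2
  refine ⟨a, y, (branchesOpen n).ι.isOpenEmbedding.injective ?_⟩
  rw [← Scheme.Hom.comp_apply, branchIn_ι]
  exact hy

lemma eq_of_branchIn_eq {a b : Fin n} {x y : gmS.{u}} (h : branchIn a x = branchIn b y) : a = b := by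
  refine eq_of_branchMap_eq (x := x) (y := y) ?_
  rw [← branchIn_ι a, ← branchIn_ι b, Scheme.Hom.comp_apply, Scheme.Hom.comp_apply, h]

lemma branchMap_axesMap {m : ℕ} (e : Fin m → Fin n) (b : Fin m) :
    branchMap.{u} b ≫ Spec.map (CommRingCat.ofHom (axesMap e)) = branchMap (e b) := by
  rw [← Spec.map_comp, ← CommRingCat.ofHom_comp]
  rfl

lemma branchesOpen_axesMap {m : ℕ} (e : Fin m → Fin n) :
    Set.range ((branchesOpen.{u} m).ι ≫ Spec.map (CommRingCat.ofHom (axesMap e))) ⊆
      Set.range (branchesOpen.{u} n).ι := by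
  rintro _ ⟨x, rfl⟩
  obtain ⟨b, y, rfl⟩ := branchIn_jointly_surjective x
  rw [← Scheme.Hom.comp_apply, branchIn_ι_assoc, branchMap_axesMap]
  exact branchMap_range_subset (e b) ⟨y, rfl⟩

end Groth.Agent.IsoNatLib
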