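import Groth.Agent.IsoNatLib.Terminal
import Groth.Agent.QuotLib.Atlas
import Groth.Agent.QuotLib.TrivHom
import Groth.Agent.AlgStLib.FppfSite

/-!
# The classifying stack of a commutative group
-/

set_option autoImplicit false
set_option backward.isDefEq.respectTransparency false
set_option backward.isDefEq.respectTransparency.types false

universe u

open CategoryTheory CategoryTheory.Functor CategoryTheory.Limits MonoidalCategory CartesianMonoidalCategory MonObj
  GrpObj AlgebraicGeometry AlgSp Groth.Agent.FibBase Groth.Agent.QuotLib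

namespace Groth.Agent.IsoNatLib

variable {S : Scheme.{u}} (G : Over S) [GrpObj G]

local notation "K₀" => Scheme.fppfPrecoverage

/-- The trivial torsor as a chart of the classifying stack. -/
noncomputable abbrev bgChart : FibCat.overCat (𝟙_ (Over S)) ⥤ᵇ AlgSt.BG K₀ G :=
  quotOver K₀ G (AlgSt.trivAction G)

/-- Automorphisms of a trivial torsor of a commutative group commute. -/
theorem bgChart_comm [IsCommMonObj G] [FibCat.IsFibGrpd (AlgSt.BG K₀ G).p] {T : Over S} (g : T ⟶ 𝟙_ (Over S))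
    (s t : AutAt (bgChart G) (Over.mk g)) : s * t = t * s := by
  have hb : ∀ σ : AutAt (bgChart G) (Over.mk g), σ.hom.1.base = 𝟙 T := fun σ =>
    (map_eq_of_isHomLift_id (p := (AlgSt.BG K₀ G).p) σ.hom.2).trans rfl
  obtain ⟨a, -, ha⟩ := (hom_triv_iff (K := K₀) (G := G) (aX := AlgSt.trivAction G) (𝟙 T) g g).1 s.hom.1 (hb s)
  obtain ⟨b, -, hb'⟩ := (hom_triv_iff (K := K₀) (G := G) (aX := AlgSt.trivAction G) (𝟙 T) g g).1 t.hom.1 (hb t)
  letI : CommMonoid (G ⊗ T ⟶ G) := Hom.commMonoid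
  refine Iso.ext (Subtype.ext (AlgSt.QuotObj.hom_ext ?_ ?_))
  · show t.hom.1.base ≫ s.hom.1.base = s.hom.1.base ≫ t.hom.1.base
    exact (congrArg₂ (fun u v : T ⟶ T => u ≫ v) (hb t) (hb s)).trans
      (congrArg₂ (fun u v : T ⟶ T => u ≫ v) (hb s) (hb t)).symm
  · show t.hom.1.top ≫ s.hom.1.top = s.hom.1.top ≫ t.hom.1.top
    refine (congrArg₂ (fun u v : G ⊗ T ⟶ G ⊗ T => u ≫ v) hb' ha).trans
      (Eq.trans ?_ (congrArg₂ (fun u v : G ⊗ T ⟶ G ⊗ T => u ≫ v) ha hb').symm)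
    simp only [comp_lift, comp_mul, lift_fst, lift_snd, lift_snd_assoc, Category.comp_id]
    rw [mul_right_comm]

/-- Every torsor is locally trivial. -/
theorem bgChart_covers (A : (AlgSt.BG K₀ G).obj) : ∃ R ∈ J S ((AlgSt.BG K₀ G).p.obj A),
    ∀ ⦃V : Over S⦄ (f : V ⟶ (AlgSt.BG K₀ G).p.obj A), R f →
      ∃ (g : V ⟶ 𝟙_ (Over S)) (φ : (bgChart G).obj (Over.mk g) ⟶ A), (AlgSt.BG K₀ G).p.IsHomLift f φ := by
  obtain ⟨R, hR, hR'⟩ := exists_cover_triv A
  let P : Presieve A.base := fun V f => ∃ (T' : Scheme.{u}) (f' : T' ⟶ A.base.left) (e : V = Over.mk (f' ≫ A.base.hom)),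
    R f' ∧ f = eqToHom e ≫ Over.homMk f' rfl
  refine ⟨Sieve.generate P, ?_, fun V f hf => ?_⟩
  · show Sieve.generate P ∈ J S A.base
    rw [GrothendieckTopology.mem_over_iff]
    refine GrothendieckTopology.superset_covering _ ?_ (Precoverage.generate_mem_toGrothendieck hR)
    rintro Z _ ⟨Y, a, f', hf', rfl⟩
    rw [Sieve.overEquiv_iff]
    exact ⟨Over.mk (f' ≫ A.base.hom), Over.homMk a (by simp), Over.homMk f' rfl,
      ⟨Y, f', rfl, hf', by simp⟩, by ext; simp⟩
  · obtain ⟨W, k, _, ⟨T', f', rfl, hf', rfl⟩, rfl⟩ := hf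
    obtain ⟨x, h, hh⟩ := hR' f' hf'
    have hl : (AlgSt.BG K₀ G).p.IsHomLift (Over.homMk f' rfl : Over.mk (f' ≫ A.base.hom) ⟶ A.base) h :=
      IsHomLift.of_fac' _ _ h rfl rfl (by
        show h.base = _
        rw [hh]
        simp)
    let q : Over.mk (k ≫ x) ⟶ Over.mk x := Over.homMk k rfl
    have hq : (AlgSt.BG K₀ G).p.IsHomLift k ((bgChart G).map q) := overMap_isHomLift (bgChart G) q
    refine ⟨k ≫ x, (bgChart G).map q ≫ h, ?_⟩
    have := IsHomLift.comp (AlgSt.BG K₀ G).p k (Over.homMk f' rfl : Over.mk (f' ≫ A.base.hom) ⟶ A.base)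
      ((bgChart G).map q) h
    simpa using this

/-- A stack with the classes of the classifying stack of a commutative group is that stack. -/
theorem exists_equiv_of_bg [IsCommMonObj G] {𝒴 : AlgSt.Cat S}
    (hB : Stk.IsStack (J S) (AlgSt.BG K₀ G)) (hY : Stk.IsStack (J S) 𝒴)
    (hdB : AlgSt.RepByAlgSpWith IsSeparatedMor (FibCat.diag (FibCat.toSelf (AlgSt.BG K₀ G))))
    (hdY : AlgSt.RepByAlgSpWith IsSeparatedMor (FibCat.diag (FibCat.toSelf 𝒴)))
    (φ : IsoNat.FIso (AlgSt.BG K₀ G) 𝒴) : ∃ e : AlgSt.BG K₀ G ⥤ᵇ 𝒴, FibCat.IsEquivOver e := by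
  have := hB.1
  have := hY.1
  obtain ⟨y, hxy⟩ := exists_corr_right (clsIsoOfFIso φ) (bgChart G)
  obtain ⟨ρ⟩ := exists_isoMap_terminal isTerminalTensorUnit hB hY hdB hdY hxy
    (fun T s t => bgChart_comm G _ s t)
  exact exists_equiv_of_isoMap_cover hB hY (bgChart_covers G) (covers_of_corr hxy (bgChart_covers G)) ρ

end Groth.Agent.IsoNatLib
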