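import Groth.Agent.IsoNatLib.Cls
import Groth.Agent.AlgStLib.Diag
import Groth.Agent.FibBase.Fp

/-!
# A separated diagonal makes restriction of automorphisms to a dominant subscheme injective
-/

set_option autoImplicit false
set_option backward.isDefEq.respectTransparency false
set_option backward.isDefEq.respectTransparency.types false

universe u

open CategoryTheory CategoryTheory.Functor CategoryTheory.Limits AlgebraicGeometry Opposite AlgSp
  Groth.Agent.FibBase Groth.Agent.AlgStLib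

namespace Groth.Agent.IsoNatLib

variable {S : Scheme.{u}}

/-- Every closed subscheme through which `f` factors is everything. -/
def IsSchDense {W V : Scheme.{u}} (f : W ⟶ V) : Prop :=
  ∀ ⦃E : Scheme.{u}⦄ (i : E ⟶ V) [IsClosedImmersion i] (k : W ⟶ E), k ≫ i = f → IsIso i

/-- Sections of a separated morphism agreeing on a dense subscheme are equal. -/
theorem eq_of_isSeparatedMor {F : Sp S} {V W : Over S} {a : F ⟶ (yon S).obj V} (ha : IsSeparatedMor a)
    (φ : W ⟶ V) (hφ : IsSchDense φ.left) (σ σ' : (yon S).obj V ⟶ F) (hσ : σ ≫ a = 𝟙 _) (hσ' : σ' ≫ a = 𝟙 _)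
    (h : (yon S).map φ ≫ σ = (yon S).map φ ≫ σ') : σ = σ' := by
  let g := pullback.lift σ σ' (hσ.trans hσ'.symm)
  have : IsClosedImmersion (ha.rep.snd g).left := ha.property_snd g
  have hw : ((yon S).map φ ≫ σ) ≫ pullback.diagonal a = (yon S).map φ ≫ g := by
    apply pullback.hom_ext
    · simp [g]
    · simp [g, h]
  let k := ha.rep.lift ((yon S).map φ ≫ σ) φ hw
  have hk : k ≫ ha.rep.snd g = φ := ha.rep.lift_snd _ _ _
  have : IsIso (ha.rep.snd g).left := hφ _ k.left (by rw [← hk]; rfl)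
  have : IsIso ((Over.forget S).map (ha.rep.snd g)) := this
  have : IsIso (ha.rep.snd g) := isIso_of_reflects_iso _ (Over.forget S)
  have e : g = (yon S).map (inv (ha.rep.snd g)) ≫ ha.rep.fst g ≫ pullback.diagonal a := by
    rw [ha.rep.w g, ← Category.assoc, ← Functor.map_comp, IsIso.inv_hom_id, CategoryTheory.Functor.map_id,
      Category.id_comp]
  have e₁ := congrArg (fun t => t ≫ pullback.fst a a) e
  have e₂ := congrArg (fun t => t ≫ pullback.snd a a) e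
  simp only [g, pullback.lift_fst, pullback.lift_snd, Category.assoc, pullback.diagonal_fst,
    pullback.diagonal_snd, Category.comp_id] at e₁ e₂
  exact e₁.trans e₂.symm

variable {𝒳 : AlgSt.Cat S} [hfib : FibCat.IsFibGrpd 𝒳.p] {T : Over S} {K : FibCat.overCat T ⥤ᵇ 𝒳}

theorem res_injective_of_dense
    (hd : AlgSt.RepByAlgSpWith IsSeparatedMor (FibCat.diag (FibCat.toSelf 𝒳)))
    {V W : Over T} (φ : W ⟶ V) (hφ : IsSchDense φ.left.left) : Function.Injective (res (K := K) φ) := by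
  intro s s' hss
  have h := hfib
  obtain ⟨G, e, he⟩ := exists_overCat_obj h (U := V.left) (K.obj V) (K.w_obj V)
  let W₀ : Over V.left := Over.mk φ.left
  have hK : 𝒳.p.IsHomLift W₀.hom (K.map φ) := overMap_isHomLift K φ
  obtain ⟨i, hi, hie⟩ := exists_point_of_hom h G e he W₀ (K.map φ)
  let y := BasedFunctor.comp G (FibCat.diag (FibCat.toSelf 𝒳))
  let δ := FibCat.diag (FibCat.toSelf 𝒳)
  obtain ⟨F, E, hE, hsep⟩ := hd V.left y
  have hff := fp_isFibGrpd (F := FibCat.toSelf 𝒳) (G := FibCat.toSelf 𝒳) h h isFibGrpd_selfOver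
  have hfp : FibCat.IsFibGrpd (FibCat.fp y δ).p := fp_isFibGrpd (isFibGrpd_overCat V.left) h hff
  have hw : ∀ {a b : 𝒳.obj} (f g : a ⟶ b), 𝒳.p.IsHomLift (𝟙 (𝒳.p.obj a)) f →
      𝒳.p.IsHomLift (𝟙 (𝒳.p.obj a)) g → 𝒳.p.map f = 𝒳.p.map g := fun f g hf hg =>
    (map_eq_of_isHomLift_id hf).trans (map_eq_of_isHomLift_id hg).symm
  have hG : 𝒳.p.obj (G.obj (Over.mk (𝟙 V.left))) = V.left := G.w_obj _
  have het : ∀ t : AutAt K V, 𝒳.p.IsHomLift (𝟙 V.left) (e.hom ≫ t.hom.1) := fun t =>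
    have := t.hom.2
    IsHomLift.comp_lift_id_right' 𝒳.p (𝟙 V.left) e.hom V.left t.hom.1
  let θ : ∀ t : AutAt K V, y.obj (Over.mk (𝟙 V.left)) ≅ δ.obj (K.obj V) := fun t =>
    fpIsoMk (x := y.obj (Over.mk (𝟙 V.left))) (y := δ.obj (K.obj V)) (e ≪≫ ofFiberIso t) e (by
      show 𝒳.p.map (e.hom ≫ t.hom.1) ≫ 𝟙 _ = 𝟙 _ ≫ 𝒳.p.map e.hom
      rw [Category.comp_id, Category.id_comp]
      exact hw _ _ (isHomLift_id_congr hG.symm (het t)) (isHomLift_id_congr hG.symm he))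
  let p : AutAt K V → (FibCat.fp y δ).obj := fun t =>
    ⟨⟨Over.mk (𝟙 V.left), K.obj V, θ t⟩, fpIsoMk_lift (h := het t) _ _ _⟩
  -- the common restriction
  have hr : ∃ (q : (FibCat.fp y δ).obj), ∀ t, res φ t = res φ s →
      ∃ m : q ⟶ p t, (FibCat.fp y δ).p.IsHomLift φ.left m := by
    have hr2 : 𝒳.p.IsHomLift (𝟙 W₀.left) (res φ s).hom.1 := (res φ s).hom.2
    have het' : 𝒳.p.IsHomLift (𝟙 W₀.left) (i.hom ≫ (res φ s).hom.1) :=
      IsHomLift.comp_lift_id_right' 𝒳.p (𝟙 W₀.left) i.hom W₀.left _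
    have hG' : 𝒳.p.obj (G.obj W₀) = W₀.left := G.w_obj _
    let θ' : y.obj W₀ ≅ δ.obj (K.obj W) :=
      fpIsoMk (x := y.obj W₀) (y := δ.obj (K.obj W)) (i ≪≫ ofFiberIso (res φ s)) i (by
        show 𝒳.p.map (i.hom ≫ (res φ s).hom.1) ≫ 𝟙 _ = 𝟙 _ ≫ 𝒳.p.map i.hom
        rw [Category.comp_id, Category.id_comp]
        exact hw _ _ (isHomLift_id_congr hG'.symm het') (isHomLift_id_congr hG'.symm hi))
    refine ⟨⟨⟨W₀, K.obj W, θ'⟩, fpIsoMk_lift (h := het') _ _ _⟩, fun t ht => ?_⟩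
    refine ⟨ObjectProperty.homMk ⟨toId W₀, K.map φ, ?_⟩, ?_⟩
    · refine ObjectProperty.hom_ext _ (CategoricalPullback.hom_ext ?_ ?_)
      · show G.map (toId W₀) ≫ e.hom ≫ t.hom.1 = (i.hom ≫ (res φ s).hom.1) ≫ K.map φ
        rw [reassoc_of% hie, ← ht, Category.assoc, res_spec]
      · exact hie
    · exact fp_isHomLift φ.left _
        (h := inferInstanceAs ((FibCat.overCat V.left).p.IsHomLift
          ((FibCat.overCat V.left).p.map (toId W₀)) (toId W₀)))
  obtain ⟨q, hq⟩ := hr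
  -- sections of the representing space
  have hσ : ∀ t, ∃ (σ : F.obj.obj.obj (op V.left)) (ι : E.obj ⟨V.left, σ⟩ ≅ p t),
      (FibCat.fp y δ).p.IsHomLift (𝟙 V.left) ι.hom := fun t => by
    have hpt : (FibCat.fp y δ).p.obj (p t) = V.left := rfl
    obtain ⟨⟨B, σ⟩, ι, hι⟩ := exists_iso_over_of_isEquivOver hE (p t) hpt
    obtain rfl : B = V.left :=
      (E.w_obj ⟨B, σ⟩).symm.trans (IsHomLift.domain_eq (FibCat.fp y δ).p (𝟙 V.left) ι.hom)
    exact ⟨σ, ι, hι⟩
  choose σ ι hι using hσ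
  have hsec : ∀ t, ((J S).uliftYonedaEquiv.symm (σ t)) ≫ AlgSt.spMapOfOver (BasedFunctor.comp E (FibCat.fpFst y δ)) =
      𝟙 _ := fun t => by
    apply (J S).uliftYonedaEquiv.injective
    rw [GrothendieckTopology.uliftYonedaEquiv_comp, Equiv.apply_symm_apply, AlgSt.spMapOfOver_app]
    refine ULift.ext _ _ ?_
    show eqToHom _ ≫ (E.obj ⟨V.left, σ t⟩).obj.fst.hom = 𝟙 V.left
    have := hι t
    have hf : (FibCat.overCat V.left).p.IsHomLift (𝟙 V.left) (ι t).hom.hom.fst :=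
      (FibCat.fpFst y δ).preserves_isHomLift (𝟙 V.left) (ι t).hom
    rw [← Over.w (ι t).hom.hom.fst]
    obtain ⟨hab, hm⟩ : ∃ h : (E.obj ⟨V.left, σ t⟩).obj.fst.left = V.left, (ι t).hom.hom.fst.left = eqToHom h :=
      ⟨_, map_eq_of_isHomLift_id (p := Over.forget V.left) hf⟩
    rw [hm]
    show eqToHom _ ≫ eqToHom _ ≫ 𝟙 V.left = 𝟙 V.left
    rw [Category.comp_id, eqToHom_trans, eqToHom_refl]
  have hres : ∀ t, res φ t = res φ s → F.obj.obj.map φ.left.op (σ t) = F.obj.obj.map φ.left.op (σ s) := fun t ht => by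
    let x : ∀ t, (AlgSt.ofSp F.obj).obj := fun t => ⟨W.left, F.obj.obj.map φ.left.op (σ t)⟩
    have lift : ∀ t, res φ t = res φ s → ∃ j : E.obj (x t) ≅ q, (FibCat.fp y δ).p.IsHomLift (𝟙 W.left) j.hom := by
      intro t ht
      obtain ⟨m, hm⟩ := hq t ht
      let n : x t ⟶ (⟨V.left, σ t⟩ : (AlgSt.ofSp F.obj).obj) := ⟨φ.left, rfl⟩
      have hn : (AlgSt.ofSp F.obj).p.IsHomLift φ.left n :=
        inferInstanceAs ((AlgSt.ofSp F.obj).p.IsHomLift ((AlgSt.ofSp F.obj).p.map n) n)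
      have := E.preserves_isHomLift φ.left n
      have := hι t
      have : (FibCat.fp y δ).p.IsHomLift φ.left (E.map n ≫ (ι t).hom) :=
        IsHomLift.comp_lift_id_right' _ φ.left _ V.left _
      obtain ⟨j, hj, -⟩ := exists_iso_of_lifts (hp := hfp) φ.left m (E.map n ≫ (ι t).hom)
      exact ⟨j, hj⟩
    obtain ⟨j₁, hj₁⟩ := lift t ht
    obtain ⟨j₂, hj₂⟩ := lift s rfl
    have := IsHomLift.lift_id_inv (FibCat.fp y δ).p W.left j₂
    have hc : (FibCat.fp y δ).p.IsHomLift (𝟙 W.left) (j₁.hom ≫ j₂.inv) :=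
      IsHomLift.comp_lift_id_right' _ (𝟙 W.left) _ W.left _
    have := full_of_isEquivOver hE
    obtain ⟨l, hl⟩ := E.map_surjective (j₁.hom ≫ j₂.inv)
    rw [← hl, BasedFunctor.isHomLift_iff] at hc
    have hb : l.hom = 𝟙 W.left := (map_eq_of_isHomLift_id hc).trans rfl
    have hls := l.map_sec
    rw [hb] at hls
    simpa [x] using hls.symm
  have heq : σ s = σ s' := by
    refine (J S).uliftYonedaEquiv.symm.injective
      (eq_of_isSeparatedMor hsep φ.left hφ _ _ (hsec s) (hsec s') ?_)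
    apply (J S).uliftYonedaEquiv.injective
    rw [← Groth.Agent.AlgSpLib.uliftYonedaEquiv_precomp, ← Groth.Agent.AlgSpLib.uliftYonedaEquiv_precomp,
      Equiv.apply_symm_apply, Equiv.apply_symm_apply]
    exact (hres s' hss.symm).symm
  obtain ⟨j, hj⟩ : ∃ j : p s ⟶ p s', (FibCat.fp y δ).p.IsHomLift (𝟙 V.left) j := by
    have hgen : ∀ {u v : F.obj.obj.obj (op V.left)} (_ : u = v) (a : E.obj ⟨V.left, u⟩ ≅ p s) (b : E.obj ⟨V.left, v⟩ ≅ p s'),
        (FibCat.fp y δ).p.IsHomLift (𝟙 V.left) a.hom → (FibCat.fp y δ).p.IsHomLift (𝟙 V.left) b.hom →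
        ∃ j : p s ⟶ p s', (FibCat.fp y δ).p.IsHomLift (𝟙 V.left) j := by
      rintro u _ rfl a b ha hb
      have := IsHomLift.lift_id_inv (FibCat.fp y δ).p V.left a
      exact ⟨a.inv ≫ b.hom, IsHomLift.comp_lift_id_right' _ (𝟙 V.left) _ V.left _⟩
    exact hgen heq (ι s) (ι s') (hι s) (hι s')
  have hf : (FibCat.overCat V.left).p.IsHomLift (𝟙 V.left) j.hom.fst :=
    (FibCat.fpFst y δ).preserves_isHomLift (𝟙 V.left) j
  have hid : j.hom.fst = 𝟙 (Over.mk (𝟙 V.left)) :=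
    Over.OverMorphism.ext ((IsHomLift.fac (FibCat.overCat V.left).p (𝟙 V.left) j.hom.fst).symm.trans (by simp)) 
  have w := j.hom.w
  rw [hid, y.toFunctor.map_id] at w
  erw [Category.id_comp] at w
  have wf : e.hom ≫ s'.hom.1 = (e.hom ≫ s.hom.1) ≫ j.hom.snd := congrArg (fun m => m.hom.fst) w
  have ws : e.hom = e.hom ≫ j.hom.snd := congrArg (fun m => m.hom.snd) w
  have hγ : j.hom.snd = 𝟙 (K.obj V) := (cancel_epi e.hom).1 (ws.symm.trans (Category.comp_id _).symm)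
  rw [hγ] at wf
  exact Iso.ext (Subtype.ext ((cancel_epi e.hom).1 (wf.trans (Category.comp_id _))).symm)

end Groth.Agent.IsoNatLib
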