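import Groth.Agent.IsoNatLib.Detect
import Groth.Agent.AlgStLib.Charts
import Groth.Agent.AlgStLib.Source
import Groth.Agent.AlgSpLib.LocalSourceInst
import Groth.Agent.AlgSpLib.SmoothLocalInst
import Mathlib.AlgebraicGeometry.Morphisms.Descent
import Mathlib.AlgebraicGeometry.Morphisms.FlatDescent

/-!
# Detection of properties of charts by presheaves of isomorphism classes
-/

set_option autoImplicit false
set_option backward.isDefEq.respectTransparency false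
set_option backward.isDefEq.respectTransparency.types false

universe u

open CategoryTheory CategoryTheory.Functor CategoryTheory.Limits AlgebraicGeometry Opposite AlgSp
  Groth.Agent.FibBase Groth.Agent.AlgSpLib Groth.Agent.AlgStLib

namespace Groth.Agent.IsoNatLib

variable {S : Scheme.{u}}

/-- The standing hypotheses on an algebraic stack. -/
structure Nice (𝒳 : AlgSt.Cat S) : Prop where
  alg : AlgSt.IsAlgStack Scheme.fppfPrecoverage 𝒳
  diag : AlgSt.RepByAlgSpWith (AlgSp.IsSeparatedMor ⊓ AlgSp.IsQuasiCompactMor) (FibCat.diag (FibCat.toSelf 𝒳))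
  inertia : AlgSt.RepByAlgSpWith (AlgSp.LocP @LocallyOfFinitePresentation)
    (FibCat.inertiaToBase (FibCat.toSelf 𝒳))

variable {𝒳 𝒴 : AlgSt.Cat S}

theorem Nice.fib (h : Nice 𝒳) : FibCat.IsFibGrpd 𝒳.p := h.alg.isStack.1

theorem Nice.sep (h : Nice 𝒳) : AlgSt.RepByAlgSpWith IsSeparatedMor (FibCat.diag (FibCat.toSelf 𝒳)) :=
  repByAlgSpWith_mono inf_le_left h.diag

theorem Nice.rep1 (h : Nice 𝒳) {U : Over S} (y : FibCat.overCat U ⥤ᵇ 𝒳) : AlgSt.RepByAlgSp1 y :=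
  repByAlgSp1_of_diag h.fib h.alg.diag U y

variable [FibCat.IsFibGrpd 𝒳.p] [FibCat.IsFibGrpd 𝒴.p] {U V : Over S} {x : FibCat.overCat U ⥤ᵇ 𝒳}
  {y : FibCat.overCat U ⥤ᵇ 𝒴} {ψ : ClsIso 𝒳 𝒴}

theorem exists_corr_left (ψ : ClsIso 𝒳 𝒴) (b : FibCat.overCat V ⥤ᵇ 𝒴) :
    ∃ a : FibCat.overCat V ⥤ᵇ 𝒳, Corr ψ a b := by
  obtain ⟨o, ho⟩ := Quotient.exists_rep ((ψ.eqv V).symm (triv b (Over.mk (𝟙 V))))
  obtain ⟨K, hK, -⟩ := exists_overCat_aut o
  refine ⟨K, ?_⟩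
  rw [Corr, hK]
  exact (((ψ.eqv V).symm_apply_eq).1 ho.symm).symm

theorem exists_corr_right (ψ : ClsIso 𝒳 𝒴) (a : FibCat.overCat V ⥤ᵇ 𝒳) :
    ∃ b : FibCat.overCat V ⥤ᵇ 𝒴, Corr ψ a b := by
  obtain ⟨o, ho⟩ := Quotient.exists_rep (ψ.eqv V (triv a (Over.mk (𝟙 V))))
  obtain ⟨K, hK, -⟩ := exists_overCat_aut o
  exact ⟨K, ho.symm.trans hK.symm⟩

theorem Corr.symm {a : FibCat.overCat V ⥤ᵇ 𝒳} {b : FibCat.overCat V ⥤ᵇ 𝒴} (h : Corr ψ a b) :
    Corr ψ.symm b a :=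
  (ψ.eqv V).symm_apply_eq.2 (Eq.symm h)

theorem corr_of_objCls {φ : IsoNat.FIso 𝒳 𝒴} (h : φ.toEquiv U (IsoNat.objCls x) = IsoNat.objCls y) :
    Corr (clsIsoOfFIso φ) x y := h

theorem triv_comp_overMap {T : Over S} (k : T ⟶ U) (a : FibCat.overCat U ⥤ᵇ 𝒳) :
    triv (BasedFunctor.comp (AlgSt.overMap k) a) (Over.mk (𝟙 T)) = pull k (triv a (Over.mk (𝟙 U))) := by
  show triv a (Over.mk (𝟙 T ≫ k)) = _
  rw [triv_mk, Category.id_comp]

theorem exists_iso_of_triv {T : Over S} {a b : FibCat.overCat T ⥤ᵇ 𝒳}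
    (h : triv a (Over.mk (𝟙 T)) = triv b (Over.mk (𝟙 T))) : Nonempty (a ≅ b) := by
  obtain ⟨e⟩ : Nonempty (@Iso (𝒳.p.Fiber T) _ (fib a (Over.mk (𝟙 T))) (fib b (Over.mk (𝟙 T)))) :=
    Quotient.exact h
  exact exists_iso_of_eval inferInstance a b e.hom.1 e.hom.2

theorem triv_eq_of_iso {T : Over S} {a b : FibCat.overCat T ⥤ᵇ 𝒳} (i : a ≅ b) :
    triv a (Over.mk (𝟙 T)) = triv b (Over.mk (𝟙 T)) :=
  Quotient.sound ⟨fiberIsoMk (isoApp i _) (isoApp_lift i rfl)⟩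

section Detect

variable (hX : Nice 𝒳) (hY : Nice 𝒴) (hxy : Corr ψ x y)

include hX hY hxy

/-- A chart property is detected once it is known for one etale chart over an atlas. -/
theorem repByAlgSpWith_of_chart {P : MorphismProperty Scheme.{u}} [IsEtLocal P] [IsZariskiLocalAtTarget P]
    [P.DescendsAlong (@Surjective ⊓ @Flat ⊓ @QuasiCompact)]
    (H : ∀ {V : Over S} (v : FibCat.overCat V ⥤ᵇ 𝒴) (v' : FibCat.overCat V ⥤ᵇ 𝒳),
      AlgSt.RepByAlgSpWith (LocP @Smooth) v → Corr ψ v' v → ∀ (R : TriRep v y) {W : Over S}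
        {cW : (yon S).obj W ⟶ R.F.obj} {w : W ⟶ V}, RepWith @Etale cW → cW ≫ R.a = (yon S).map w → P w.left) :
    AlgSt.RepByAlgSpWith (LocP P) y := by
  obtain ⟨V, v, hv, hv'⟩ := hY.alg.atlas
  obtain ⟨v', hvv⟩ := exists_corr_left ψ v
  obtain ⟨R, -, hR⟩ := exists_triRep (v := v) (repByAlgSp1_iff_top.1 (hY.rep1 y))
  obtain ⟨W, cW, hc, hc'⟩ := R.F.property.atlas
  obtain ⟨w, hw⟩ := (yon S).map_surjective (cW ≫ R.a)
  have hP : LocP P R.a := locP_of_chart hc hc' (repWith_id _ V)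
    (by rw [Category.comp_id]; exact hw.symm) (H v v' hv hvv R hc hw.symm)
  obtain ⟨F, e, he, hF⟩ := hR (LocP P) hP
  refine repByAlgSpWith_of_locEssSurj stableBC_locP
    (isLocalOnBase_fppf_of_fpqc (isLocalOnBase_fpqc_locP (P := P))) (hY.rep1 y)
    (locEssSurj_of_atlas hv hv') ?_
  let a := AlgSt.spMapOfOver (BasedFunctor.comp e (FibCat.fpFst v y))
  exact (repByAlgSpWith_iff_of_square (f := FibCat.fpFst v y) (f' := AlgSt.ofSpMap a) (a := e)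
    (b := AlgSt.toOverCat V) he (isEquivOver_toOverCat V)
    (isoSpMapOfOver (BasedFunctor.comp e (FibCat.fpFst v y))).symm).2
    (repByAlgSpWith_ofSpMap stableBC_locP F.property (IsAlgSpace.yon_obj V) a hF)

variable (hfp : AlgSt.RepByAlgSpWith (LocP @LocallyOfFinitePresentation) x)

include hfp

theorem lfp_w {V : Over S} {v : FibCat.overCat V ⥤ᵇ 𝒴} {v' : FibCat.overCat V ⥤ᵇ 𝒳} (hvv : Corr ψ v' v)
    (R : TriRep v y) {W : Over S} {cW : (yon S).obj W ⟶ R.F.obj} {w : W ⟶ V} (hc : RepWith @Etale cW)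
    (hw : cW ≫ R.a = (yon S).map w) : LocallyOfFinitePresentation w.left := by
  obtain ⟨R', hR', -⟩ := exists_triRep (v := v') hfp
  obtain ⟨G, hG⟩ := exists_autRep (v := v) hY.inertia
  exact lfp_of_corr R R' G hvv hxy hR' hG hc hw

theorem lfp_detect : AlgSt.RepByAlgSpWith (LocP @LocallyOfFinitePresentation) y :=
  repByAlgSpWith_of_chart hX hY hxy fun {_} _ _ _ hvv R {_ _ _} hc hw => lfp_w hX hY hxy hfp hvv R hc hw

theorem smooth_w (hx : AlgSt.RepByAlgSpWith (LocP @Smooth) x) {V : Over S} {v : FibCat.overCat V ⥤ᵇ 𝒴}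
    {v' : FibCat.overCat V ⥤ᵇ 𝒳} (hv : AlgSt.RepByAlgSpWith (LocP @Smooth) v) (hvv : Corr ψ v' v)
    (R : TriRep v y) {W : Over S} {cW : (yon S).obj W ⟶ R.F.obj} {w : W ⟶ V} (hc : RepWith @Etale cW)
    (hw : cW ≫ R.a = (yon S).map w) : Smooth w.left := by
  have := lfp_w hX hY hxy hfp hvv R hc hw
  obtain ⟨R', hR', -⟩ := exists_triRep (v := v') hx
  obtain ⟨Rv, hRv, -⟩ := exists_triRep (v := v) hv
  exact smooth_of_corr R R' Rv hvv hxy hR' hRv hc hw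

theorem smooth_detect (hx : AlgSt.RepByAlgSpWith (LocP @Smooth) x) :
    AlgSt.RepByAlgSpWith (LocP @Smooth) y :=
  repByAlgSpWith_of_chart hX hY hxy fun {_} _ _ hv hvv R {_ _ _} hc hw => smooth_w hX hY hxy hfp hx hv hvv R hc hw

theorem unr_w (hx : AlgSt.RepByAlgSpWith (LocP (@LocallyOfFiniteType ⊓ @FormallyUnramified)) x) {V : Over S}
    {v : FibCat.overCat V ⥤ᵇ 𝒴} {v' : FibCat.overCat V ⥤ᵇ 𝒳} (hvv : Corr ψ v' v) (R : TriRep v y) {W : Over S}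
    {cW : (yon S).obj W ⟶ R.F.obj} {w : W ⟶ V} (hc : RepWith @Etale cW) (hw : cW ≫ R.a = (yon S).map w) :
    LocallyOfFiniteType w.left ∧ FormallyUnramified w.left := by
  have := lfp_w hX hY hxy hfp hvv R hc hw
  obtain ⟨R', hR', -⟩ := exists_triRep (v := v') hx
  exact ⟨inferInstance, formallyUnramified_of_corr R R' hvv hxy hX.alg.isStack hY.alg.isStack hX.sep hY.sep hR'
    hc hw⟩

theorem unr_detect (hx : AlgSt.RepByAlgSpWith (LocP (@LocallyOfFiniteType ⊓ @FormallyUnramified)) x) :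
    AlgSt.RepByAlgSpWith (LocP (@LocallyOfFiniteType ⊓ @FormallyUnramified)) y :=
  repByAlgSpWith_of_chart hX hY hxy fun {_} _ _ _ hvv R {_ _ _} hc hw => unr_w hX hY hxy hfp hx hvv R hc hw

theorem etale_detect (hx : AlgSt.RepByAlgSpWith AlgSp.IsEtaleMor x) : AlgSt.RepByAlgSpWith AlgSp.IsEtaleMor y := by
  have he := repByAlgSpWith_locP_etale hx
  have hs : AlgSt.RepByAlgSpWith (LocP @Smooth) x :=
    repByAlgSpWith_mono (fun _ _ _ h => locP_mono (Q := @Smooth) etale_le_smooth h) he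
  have hu : AlgSt.RepByAlgSpWith (LocP (@LocallyOfFiniteType ⊓ @FormallyUnramified)) x :=
    repByAlgSpWith_mono (fun _ _ _ h => locP_mono (Q := @LocallyOfFiniteType ⊓ @FormallyUnramified)
      (fun _ _ g (_ : Etale g) => ⟨inferInstance, inferInstance⟩) h) he
  refine repByAlgSpWith_isEtaleMor (repByAlgSpWith_of_chart hX hY hxy fun {_} v v' hv hvv R {_ _ _} hc hw => ?_)
  have := smooth_w hX hY hxy hfp hs hv hvv R hc hw
  have := (unr_w hX hY hxy hfp hu hvv R hc hw).2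
  exact Etale.of_formallyUnramified_of_flat _

end Detect

section Surjective

variable {𝒳' 𝒴' : AlgSt.Cat S} [FibCat.IsFibGrpd 𝒳'.p] [FibCat.IsFibGrpd 𝒴'.p] {f : 𝒳 ⥤ᵇ 𝒴} {f' : 𝒳' ⥤ᵇ 𝒴'}

theorem triv_comp {T : Over S} (w : FibCat.overCat T ⥤ᵇ 𝒳) :
    IsoNat.mapCls f T (triv w (Over.mk (𝟙 T))) = triv (BasedFunctor.comp w f) (Over.mk (𝟙 T)) := rfl

theorem corr_comp (φ : IsoNat.FIsoSq f f') {T : Over S} {w : FibCat.overCat T ⥤ᵇ 𝒳}
    {w' : FibCat.overCat T ⥤ᵇ 𝒳'} (h : Corr (clsIsoOfFIso φ.src) w w') :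
    Corr (clsIsoOfFIso φ.tgt) (BasedFunctor.comp w f) (BasedFunctor.comp w' f') := by
  show φ.tgt.toEquiv T _ = _
  rw [← triv_comp, φ.comm]
  exact congrArg (IsoNat.mapCls f' T) h

/-- Equalities of points of charts are detected by classes. -/
theorem ofChart_eq_transfer {T : Over S} {a : FibCat.overCat T ⥤ᵇ 𝒳} {b : FibCat.overCat U ⥤ᵇ 𝒳}
    {a' : FibCat.overCat T ⥤ᵇ 𝒴} {b' : FibCat.overCat U ⥤ᵇ 𝒴} (ha : Corr ψ a a') (hb : Corr ψ b b')
    (hb1 : AlgSt.RepByAlgSp1 b) {t : ↥T.left} {s : ↥U.left}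
    (h : AlgSt.Points.ofChart a t = AlgSt.Points.ofChart b s) :
    AlgSt.Points.ofChart a' t = AlgSt.Points.ofChart b' s := by
  obtain ⟨Z, k, l, ⟨i⟩, hp, -, -⟩ := exists_chart_fp inferInstance a hb1
  obtain ⟨z, hz₁, hz₂⟩ := hp t s h
  have hc := congrArg (ψ.eqv Z) (triv_eq_of_iso i)
  rw [triv_comp_overMap, triv_comp_overMap, ψ.nat, ψ.nat, ha, hb, ← triv_comp_overMap, ← triv_comp_overMap] at hc
  obtain ⟨j⟩ := exists_iso_of_triv hc
  rw [← hz₁, ← hz₂, ← ofChart_overMap, ← ofChart_overMap]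
  exact pts_map_congr j (ptAt Z z)

theorem surj_detect (hX : Nice 𝒳) (hY : Nice 𝒴) (hxy : Corr ψ x y)
    (hx : AlgSt.RepByAlgSpWith IsSurjectiveMor x) : AlgSt.RepByAlgSpWith IsSurjectiveMor y := by
  refine repByAlgSpWith_surjective_of_isSurjective (isFibGrpd_overCat U) inferInstance (hY.rep1 y) fun p => ?_
  obtain ⟨q, rfl⟩ := AlgSt.Points.mk_surjective p
  obtain ⟨z, hz⟩ := exists_ofChart_eq (inferInstanceAs (FibCat.IsFibGrpd 𝒴.p)) q
  obtain ⟨z', hzz⟩ := exists_corr_left ψ z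
  let t : ↥(Over.mk q.str).left := IsLocalRing.closedPoint q.K
  obtain ⟨s, hs⟩ := ofChart_surjective inferInstance hx (AlgSt.Points.ofChart z' t)
  refine ⟨ptAt U s, ?_⟩
  rw [← ofChart_eq_map, ofChart_eq_transfer hxy hzz (hX.rep1 z') hs]
  exact hz t

theorem surj_detect_sq (φ : IsoNat.FIsoSq f f') (hX : Nice 𝒳) (hY : Nice 𝒴)
    (hf : AlgSt.RepByAlgSpWith IsSurjectiveMor f) : AlgSt.IsSurjective f' := by
  intro p
  obtain ⟨q, rfl⟩ := AlgSt.Points.mk_surjective p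
  obtain ⟨z', hz'⟩ := exists_ofChart_eq (inferInstanceAs (FibCat.IsFibGrpd 𝒴'.p)) q
  obtain ⟨z, hzz⟩ := exists_corr_left (clsIsoOfFIso φ.tgt) z'
  let t : ↥(Over.mk q.str).left := IsLocalRing.closedPoint q.K
  obtain ⟨r, hr⟩ := isSurjective_of_repByAlgSpWith hX.fib hY.fib hX.alg.atlas hf (AlgSt.Points.ofChart z t)
  obtain ⟨r', rfl⟩ := AlgSt.Points.mk_surjective r
  obtain ⟨w, hw⟩ := exists_ofChart_eq hX.fib r'
  obtain ⟨w', hww⟩ := exists_corr_right (clsIsoOfFIso φ.src) w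
  let t' : ↥(Over.mk r'.str).left := IsLocalRing.closedPoint r'.K
  rw [← hw t', map_ofChart] at hr
  refine ⟨AlgSt.Points.ofChart w' t', ?_⟩
  rw [map_ofChart, ofChart_eq_transfer (corr_comp φ hww) hzz (hY.rep1 z) hr]
  exact hz' t

theorem lfp_detect_sq (φ : IsoNat.FIsoSq f f') (hX : Nice 𝒳) (hY : Nice 𝒴) (hX' : Nice 𝒳') (hY' : Nice 𝒴')
    (hf' : AlgSt.RepByAlgSp1 f') (hf : AlgSt.RepByAlgSpWith (LocP @LocallyOfFinitePresentation) f) :
    AlgSt.RepByAlgSpWith (LocP @LocallyOfFinitePresentation) f' := by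
  obtain ⟨U', x', hx', hx''⟩ := hX'.alg.atlas
  obtain ⟨x₀, hxx⟩ := exists_corr_left (clsIsoOfFIso φ.src) x'
  have hs := smooth_detect hX' hX hxx.symm (repByAlgSpWith_lfp_of_smooth hx') hx'
  have hc := repByAlgSpWith_locP_comp (isFibGrpd_overCat U') hX.fib (repByAlgSpWith_lfp_of_smooth hs) hf
  exact repByAlgSpWith_of_comp_smooth_surjective stableBC_locP (isLocalOnSource_smooth _) (isFibGrpd_overCat U')
    hX'.fib hf' hx' hx'' (lfp_detect hY hY' (corr_comp φ hxx) hc)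

end Surjective

end Groth.Agent.IsoNatLib
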