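import Groth.Agent.IsoNatLib.IsoMap
import Groth.Agent.IsoNatLib.Main
import Groth.Agent.IsoNatLib.DiagSep
import Groth.Agent.AlgStLib.DiagLFT
import Groth.Agent.AlgStLib.SheafGlue
import Groth.Agent.SchDenseLib.FlatLFP
import Mathlib.AlgebraicGeometry.Morphisms.ClosedImmersion
import Mathlib.CategoryTheory.Sites.RegularEpi

/-!
# Isomorphisms of bald charts are determined by classes
-/

set_option autoImplicit false
set_option backward.isDefEq.respectTransparency false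
set_option backward.isDefEq.respectTransparency.types false

universe u

open CategoryTheory CategoryTheory.Functor CategoryTheory.Limits AlgebraicGeometry Opposite AlgSp
  Groth.Agent.FibBase Groth.Agent.AlgSpLib Groth.Agent.AlgStLib

namespace Groth.Agent.IsoNatLib

/-- A schematically dense open lies in no smaller closed subscheme. -/
theorem isSchDense_opens {V : Scheme.{u}} {O : V.Opens} (h : CInt.IsSchematicallyDense O) : IsSchDense O.ι := by
  intro E i hi k hk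
  rw [IsClosedImmersion.isIso_iff_ker_eq_bot]
  refine le_antisymm ?_ bot_le
  refine le_trans (hk ▸ k.le_ker_comp i : i.ker ≤ O.ι.ker) fun W a ha => ?_
  have h₁ : O.ι.app W a = 0 := O.ι.ideal_ker_le W ha
  rw [Scheme.Opens.ι_app] at h₁
  have hle : W.1 ⊓ O ≤ O.ι ''ᵁ (O.ι ⁻¹ᵁ W.1) := by
    rw [Scheme.Hom.image_preimage_eq_opensRange_inf, Scheme.Opens.opensRange_ι, inf_comm]
  exact (Groth.Agent.SchDenseLib.iff_eq_zero O).1 h W.1 a
    (Groth.Agent.SchDenseLib.map_eq_zero_of_le a _ hle h₁)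

variable {S : Scheme.{u}} {𝒳 𝒵 : AlgSt.Cat S} [FibCat.IsFibGrpd 𝒳.p] [FibCat.IsFibGrpd 𝒵.p] {U : Over S}

/-- The standing assumptions on a chart. -/
structure BaldChart (z : FibCat.overCat U ⥤ᵇ 𝒵) : Prop where
  sep : AlgSt.RepByAlgSpWith IsSeparatedMor (FibCat.diag (FibCat.toSelf 𝒵))
  smooth : AlgSt.RepByAlgSpWith (LocP @Smooth) z
  dense : ∃ V : U.left.Opens, (∀ (T : Over S) (g : T ⟶ U),
      (∃ g' : T.left ⟶ ↑V, g' ≫ V.ι = g.left) → IsoNat.IsClean (z.obj (Over.mk g))) ∧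
    CInt.IsSchematicallyDense V

variable {x : FibCat.overCat U ⥤ᵇ 𝒳} {z : FibCat.overCat U ⥤ᵇ 𝒵}

/-- On a scheme flat over the chart, triples are determined by their points. -/
theorem Tri.eq_of_flat (hz : BaldChart z) {T : Over S} (t t' : Tri z z T) (hh : t.h = t'.h) (hg : t.g = t'.g)
    (hf : Flat t.h.left) (hp : LocallyOfFinitePresentation t.h.left) : t = t' := by
  obtain ⟨a, ha, e, rfl⟩ := t.exists_comp t' hh hg
  obtain ⟨γ, hγ⟩ := a.exists_ofAut (e.trans ha.symm)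
  obtain ⟨V, hV, hd⟩ := hz.dense
  let O : T.left.Opens := t.h.left ⁻¹ᵁ V
  let j : Over.mk (O.ι ≫ T.hom) ⟶ T := Over.homMk O.ι rfl
  have hjd : IsSchDense j.left :=
    isSchDense_opens (Groth.Agent.SchDenseLib.preimage_of_flat_lfp t.h.left V hd)
  have hc : IsoNat.IsClean (z.obj (Over.mk (j ≫ a.h))) := hV _ _ ⟨t.h.left ∣_ V, by
    rw [morphismRestrict_ι, ha, Over.comp_left]; rfl⟩
  have htriv : ∀ σ : AutAt z (Over.mk (j ≫ a.h)), σ = 1 := fun σ => Iso.ext (Subtype.ext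
    (hc _ (𝟙 _) σ.hom.1 (by rw [map_eq_of_isHomLift_id σ.hom.2]; rfl)))
  have h1 : γ = 1 := res_injective_of_dense hz.sep (ovHom j a.h) hjd
    ((htriv _).trans (htriv _).symm)
  have h2 : a = Tri.one t.h := by
    rw [hγ, h1, ← ha]
    rfl
  subst h2
  exact (Tri.one_comp t).symm

/-- A point-preserving natural map of triples. -/
structure TriMap (x : FibCat.overCat U ⥤ᵇ 𝒳) (z : FibCat.overCat U ⥤ᵇ 𝒵) where
  /-- the map -/
  F : ∀ {T : Over S}, Tri x x T → Tri z z T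
  h_eq : ∀ {T : Over S} (t : Tri x x T), (F t).h = t.h
  g_eq : ∀ {T : Over S} (t : Tri x x T), (F t).g = t.g
  res : ∀ {T T' : Over S} (t : Tri x x T) (φ : T' ⟶ T), F (t.res φ) = (F t).res φ

omit [FibCat.IsFibGrpd 𝒳.p] in
theorem epi_yon_map {T T' : Over S} (π : T' ⟶ T) [Etale π.left] [Surjective π.left] : Epi ((yon S).map π) :=
  epi_of_etale_surjective ((repWith_yon_map_iff _ _).2 inferInstance) ((repWith_yon_map_iff _ _).2 inferInstance)

/-- Restriction of triples along etale coverings is injective. -/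
theorem Tri.res_injective (hz : AlgSt.RepByAlgSp1 z) {T T' : Over S} (π : T' ⟶ T) [Etale π.left]
    [Surjective π.left] {t t' : Tri z z T} (h : t.res π = t'.res π) : t = t' := by
  obtain ⟨R, -, -⟩ := exists_triRep (v := z) (repByAlgSp1_iff_top.1 hz)
  have := epi_yon_map π
  exact R.pt_inj ((cancel_epi ((yon S).map π)).1 (by rw [← R.pt_res, ← R.pt_res, h]))

/-- The universal triple on an etale chart of the space of triples. -/
structure TriAtlas (x : FibCat.overCat U ⥤ᵇ 𝒳) where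
  /-- the space -/
  R : TriRep x x
  /-- the chart -/
  W : Over S
  /-- the map of the chart -/
  c : (yon S).obj W ⟶ R.F.obj
  etale : RepWith @Etale c
  surj : RepWith @Surjective c
  /-- the triple -/
  t : Tri x x W
  pt_t : R.pt t = c
  smooth : Smooth t.h.left

theorem exists_triAtlas (hx : AlgSt.RepByAlgSpWith (LocP @Smooth) x) : Nonempty (TriAtlas x) := by
  obtain ⟨R, hR, -⟩ := exists_triRep (v := x) hx
  obtain ⟨W, c, hc, hc'⟩ := R.F.property.atlas
  obtain ⟨t, ht⟩ := R.pt_surj c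
  exact ⟨⟨R, W, c, hc, hc', t, ht, hR c (𝟙 _) t.h hc (repWith_id _ U)
    (by rw [← ht, R.pt_a, Category.comp_id])⟩⟩

theorem TriAtlas.exists_cover (A : TriAtlas x) {T : Over S} (t : Tri x x T) :
    ∃ (T' : Over S) (π : T' ⟶ T) (c : T' ⟶ A.W), Etale π.left ∧ Surjective π.left ∧ t.res π = A.t.res c := by
  refine ⟨A.etale.rep.pullback (A.R.pt t), A.etale.rep.snd _, A.etale.rep.fst' (A.R.pt t), A.etale.property_snd _,
    A.surj.property_snd _, A.R.pt_inj ?_⟩
  rw [A.R.pt_res, A.R.pt_res, A.pt_t, Functor.relativelyRepresentable.map_fst']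
  exact (A.etale.rep.w _).symm

variable (hz : BaldChart z) (hz1 : AlgSt.RepByAlgSp1 z) (hx : AlgSt.RepByAlgSpWith (LocP @Smooth) x)

include hz hz1 hx

theorem TriMap.ext' (F G : TriMap x z) {T : Over S} (t : Tri x x T) : F.F t = G.F t := by
  obtain ⟨A⟩ := exists_triAtlas hx
  obtain ⟨T', π, c, hπ, hπ', e⟩ := A.exists_cover t
  refine Tri.res_injective hz1 π ?_
  rw [← F.res, ← G.res, e, F.res, G.res]
  have := A.smooth
  congr 1
  exact Tri.eq_of_flat hz _ _ ((F.h_eq _).trans (G.h_eq _).symm) ((F.g_eq _).trans (G.g_eq _).symm)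
    (by rw [F.h_eq]; infer_instance) (by rw [F.h_eq]; infer_instance)

theorem TriMap.map_comp (F : TriMap x z) {T : Over S} (a b : Tri x x T) (e : a.g = b.h) :
    F.F (a.comp b e) = (F.F a).comp (F.F b) (by rw [F.g_eq, F.h_eq, e]) := by
  obtain ⟨A⟩ := exists_triAtlas hx
  obtain ⟨T₁, π₁, c₁, hπ₁, hπ₁', e₁⟩ := A.exists_cover a
  obtain ⟨T₂, π₂, c₂, hπ₂, hπ₂', e₂⟩ := A.exists_cover (b.res π₁)
  have : Etale (π₂ ≫ π₁).left := by rw [Over.comp_left]; infer_instance
  have : Surjective (π₂ ≫ π₁).left := by rw [Over.comp_left]; infer_instance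
  refine Tri.res_injective hz1 (π₂ ≫ π₁) ?_
  -- the universal pair
  let P : Over S := Over.mk (pullback.fst A.t.g.left A.t.h.left ≫ A.W.hom)
  let p₁ : P ⟶ A.W := Over.homMk (pullback.fst A.t.g.left A.t.h.left) rfl
  let p₂ : P ⟶ A.W := Over.homMk (pullback.snd A.t.g.left A.t.h.left) (by
    show _ = pullback.fst A.t.g.left A.t.h.left ≫ A.W.hom
    conv_lhs => rw [← Over.w A.t.h]
    rw [← pullback.condition_assoc, Over.w A.t.g])
  have eP : (A.t.res p₁).g = (A.t.res p₂).h := Over.OverMorphism.ext pullback.condition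
  have ea : a.res (π₂ ≫ π₁) = A.t.res (π₂ ≫ c₁) := by rw [← Tri.res_res, e₁, Tri.res_res]
  have eb : b.res (π₂ ≫ π₁) = A.t.res c₂ := by rw [← Tri.res_res, e₂]
  have ew : (π₂ ≫ c₁) ≫ A.t.g = c₂ ≫ A.t.h := by
    rw [← Tri.res_g, ← Tri.res_h, ← ea, ← eb, Tri.res_g, Tri.res_h, e]
  let s : T₂ ⟶ P := Over.homMk
    (pullback.lift (π₂ ≫ c₁).left c₂.left (by rw [← Over.comp_left, ← Over.comp_left, ew]))
    (by
      show pullback.lift _ _ _ ≫ pullback.fst _ _ ≫ A.W.hom = _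
      rw [pullback.lift_fst_assoc, Over.w])
  have hs₁ : s ≫ p₁ = π₂ ≫ c₁ := Over.OverMorphism.ext (pullback.lift_fst _ _ _)
  have hs₂ : s ≫ p₂ = c₂ := Over.OverMorphism.ext (pullback.lift_snd _ _ _)
  have hP : F.F ((A.t.res p₁).comp (A.t.res p₂) eP) =
      (F.F (A.t.res p₁)).comp (F.F (A.t.res p₂)) (by rw [F.g_eq, F.h_eq, eP]) := by
    have := A.smooth
    have hsm : Smooth (p₁ ≫ A.t.h).left := by
      rw [Over.comp_left]
      show Smooth (pullback.fst A.t.g.left A.t.h.left ≫ A.t.h.left)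
      infer_instance
    refine Tri.eq_of_flat hz _ _ ?_ ?_ ?_ ?_
    · rw [F.h_eq, Tri.comp_h, Tri.comp_h, F.h_eq]
    · rw [F.g_eq, Tri.comp_g, Tri.comp_g, F.g_eq]
    · rw [F.h_eq, Tri.comp_h, Tri.res_h]; infer_instance
    · rw [F.h_eq, Tri.comp_h, Tri.res_h]; infer_instance
  have key : ((A.t.res p₁).comp (A.t.res p₂) eP).res s = (a.comp b e).res (π₂ ≫ π₁) := by
    rw [Tri.res_comp, Tri.res_comp]
    congr 1
    · rw [Tri.res_res, hs₁, ea]
    · rw [Tri.res_res, hs₂, eb]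
  rw [← F.res, ← key, F.res, hP, Tri.res_comp, Tri.res_comp]
  congr 1
  · rw [← F.res, ← F.res, Tri.res_res, hs₁, ea]
  · rw [← F.res, ← F.res, Tri.res_res, hs₂, eb]

/-- Corresponding charts have a natural map of triples. -/
theorem exists_triMap (hex : ∀ {T : Over S} (t : Tri x x T), ∃ t' : Tri z z T, t'.h = t.h ∧ t'.g = t.g) :
    Nonempty (TriMap x z) := by
  obtain ⟨A⟩ := exists_triAtlas hx
  obtain ⟨R', -, -⟩ := exists_triRep (v := z) (repByAlgSp1_iff_top.1 hz1)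
  obtain ⟨t', hth, htg⟩ := hex A.t
  have := A.smooth
  -- agreement on the kernel pair
  have hker : ∀ {T : Over S} (a b : T ⟶ A.W), A.t.res a = A.t.res b → t'.res a = t'.res b := by
    intro T a b hab
    let W₂ := A.etale.rep.pullback A.c
    let q₁ : W₂ ⟶ A.W := A.etale.rep.fst' A.c
    let q₂ : W₂ ⟶ A.W := A.etale.rep.snd A.c
    have hq₂ : Etale q₂.left := A.etale.property_snd _
    have e₂ : A.t.res q₁ = A.t.res q₂ := A.R.pt_inj (by
      rw [A.R.pt_res, A.R.pt_res, A.pt_t, Functor.relativelyRepresentable.map_fst']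
      exact A.etale.rep.w _)
    have hsm : Smooth (q₁ ≫ A.t.h).left := by
      rw [show q₁ ≫ A.t.h = q₂ ≫ A.t.h from congrArg Tri.h e₂, Over.comp_left]
      infer_instance
    have e' : t'.res q₁ = t'.res q₂ := by
      refine Tri.eq_of_flat hz _ _ ?_ ?_ ?_ ?_
      · rw [Tri.res_h, Tri.res_h, hth]; exact congrArg Tri.h e₂
      · rw [Tri.res_g, Tri.res_g, htg]; exact congrArg Tri.g e₂
      · rw [Tri.res_h, hth]; infer_instance
      · rw [Tri.res_h, hth]; infer_instance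
    let l : T ⟶ W₂ := A.etale.rep.lift' a b (by rw [← A.pt_t, ← A.R.pt_res, ← A.R.pt_res, hab])
    have hl₁ : l ≫ q₁ = a := A.etale.rep.lift'_fst _ _ _
    have hl₂ : l ≫ q₂ = b := A.etale.rep.lift'_snd _ _ _
    rw [← hl₁, ← hl₂, ← Tri.res_res, ← Tri.res_res, e']
  -- descent of the map
  have : Epi A.c := epi_of_etale_surjective A.etale A.surj
  let hreg : RegularEpi A.c := (IsRegularEpiCategory.regularEpiOfEpi A.c).regularEpi.some
  have hpair : hreg.left ≫ R'.pt t' = hreg.right ≫ R'.pt t' := SheafGlue.hom_ext_points fun T p => by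
    obtain ⟨a, ha⟩ := (yon S).map_surjective (p ≫ hreg.left)
    obtain ⟨b, hb⟩ := (yon S).map_surjective (p ≫ hreg.right)
    rw [← Category.assoc, ← Category.assoc, ← ha, ← hb, ← R'.pt_res, ← R'.pt_res, hker a b (A.R.pt_inj (by
      rw [A.R.pt_res, A.R.pt_res, A.pt_t, ha, hb, Category.assoc, Category.assoc, hreg.w]))]
  let m : A.R.F.obj ⟶ R'.F.obj := (Cofork.IsColimit.desc' hreg.isColimit (R'.pt t') hpair).1
  have hm : A.c ≫ m = R'.pt t' := (Cofork.IsColimit.desc' hreg.isColimit (R'.pt t') hpair).2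
  have hF : ∀ {T : Over S} (t : Tri x x T), ∃ f : Tri z z T, R'.pt f = A.R.pt t ≫ m := fun t => R'.pt_surj _
  choose F hF using @hF
  have hcov : ∀ {T : Over S} (t : Tri x x T) {T' : Over S} (π : T' ⟶ T) (c : T' ⟶ A.W),
      t.res π = A.t.res c → (F t).res π = t'.res c := fun {T} t {T'} π c e => R'.pt_inj (by
    rw [R'.pt_res, R'.pt_res, hF, ← hm, ← Category.assoc, ← A.R.pt_res, e, A.R.pt_res, A.pt_t, Category.assoc])
  refine ⟨⟨fun t => F t, fun {T} t => ?_, fun {T} t => ?_, fun {T T'} t φ => R'.pt_inj ?_⟩⟩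
  · obtain ⟨T', π, c, hπ, hπ', e⟩ := A.exists_cover t
    have := epi_yon_map π
    refine (yon S).map_injective ((cancel_epi ((yon S).map π)).1 ?_)
    rw [← Functor.map_comp, ← Functor.map_comp]
    refine congrArg (yon S).map ?_
    rw [← Tri.res_h, hcov t π c e, Tri.res_h, hth, ← Tri.res_h, ← e, Tri.res_h]
  · obtain ⟨T', π, c, hπ, hπ', e⟩ := A.exists_cover t
    have := epi_yon_map π
    refine (yon S).map_injective ((cancel_epi ((yon S).map π)).1 ?_)
    rw [← Functor.map_comp, ← Functor.map_comp]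
    refine congrArg (yon S).map ?_
    rw [← Tri.res_g, hcov t π c e, Tri.res_g, htg, ← Tri.res_g, ← e, Tri.res_g]
  · rw [hF, R'.pt_res, hF, A.R.pt_res, Category.assoc]

omit hz hz1 hx

/-- The identity map of triples. -/
def TriMap.refl (x : FibCat.overCat U ⥤ᵇ 𝒳) : TriMap x x where
  F t := t
  h_eq _ := rfl
  g_eq _ := rfl
  res _ _ := rfl

/-- Composition of maps of triples. -/
def TriMap.trans (F : TriMap x z) (G : TriMap z x) : TriMap x x where
  F t := G.F (F.F t)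
  h_eq t := (G.h_eq _).trans (F.h_eq t)
  g_eq t := (G.g_eq _).trans (F.g_eq t)
  res t φ := by rw [F.res, G.res]

/-- Bald corresponding charts have the same isomorphisms. -/
theorem exists_isoMap {ψ : ClsIso 𝒳 𝒵} (hx : BaldChart x) (hz : BaldChart z) (hx1 : AlgSt.RepByAlgSp1 x)
    (hz1 : AlgSt.RepByAlgSp1 z) (hxz : Corr ψ x z) : Nonempty (IsoMap x z) := by
  obtain ⟨F⟩ := exists_triMap hz hz1 hx.smooth fun t => hxz.exists_tri hxz t
  obtain ⟨G⟩ := exists_triMap hx hx1 hz.smooth fun t => hxz.symm.exists_tri hxz.symm t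
  have hFG : ∀ {T : Over S} (t : Tri x x T), G.F (F.F t) = t := fun t =>
    (F.trans G).ext' hx hx1 hx.smooth (TriMap.refl x) t
  have hGF : ∀ {T : Over S} (t : Tri z z T), F.F (G.F t) = t := fun t =>
    (G.trans F).ext' hz hz1 hz.smooth (TriMap.refl z) t
  have ex : ∀ {T : Over S} (h g : T ⟶ U) (δ : @Iso (𝒳.p.Fiber T) _ (fib x (Over.mk h)) (fib x (Over.mk g))),
      ∃ δ' : @Iso (𝒵.p.Fiber T) _ (fib z (Over.mk h)) (fib z (Over.mk g)), F.F ⟨h, g, δ⟩ = ⟨h, g, δ'⟩ := by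
    intro T h g δ
    rcases hv : F.F ⟨h, g, δ⟩ with ⟨h', g', δ'⟩
    have eh := F.h_eq ⟨h, g, δ⟩
    have eg := F.g_eq ⟨h, g, δ⟩
    rw [hv] at eh eg
    dsimp only at eh eg
    subst eh eg
    exact ⟨δ', rfl⟩
  choose f hf using @ex
  have hbij : ∀ {T : Over S} (h g : T ⟶ U), Function.Bijective (fun δ => f h g δ) := by
    intro T h g
    constructor
    · intro δ δ' e
      have := congrArg G.F ((hf h g δ).trans ((congrArg (Tri.mk h g) e).trans (hf h g δ').symm))
      rw [hFG, hFG] at this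
      injection this
    · intro ε
      rcases hv : G.F ⟨h, g, ε⟩ with ⟨h', g', δ⟩
      have eh := G.h_eq ⟨h, g, ε⟩
      have eg := G.g_eq ⟨h, g, ε⟩
      rw [hv] at eh eg
      dsimp only at eh eg
      subst eh eg
      have := congrArg F.F hv
      rw [hGF, hf] at this
      injection this with _ _ this
      exact ⟨δ, this.symm⟩
  refine ⟨⟨fun h g => Equiv.ofBijective _ (hbij h g), fun {T T' h g h' g'} p q hpq δ δ' e => ?_,
    fun {T} h g k δ ε => ?_⟩⟩
  · have hr : IsRes p.left (⟨h', g', δ'⟩ : Tri x x T') ⟨h, g, δ⟩ := ⟨p, q, rfl, hpq.symm, e⟩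
    have e₁ := congrArg F.F hr.eq
    rw [F.res, hf, hf] at e₁
    obtain ⟨p', q', hp', hq', e'⟩ := isRes_res (⟨h, g, f h g δ⟩ : Tri z z T) p.left
    have hr' : IsRes p.left (⟨h', g', f h' g' δ'⟩ : Tri z z T') ⟨h, g, f h g δ⟩ := e₁ ▸ ⟨p', q', hp', hq', e'⟩
    obtain ⟨p'', q'', hp'', hq'', e''⟩ := hr'
    rw [show p'' = p from Over.OverMorphism.ext hp'',
      show q'' = q from Over.OverMorphism.ext (hq''.trans hpq)] at e''
    exact e''
  · have e₁ := F.map_comp hz hz1 hx.smooth (⟨h, g, δ⟩ : Tri x x T) ⟨g, k, ε⟩ rfl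
    have gen : ∀ (A B : Tri z z T) (e : A.g = B.h), A = ⟨h, g, f h g δ⟩ → B = ⟨g, k, f g k ε⟩ →
        A.comp B e = ⟨h, k, f h g δ ≪≫ f g k ε⟩ := by
      rintro _ _ _ rfl rfl
      simp [Tri.comp]
    have e₀ : (⟨h, g, δ⟩ : Tri x x T).comp ⟨g, k, ε⟩ rfl = ⟨h, k, δ ≪≫ ε⟩ := by simp [Tri.comp]
    rw [e₀, hf, gen _ _ _ (hf h g δ) (hf g k ε)] at e₁
    injection e₁

end Groth.Agent.IsoNatLib
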