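import Groth.Agent.IsoNatLib.LineDense
import Groth.Agent.AlgStLib.SetoidPsh
import Groth.Prelude.Def_W4c2isonaturalstkIso
import Mathlib.CategoryTheory.Conj

/-!
# Automorphism groups from presheaves of isomorphism classes
-/

set_option autoImplicit false
set_option backward.isDefEq.respectTransparency false
set_option backward.isDefEq.respectTransparency.types false

universe u

open CategoryTheory CategoryTheory.Functor AlgebraicGeometry AlgSp Groth.Agent.FibBase Groth.Agent.AlgStLib Opposite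

namespace Groth.Agent.IsoNatLib

variable {S : Scheme.{u}} {𝒳 𝒴 : AlgSt.Cat S} [FibCat.IsFibGrpd 𝒳.p] [FibCat.IsFibGrpd 𝒴.p]

/-- The natural bijection of classes of an isomorphism of presheaves of classes. -/
noncomputable def clsIsoOfFIso (φ : IsoNat.FIso 𝒳 𝒴) : ClsIso 𝒳 𝒴 where
  eqv := φ.toEquiv
  nat {V V'} g c := by
    obtain ⟨x, rfl⟩ := Quotient.exists_rep c
    obtain ⟨x', a, ha⟩ := exists_fiber_lift g x
    rw [pull_cl g a]
    obtain ⟨y', y, b, hb, h', h⟩ := φ.natural g x' x a ha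
    exact h'.trans ((congrArg (pull g) h).trans (pull_cl g b)).symm

lemma exists_overCat_aut {T : Over S} (x : 𝒳.p.Fiber T) :
    ∃ K : FibCat.overCat T ⥤ᵇ 𝒳, triv K (Over.mk (𝟙 T)) = cl x ∧
      Nonempty (Aut x ≃* AutAt K (Over.mk (𝟙 T))) := by
  obtain ⟨G, e, he⟩ := exists_overCat_obj (𝒳 := 𝒳) inferInstance (U := T) x.1 x.2
  let ε : fib G (Over.mk (𝟙 T)) ≅ x := fiberIsoMk (a := fib G (Over.mk (𝟙 T))) (b := x) e he
  exact ⟨G, Quotient.sound ⟨ε⟩, ⟨ε.symm.conjAut⟩⟩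

variable (hX : Stk.IsStack (J S) 𝒳) (hY : Stk.IsStack (J S) 𝒴)
  (hdX : AlgSt.RepByAlgSpWith IsSeparatedMor (FibCat.diag (FibCat.toSelf 𝒳)))
  (hdY : AlgSt.RepByAlgSpWith IsSeparatedMor (FibCat.diag (FibCat.toSelf 𝒴)))
  (φ : IsoNat.FIso 𝒳 𝒴)

include hX hY hdX hdY φ

/-- Automorphism groups of objects with corresponding classes. -/
theorem aut_transfer {T : Over S} {x : 𝒳.p.Fiber T} {y : 𝒴.p.Fiber T}
    (h : φ.toEquiv T (IsoNat.cls x) = IsoNat.cls y) :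
    (Subsingleton (Aut x) ↔ Subsingleton (Aut y)) ∧
      ((∀ s t : Aut x, s * t = t * s) ↔ ∀ s t : Aut y, s * t = t * s) ∧
      ((∀ s t : Aut x, s * t = t * s) → Nonempty (Aut x ≃* Aut y)) := by
  obtain ⟨K, hK, ⟨a⟩⟩ := exists_overCat_aut x
  obtain ⟨K', hK', ⟨b⟩⟩ := exists_overCat_aut y
  have hψ : (clsIsoOfFIso φ).eqv T (triv K (Over.mk (𝟙 T))) = triv K' (Over.mk (𝟙 T)) := by
    rw [hK, hK']; exact h
  have hi := res_lineDbl_injective T K hdX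
  have hi' := res_lineDbl_injective T K' hdY
  have hcomm : ∀ {G H : Type _} [Group G] [Group H] (f : G ≃* H),
      (∀ s t : G, s * t = t * s) → ∀ s t : H, s * t = t * s := fun f hc s t =>
    f.symm.injective (by rw [map_mul, map_mul, hc])
  refine ⟨?_, ?_, fun hc => ?_⟩
  · rw [a.toEquiv.subsingleton_congr, b.toEquiv.subsingleton_congr]
    exact subsingleton_aut_iff hX (gadgetSys T) (clsIsoOfFIso φ) hψ hY hi hi'
  · have key := comm_aut_iff hX (gadgetSys T) (clsIsoOfFIso φ) hψ hY hi hi'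
    exact ⟨fun hc => hcomm b.symm (key.1 (hcomm a hc)), fun hc => hcomm a.symm (key.2 (hcomm b hc))⟩
  · obtain ⟨m⟩ := nonempty_mulEquiv hX (gadgetSys T) (clsIsoOfFIso φ) hψ hY hi hi' (hcomm a hc)
    exact ⟨a.trans (m.trans b.symm)⟩

omit hX hY hdX hdY in
lemma exists_corresponding {T T' : Over S} {η : 𝒳.p.Fiber T} {η' : 𝒴.p.Fiber T}
    (hη : φ.toEquiv T (IsoNat.cls η) = IsoNat.cls η') (y : 𝒴.p.Fiber T') (b : y.1 ⟶ η'.1) :
    ∃ (x : 𝒳.p.Fiber T') (_ : x.1 ⟶ η.1), φ.toEquiv T' (IsoNat.cls x) = IsoNat.cls y := by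
  obtain ⟨y₁, hy⟩ := y
  obtain ⟨η₁, hη₁⟩ := η'
  subst hy hη₁
  let g := 𝒴.p.map b
  have hb : 𝒴.p.IsHomLift g b := inferInstanceAs (𝒴.p.IsHomLift (𝒴.p.map b) b)
  obtain ⟨x, a, ha⟩ := exists_fiber_lift g η
  refine ⟨x, a, ?_⟩
  have h1 := (clsIsoOfFIso φ).nat g (cl η)
  rw [pull_cl g a] at h1
  exact h1.trans ((congrArg (pull g) hη).trans (pull_cl g (y := ⟨y₁, rfl⟩) b))

omit hX hY hdX hdY in
lemma exists_corresponding' {T T' : Over S} {η : 𝒳.p.Fiber T} {η' : 𝒴.p.Fiber T}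
    (hη : φ.toEquiv T (IsoNat.cls η) = IsoNat.cls η') (x : 𝒳.p.Fiber T') (a : x.1 ⟶ η.1) :
    ∃ (y : 𝒴.p.Fiber T') (_ : y.1 ⟶ η'.1), φ.toEquiv T' (IsoNat.cls x) = IsoNat.cls y := by
  obtain ⟨x₁, hx⟩ := x
  obtain ⟨η₁, hη₁⟩ := η
  subst hx hη₁
  let g := 𝒳.p.map a
  have ha : 𝒳.p.IsHomLift g a := inferInstanceAs (𝒳.p.IsHomLift (𝒳.p.map a) a)
  obtain ⟨y, b, hb⟩ := exists_fiber_lift g η'
  refine ⟨y, b, ?_⟩
  have h1 := (clsIsoOfFIso φ).nat g (cl (⟨η₁, rfl⟩ : 𝒳.p.Fiber _))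
  rw [pull_cl g (y := ⟨x₁, rfl⟩) a] at h1
  exact h1.trans ((congrArg (pull g) hη).trans (pull_cl g b))

theorem isAutAbelian_iff {T : Over S} {η : 𝒳.p.Fiber T} {η' : 𝒴.p.Fiber T}
    (hη : φ.toEquiv T (IsoNat.cls η) = IsoNat.cls η') : IsoNat.IsAutAbelian η ↔ IsoNat.IsAutAbelian η' := by
  constructor
  · intro h T' y b
    obtain ⟨x, a, hxy⟩ := exists_corresponding φ hη y b
    exact (aut_transfer hX hY hdX hdY φ hxy).2.1.1 (h T' x a)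
  · intro h T' x a
    obtain ⟨y, b, hxy⟩ := exists_corresponding' φ hη x a
    exact (aut_transfer hX hY hdX hdY φ hxy).2.1.2 (h T' y b)

theorem nonempty_aut_mulEquiv {T : Over S} {η : 𝒳.p.Fiber T} {η' : 𝒴.p.Fiber T}
    (hη : φ.toEquiv T (IsoNat.cls η) = IsoNat.cls η') (hab : IsoNat.IsAutAbelian η) :
    Nonempty (Aut η ≃* Aut η') :=
  (aut_transfer hX hY hdX hdY φ hη).2.2 (hab T η (𝟙 η.1))

theorem isFibSetoid_of_fIso (h : FibCat.IsFibSetoid 𝒳.p) : FibCat.IsFibSetoid 𝒴.p := by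
  refine ⟨inferInstance, fun T a b => ⟨fun p q => ?_⟩⟩
  obtain ⟨c, hc⟩ := (φ.toEquiv T).surjective (IsoNat.cls b)
  obtain ⟨x, rfl⟩ := Quotient.exists_rep c
  have hs : Subsingleton (Aut x) := ⟨fun s t => Iso.ext ((h.2 T x x).elim _ _)⟩
  have hsb := (aut_transfer hX hY hdX hdY φ (y := b) hc).1.1 hs
  have := fiber_isIso p
  have := fiber_isIso q
  have e : (show Aut b from (asIso p).symm ≪≫ asIso q) = (1 : Aut b) := @Subsingleton.elim _ hsb _ _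
  have e' : inv p ≫ q = 𝟙 b := congrArg Iso.hom e
  rw [IsIso.inv_comp_eq, Category.comp_id] at e'
  exact e'.symm

theorem repByAlgSp_of_fIso (hsp : AlgSt.RepByAlgSp 𝒳) : AlgSt.RepByAlgSp 𝒴 := by
  have hsX := isFibSetoid_of_repByAlgSp hsp
  have hsY := isFibSetoid_of_fIso hX hY hdX hdY φ hsX
  have hX' : FibCat.IsFibGrpd 𝒳.p := inferInstance
  have hY' : FibCat.IsFibGrpd 𝒴.p := inferInstance
  have hcl : ∀ {T : Over S} (a : {z : 𝒳.obj // 𝒳.p.obj z = T}) (c : {z : 𝒳.obj // 𝒳.p.obj z = T}),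
      (fibreSetoid 𝒳 T).r a c → cl (⟨a.1, a.2⟩ : 𝒳.p.Fiber T) = cl ⟨c.1, c.2⟩ := fun a c ⟨e, he⟩ =>
    Quotient.sound ⟨fiberIsoMk e he⟩
  let α : ∀ T : Over S, (clsPsh 𝒳 hX').obj (op T) ≃ (clsPsh 𝒴 hY').obj (op T) := fun T =>
    ((Quotient.congr (Equiv.refl _) fun a b =>
      ⟨fun ⟨e, he⟩ => ⟨fiberIsoMk e he⟩, fun ⟨e⟩ => ⟨ofFiberIso e, ofFiberIso_lift e⟩⟩ :
        (clsPsh 𝒳 hX').obj (op T) ≃ Cls 𝒳 T)).trans ((φ.toEquiv T).trans
    ((Quotient.congr (Equiv.refl _) fun a b =>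
      ⟨fun ⟨e, he⟩ => ⟨fiberIsoMk e he⟩, fun ⟨e⟩ => ⟨ofFiberIso e, ofFiberIso_lift e⟩⟩ :
        (clsPsh 𝒴 hY').obj (op T) ≃ Cls 𝒴 T)).symm)
  let m : clsPsh 𝒳 hX' ≅ clsPsh 𝒴 hY' := NatIso.ofComponents (fun T => (α T.unop).toIso) (fun {T T'} g => by
    ext c
    induction c using Quotient.inductionOn' with
    | h a =>
      obtain ⟨f, hf⟩ := exists_liftSrc 𝒳 hX' g.unop a
      obtain ⟨y', y, b, hb, h', h⟩ := φ.natural g.unop ⟨(liftSrc 𝒳 hX' g.unop a).1, (liftSrc 𝒳 hX' g.unop a).2⟩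
        ⟨a.1, a.2⟩ f hf
      have e₁ : α T.unop (Groth.Agent.AlgStLib.cls 𝒳 hX' a) =
          Groth.Agent.AlgStLib.cls 𝒴 hY' ⟨y.1, y.2⟩ := by
        simp only [α, Equiv.trans_apply]
        rw [Equiv.symm_apply_eq]
        exact h
      have e₂ : α T'.unop (Groth.Agent.AlgStLib.cls 𝒳 hX' (liftSrc 𝒳 hX' g.unop a)) =
          Groth.Agent.AlgStLib.cls 𝒴 hY' ⟨y'.1, y'.2⟩ := by
        simp only [α, Equiv.trans_apply]
        rw [Equiv.symm_apply_eq]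
        exact h'
      show α T'.unop ((clsPsh 𝒳 hX').map g (Groth.Agent.AlgStLib.cls 𝒳 hX' a)) =
        (clsPsh 𝒴 hY').map g (α T.unop (Groth.Agent.AlgStLib.cls 𝒳 hX' a))
      rw [e₁, show g = g.unop.op from rfl, map_cls 𝒳 hX' g.unop a f, map_cls 𝒴 hY' g.unop ⟨y.1, y.2⟩ (b := ⟨y'.1, y'.2⟩) b]
      exact e₂)
  obtain ⟨F, E, hE⟩ := hsp
  have h1 := toCls_isEquivOver 𝒳 hX' hsX
  have h2 := isEquivOver_ofPshMap m.hom
  obtain ⟨k, hk, -⟩ := isEquivOver_inv (toCls_isEquivOver 𝒴 hY' hsY)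
  exact ⟨F, _, isEquivOver_comp hE (isEquivOver_comp h1 (isEquivOver_comp h2 hk))⟩

end Groth.Agent.IsoNatLib
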