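import Groth.Agent.IsoNatLib.LineDense
import Groth.Agent.IsoNatLib.Rows
import Groth.Agent.IsoNatLib.Main
import Mathlib.AlgebraicGeometry.Limits

/-!
# Objects without automorphisms and separatedness of classes
-/

set_option autoImplicit false
set_option backward.isDefEq.respectTransparency false
set_option backward.isDefEq.respectTransparency.types false

universe u

open CategoryTheory CategoryTheory.Functor CategoryTheory.Limits AlgebraicGeometry AlgSp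
  Groth.Agent.FibBase Groth.Agent.StkLib

namespace Groth.Agent.IsoNatLib

variable {S : Scheme.{u}}

/-- A flat surjective morphism, locally of finite presentation, covers. -/
theorem generate_singleton_mem_J {T T' : Over S} (π : T' ⟶ T) [Flat π.left] [Surjective π.left]
    [LocallyOfFinitePresentation π.left] : Sieve.generate (Presieve.singleton π) ∈ J S T := by
  rw [GrothendieckTopology.mem_over_iff]
  have hm : Presieve.ofArrows (fun _ : PUnit.{u + 1} => T'.left) (fun _ => π.left) ∈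
      Scheme.precoverage (@Flat ⊓ @LocallyOfFinitePresentation) T.left :=
    (Scheme.ofArrows_mem_precoverage_iff _).2
      ⟨fun x => ⟨⟨⟩, π.left.surjective x⟩, fun _ => ⟨inferInstance, inferInstance⟩⟩
  refine GrothendieckTopology.superset_covering _ ?_ (Precoverage.generate_mem_toGrothendieck hm)
  rintro Z _ ⟨Y, a, _, ⟨i⟩, rfl⟩
  rw [Sieve.overEquiv_iff]
  refine ⟨T', Over.homMk (U := Over.mk ((a ≫ π.left) ≫ T.hom)) a (by simp), π, ⟨⟩, ?_⟩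
  ext; simp

section Coprod

variable {U V Z : Over S} (i₁ : U ⟶ Z) (i₂ : V ⟶ Z)

/-- The disjoint union over `S`. -/
noncomputable abbrev sumOver : Over S := Over.mk (coprod.desc i₁.left i₂.left ≫ Z.hom)

/-- The disjoint union to the covered object. -/
noncomputable abbrev sumHom : sumOver i₁ i₂ ⟶ Z := Over.homMk (coprod.desc i₁.left i₂.left) rfl

/-- The first summand. -/
noncomputable abbrev sumInl : U ⟶ sumOver i₁ i₂ := Over.homMk coprod.inl (by simp)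

/-- The second summand. -/
noncomputable abbrev sumInr : V ⟶ sumOver i₁ i₂ := Over.homMk coprod.inr (by simp)

lemma sumInl_sumHom : sumInl i₁ i₂ ≫ sumHom i₁ i₂ = i₁ := by
  ext; simp

lemma sumInr_sumHom : sumInr i₁ i₂ ≫ sumHom i₁ i₂ = i₂ := by
  ext; simp

end Coprod

variable {𝒳 : AlgSt.Cat S} [FibCat.IsFibGrpd 𝒳.p]

/-- Objects over a disjoint union are determined by their restrictions. -/
theorem nonempty_iso_of_sum (hst : Stk.IsStack (J S) 𝒳) {U V Z : Over S} (i₁ : U ⟶ Z) (i₂ : V ⟶ Z)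
    {x x' : 𝒳.p.Fiber (sumOver i₁ i₂)} {u : 𝒳.p.Fiber U} {v : 𝒳.p.Fiber V}
    (h₁ : pull (sumInl i₁ i₂) (cl x) = cl u) (h₁' : pull (sumInl i₁ i₂) (cl x') = cl u)
    (h₂ : pull (sumInr i₁ i₂) (cl x) = cl v) (h₂' : pull (sumInr i₁ i₂) (cl x') = cl v) :
    Nonempty (x ≅ x') := by
  have hm₁ : Mono (sumInl i₁ i₂) :=
    (Over.forget S).mono_of_mono_map (inferInstanceAs (Mono (coprod.inl : U.left ⟶ U.left ⨿ V.left)))
  have hm₂ : Mono (sumInr i₁ i₂) :=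
    (Over.forget S).mono_of_mono_map (inferInstanceAs (Mono (coprod.inr : V.left ⟶ U.left ⨿ V.left)))
  let W : Over S := pullback (sumInl i₁ i₂) (sumInr i₁ i₂)
  let D : TwoCover (sumOver i₁ i₂) U V W :=
    ⟨_, _, pullback.fst _ _, pullback.snd _ _, hm₁, hm₂, IsPullback.of_hasPullback _ _⟩
  have hcov : D.sieve ∈ J S (sumOver i₁ i₂) := by
    refine mem_J_of_openImm (ι := ULift.{u} Bool) (fun i => bif i.down then U else V)
      (fun i => match i with | ⟨true⟩ => sumInl i₁ i₂ | ⟨false⟩ => sumInr i₁ i₂) ?_ (fun x => ?_) _ ?_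
    · rintro ⟨_ | _⟩
      · exact inferInstanceAs (IsOpenImmersion (coprod.inr : V.left ⟶ U.left ⨿ V.left))
      · exact inferInstanceAs (IsOpenImmersion (coprod.inl : U.left ⟶ U.left ⨿ V.left))
    · obtain ⟨y | y, rfl⟩ := (coprodMk U.left V.left).surjective x
      · exact ⟨⟨true⟩, y, (coprodMk_inl _ _ y).symm⟩
      · exact ⟨⟨false⟩, y, (coprodMk_inr _ _ y).symm⟩
    · rintro ⟨_ | _⟩
      · exact Or.inr ⟨𝟙 _, Category.id_comp _⟩
      · exact Or.inl ⟨𝟙 _, Category.id_comp _⟩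
  have hW : (⊥ : Sieve W) ∈ J S W := bot_mem_J ⟨fun w => by
    have h := congrArg (fun φ : W ⟶ sumOver i₁ i₂ => φ.left w) (pullback.condition (f := sumInl i₁ i₂) (g := sumInr i₁ i₂))
    exact inl_ne_inr U.left V.left _ _ h⟩
  obtain ⟨w, a₁, ha₁⟩ := exists_fiber_lift D.j₁ u
  obtain ⟨w', a₂, ha₂⟩ := exists_fiber_lift D.j₂ v
  have hw : (w : 𝒳.p.Fiber W).1 = w.1 := rfl
  obtain ⟨e⟩ : Nonempty (w ≅ w') := by
    let P : Over S := W
    obtain ⟨i, hi⟩ : ∃ i : w.1 ⟶ w'.1, 𝒳.p.IsHomLift (𝟙 P) i := by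
      have hR : (Stk.resSieve (⊥ : Sieve W) 𝒳).IsEquivalence := hst.2 _ hW
      obtain ⟨φ, hφ, -⟩ := exists_hom_glue (𝒳 := 𝒳) hst.1 (R := (⊥ : Sieve W)) inferInstance w.2 w'.2
        (fun _ _ hf => hf.elim) (fun _ _ hf => hf.elim) (fun _ _ _ _ hf => hf.elim)
      exact ⟨φ, hφ⟩
    have := fiber_isIso (p := 𝒳.p) (⟨i, hi⟩ : w ⟶ w')
    exact ⟨asIso (⟨i, hi⟩ : w ⟶ w')⟩
  have := e.hom.2
  let d : Datum D (𝒳 := 𝒳) :=
    { x₁ := u.1, x₂ := v.1, w := w.1, a₁ := a₁, a₂ := e.hom.1 ≫ a₂, lift₁ := ha₁,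
      lift₂ := IsHomLift.comp_lift_id_left' 𝒳.p W e.hom.1 D.j₂ a₂ }
  have mk : ∀ z : 𝒳.p.Fiber (sumOver i₁ i₂), pull D.i₁ (cl z) = cl u → pull D.i₂ (cl z) = cl v →
      ∃ G : Glued d, G.z = z.1 := by
    intro z hu hv
    obtain ⟨b₁, hb₁⟩ := exists_lift_of_pull_eq D.i₁ hu
    obtain ⟨b₂, hb₂⟩ := exists_lift_of_pull_eq D.i₂ hv
    have l₁ : 𝒳.p.IsHomLift (D.j₁ ≫ D.i₁) (a₁ ≫ b₁) := IsHomLift.comp 𝒳.p _ _ _ _
    have l₂ : 𝒳.p.IsHomLift (D.j₁ ≫ D.i₁) ((e.hom.1 ≫ a₂) ≫ b₂) := by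
      rw [D.sq.w]
      have := d.lift₂
      exact IsHomLift.comp 𝒳.p D.j₂ D.i₂ (e.hom.1 ≫ a₂) b₂
    exact ⟨{ z := z.1, b₁ := b₁, b₂ := b₂, lift₁ := hb₁, lift₂ := hb₂,
             comm := hom_eq_of_empty hst hW (D.j₁ ≫ D.i₁) (a₁ ≫ b₁) ((e.hom.1 ≫ a₂) ≫ b₂) }, rfl⟩
  obtain ⟨G, hG⟩ := mk x h₁ h₂
  obtain ⟨G', hG'⟩ := mk x' h₁' h₂'
  obtain ⟨i, hi, -, -⟩ := exists_iso_glued hst hcov G G'
  obtain ⟨xv, hx⟩ := x
  obtain ⟨xv', hx'⟩ := x'
  subst hG hG'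
  exact ⟨fiberIsoMk i hi⟩

/-- Without automorphisms, morphisms over a given arrow are unique. -/
theorem hom_eq_of_clean (hc : ∀ η : 𝒳.obj, IsoNat.IsClean η) {V T : Over S} (f : V ⟶ T) {y x : 𝒳.obj}
    (χ χ' : y ⟶ x) [𝒳.p.IsHomLift f χ] [𝒳.p.IsHomLift f χ'] : χ = χ' := by
  obtain rfl := IsHomLift.domain_eq 𝒳.p f χ
  have := isSC (p := 𝒳.p) f χ
  let m := IsCartesian.map 𝒳.p f χ χ'
  have hm : m ≫ χ = χ' := IsCartesian.fac 𝒳.p f χ χ'
  have hl : 𝒳.p.IsHomLift (𝟙 (𝒳.p.obj y)) m :=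
    inferInstanceAs (𝒳.p.IsHomLift (𝟙 _) (IsCartesian.map 𝒳.p f χ χ'))
  have : m = 𝟙 y := hc y y (𝟙 y) m (by
    have := IsHomLift.fac' 𝒳.p (𝟙 (𝒳.p.obj y)) m
    simpa using this)
  rw [this, Category.id_comp] at hm
  exact hm

/-- Without automorphisms, classes form a separated presheaf. -/
theorem separated_of_clean (hst : Stk.IsStack (J S) 𝒳) (hc : ∀ η : 𝒳.obj, IsoNat.IsClean η) {T T' : Over S}
    (π : T' ⟶ T) [Flat π.left] [Surjective π.left] [LocallyOfFinitePresentation π.left]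
    (x₁ x₂ : 𝒳.p.Fiber T) (x₁' x₂' : 𝒳.p.Fiber T') (a₁ : x₁'.1 ⟶ x₁.1) (a₂ : x₂'.1 ⟶ x₂.1)
    [𝒳.p.IsHomLift π a₁] [𝒳.p.IsHomLift π a₂] (e : x₁' ≅ x₂') : Nonempty (x₁ ≅ x₂) := by
  have := e.hom.2
  have ha : 𝒳.p.IsHomLift π (e.hom.1 ≫ a₂) := IsHomLift.comp_lift_id_left' 𝒳.p T' e.hom.1 π a₂
  let R := Sieve.generate (Presieve.singleton π)
  have hR : (Stk.resSieve R 𝒳).IsEquivalence := hst.2 _ (generate_singleton_mem_J π)
  have ex : ∀ ⦃V : Over S⦄ (f : V ⟶ T), R f → ∀ (y : 𝒳.obj) (ψ : y ⟶ x₁.1), 𝒳.p.IsHomLift f ψ →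
      ∃ χ : y ⟶ x₂.1, 𝒳.p.IsHomLift f χ := by
    intro V f hf y ψ hψ
    obtain ⟨_, g, _, ⟨⟩, rfl⟩ := hf
    have := isSC (p := 𝒳.p) π a₁
    let u := IsStronglyCartesian.map 𝒳.p π a₁ (g := g) (f' := g ≫ π) rfl ψ
    exact ⟨u ≫ e.hom.1 ≫ a₂, IsHomLift.comp 𝒳.p g π u (e.hom.1 ≫ a₂)⟩
  choose θ hθ using ex
  obtain ⟨φ, hφ, -⟩ := exists_hom_glue (𝒳 := 𝒳) hst.1 (U := T) (R := R) inferInstance x₁.2 x₂.2 θ hθ (by
    intro V V' f f' hf hf' g hg y ψ hψ y' ψ' hψ' γ hγ hγe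
    have := hθ f hf y ψ hψ
    have := hθ f' hf' y' ψ' hψ'
    have : 𝒳.p.IsHomLift f (γ ≫ θ f' hf' y' ψ' hψ') := by
      rw [← hg]; exact IsHomLift.comp 𝒳.p g f' γ _
    exact hom_eq_of_clean hc f _ _)
  have := fiber_isIso (p := 𝒳.p) (⟨φ, hφ⟩ : x₁ ⟶ x₂)
  exact ⟨asIso (⟨φ, hφ⟩ : x₁ ⟶ x₂)⟩

/-- If classes form a separated presheaf, there are no automorphisms. -/
theorem clean_of_separated (hst : Stk.IsStack (J S) 𝒳)
    (hd : AlgSt.RepByAlgSpWith IsSeparatedMor (FibCat.diag (FibCat.toSelf 𝒳)))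
    (H : ∀ (T T' : Over S) (π : T' ⟶ T) [Flat π.left] [Surjective π.left] [LocallyOfFinitePresentation π.left]
        (x₁ x₂ : 𝒳.p.Fiber T) (x₁' x₂' : 𝒳.p.Fiber T') (a₁ : x₁'.1 ⟶ x₁.1) (a₂ : x₂'.1 ⟶ x₂.1),
        𝒳.p.IsHomLift π a₁ → 𝒳.p.IsHomLift π a₂ → Nonempty (x₁' ≅ x₂') → Nonempty (x₁ ≅ x₂))
    (η : 𝒳.obj) : IsoNat.IsClean η := by
  intro x _ s hs
  let T := 𝒳.p.obj x
  obtain ⟨K, -, ⟨m⟩⟩ := exists_overCat_aut (⟨x, rfl⟩ : 𝒳.p.Fiber T)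
  suffices key : ∀ a : AutAt K (Over.mk (𝟙 T)), a = 1 by
    have hl : 𝒳.p.IsHomLift (𝟙 T) s := IsHomLift.of_fac' 𝒳.p _ s rfl rfl (by simp [hs])
    let x₀ : 𝒳.p.Fiber T := ⟨x, rfl⟩
    let f : x₀ ⟶ x₀ := ⟨s, hl⟩
    have := fiber_isIso (p := 𝒳.p) f
    let t : Aut x₀ := asIso f
    have ht : t = 1 := m.injective ((key (m t)).trans (key (m 1)).symm)
    exact congrArg (fun t : Aut x₀ => t.hom.1) ht
  intro a
  let G : Gadget (lineDbl T) (lineZero T) 2 := axesGadget T 0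
  obtain ⟨σ, hσ, -⟩ := existsUnique_glueW hst G (K := K) ![const _ a, 1]
  obtain ⟨Gl⟩ := exists_gl hst (K := K) G.D σ
  let j₀ := (branchesOpen.{u} 2).ι
  have : IsOpenImmersion G.D.i₁.left.left :=
    inferInstanceAs (IsOpenImmersion (prodL T (pushout.inl j₀ j₀)))
  have : IsOpenImmersion G.D.i₂.left.left :=
    inferInstanceAs (IsOpenImmersion (prodL T (pushout.inr j₀ j₀)))
  let i₁ : G.D.U.left ⟶ G.D.Z.left := G.D.i₁.left
  let i₂ : G.D.U.left ⟶ G.D.Z.left := G.D.i₂.left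
  let π := sumHom i₁ i₂
  have hsrc : ∀ {P : MorphismProperty Scheme.{u}} [IsZariskiLocalAtSource P],
      P i₁.left → P i₂.left → P π.left := by
    intro P _ p₁ p₂
    rw [IsZariskiLocalAtSource.iff_of_openCover (P := P) (coprodOpenCover.{u, u} G.D.U.left.left G.D.U.left.left)]
    rintro (_ | _)
    · show P (coprod.inl ≫ coprod.desc i₁.left i₂.left)
      rwa [coprod.inl_desc]
    · show P (coprod.inr ≫ coprod.desc i₁.left i₂.left)
      rwa [coprod.inr_desc]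
  have : Flat π.left := hsrc (P := @Flat) (inferInstanceAs (Flat G.D.i₁.left.left))
    (inferInstanceAs (Flat G.D.i₂.left.left))
  have : LocallyOfFinitePresentation π.left := hsrc (P := @LocallyOfFinitePresentation)
    (inferInstanceAs (LocallyOfFinitePresentation G.D.i₁.left.left))
    (inferInstanceAs (LocallyOfFinitePresentation G.D.i₂.left.left))
  have : Surjective π.left := ⟨fun z => by
    rcases dblS_jointly_surjective j₀ (pullback.snd (toPt T.left) (toPt (dblS j₀)) z) with h | h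
    · obtain ⟨y, hy⟩ := (mem_range_prodL T (pushout.inl j₀ j₀) z).2 h
      refine ⟨(coprod.inl : _ ⟶ _ ⨿ G.D.U.left.left) y, ?_⟩
      show (coprod.inl ≫ coprod.desc i₁.left i₂.left) y = z
      rwa [coprod.inl_desc]
    · obtain ⟨y, hy⟩ := (mem_range_prodL T (pushout.inr j₀ j₀) z).2 h
      refine ⟨(coprod.inr : G.D.U.left.left ⟶ G.D.U.left.left ⨿ _) y, ?_⟩
      show (coprod.inr ≫ coprod.desc i₁.left i₂.left) y = z
      rwa [coprod.inr_desc]⟩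
  obtain ⟨x₁', a₁, ha₁⟩ := exists_fiber_lift π (⟨Gl.z, Gl.proj⟩ : 𝒳.p.Fiber G.D.Z.left)
  obtain ⟨x₂', a₂, ha₂⟩ := exists_fiber_lift π (⟨(glOne (K := K) G.D).z, (glOne G.D).proj⟩ : 𝒳.p.Fiber G.D.Z.left)
  have hp₁ : ∀ {g : G.D.U.left ⟶ G.D.Z.left} (l : G.D.U.left ⟶ sumOver i₁ i₂), l ≫ π = g →
      ∀ (z : 𝒳.p.Fiber G.D.Z.left) (z' : 𝒳.p.Fiber (sumOver i₁ i₂)) (b : z'.1 ⟶ z.1),
        𝒳.p.IsHomLift π b → pull l (cl z') = pull g (cl z) := by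
    rintro g l rfl z z' b hb
    rw [← pull_cl π b, pull_pull]
  have he : Nonempty (x₁' ≅ x₂') := nonempty_iso_of_sum hst i₁ i₂ (u := fib K G.D.U) (v := fib K G.D.U)
    ((hp₁ _ (sumInl_sumHom i₁ i₂) _ _ a₁ ha₁).trans (gcl_pull_i₁ Gl))
    ((hp₁ _ (sumInl_sumHom i₁ i₂) _ _ a₂ ha₂).trans (gcl_pull_i₁ (glOne G.D)))
    ((hp₁ _ (sumInr_sumHom i₁ i₂) _ _ a₁ ha₁).trans (gcl_pull_i₂ Gl))
    ((hp₁ _ (sumInr_sumHom i₁ i₂) _ _ a₂ ha₂).trans (gcl_pull_i₂ (glOne G.D)))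
  obtain ⟨e⟩ := H _ _ π ⟨Gl.z, Gl.proj⟩ ⟨(glOne G.D).z, (glOne G.D).proj⟩ x₁' x₂' a₁ a₂ ha₁ ha₂ he
  obtain ⟨g, h, hgh⟩ := (gcl_eq_iff hst Gl (glOne G.D)).1 (Quotient.sound ⟨e⟩)
  have hσ' : σ = res G.D.j (g⁻¹ * h) := by
    rw [_root_.map_mul, _root_.map_inv, eq_inv_mul_iff_mul_eq]
    exact (mul_inv_eq_one.1 hgh.symm)
  have hinj := res_lineDbl_injective T K hd
  have hbr : ∀ i : Fin 2, res (G.β i).W σ = res (lineDbl T).j (res (G.β i).U (g⁻¹ * h)) := fun i => by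
    rw [hσ', res_res, res_res, (G.β i).wj]
  have h₀ : res (G.β 0).U (g⁻¹ * h) = const _ a := hinj (by
    show res (lineDbl T).j _ = res (lineDbl T).j _
    rw [← hbr, hσ, res_const]; rfl)
  have h₁ : res (G.β 1).U (g⁻¹ * h) = 1 := hinj (by
    show res (lineDbl T).j _ = res (lineDbl T).j _
    rw [← hbr, hσ, _root_.map_one]; rfl)
  have key : res (lineZero T) (const _ a) = res (lineZero T) (1 : AutAt K (lineDbl T).U) := by
    rw [← h₀, ← h₁, res_res, res_res, G.zβ, G.zβ]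
  rw [res_const, _root_.map_one, const,
    show toId (Over.mk (𝟙 T)) = 𝟙 _ from Over.OverMorphism.ext rfl, res_id] at key
  exact key

end Groth.Agent.IsoNatLib
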