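import Groth.Agent.IsoNatLib.Rows
import Groth.Agent.AlgStLib.Charts
import Groth.Agent.AlgStLib.Small

/-!
# Substacks cut out by open sets of classes
-/

set_option autoImplicit false
set_option backward.isDefEq.respectTransparency false
set_option backward.isDefEq.respectTransparency.types false

universe u

open CategoryTheory CategoryTheory.Functor CategoryTheory.Limits AlgebraicGeometry AlgSp
  Groth.Agent.FibBase Groth.Agent.AlgStLib Groth.Agent.AlgSpLib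

namespace Groth.Agent.IsoNatLib

variable {S : Scheme.{u}} {𝒴 : AlgSt.Cat S}

/-- The objects whose class lies in given sets. -/
abbrev clsProp (W : ∀ T : Over S, Set (IsoNat.IsoCl 𝒴 T)) : 𝒴.obj → Prop :=
  fun η => IsoNat.cls (⟨η, rfl⟩ : 𝒴.p.Fiber (𝒴.p.obj η)) ∈ W (𝒴.p.obj η)

variable {W : ∀ T : Over S, Set (IsoNat.IsoCl 𝒴 T)}

lemma clsProp_iff {T : Over S} (z : 𝒴.p.Fiber T) : clsProp W z.1 ↔ IsoNat.cls z ∈ W T := by
  obtain ⟨z, rfl⟩ := z
  exact Iff.rfl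

lemma subLift_iff {Q : 𝒴.obj → Prop} {T' T : Over S} (g : T' ⟶ T) {a b : (AlgSt.fullSub 𝒴 Q).obj} (φ : a ⟶ b) :
    (AlgSt.fullSub 𝒴 Q).p.IsHomLift g φ ↔ 𝒴.p.IsHomLift g φ.hom := by
  constructor
  · intro h
    exact IsHomLift.of_fac' _ g φ.hom (IsHomLift.domain_eq (AlgSt.fullSub 𝒴 Q).p g φ)
      (IsHomLift.codomain_eq (AlgSt.fullSub 𝒴 Q).p g φ) (IsHomLift.fac' (AlgSt.fullSub 𝒴 Q).p g φ)
  · intro h
    exact IsHomLift.of_fac' _ g φ (IsHomLift.domain_eq 𝒴.p g φ.hom)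
      (IsHomLift.codomain_eq 𝒴.p g φ.hom) (IsHomLift.fac' 𝒴.p g φ.hom)

variable [FibCat.IsFibGrpd 𝒴.p]
  (hpull : ∀ (T' T : Over S) (g : T' ⟶ T) (x' : 𝒴.p.Fiber T') (x : 𝒴.p.Fiber T) (a : x'.1 ⟶ x.1),
      𝒴.p.IsHomLift g a → IsoNat.cls x ∈ W T → IsoNat.cls x' ∈ W T')

include hpull

omit [FibCat.IsFibGrpd 𝒴.p] in
lemma clsProp_of_hom {a b : 𝒴.obj} (φ : a ⟶ b) (hb : clsProp W b) : clsProp W a :=
  hpull _ _ (𝒴.p.map φ) ⟨a, rfl⟩ ⟨b, rfl⟩ φ inferInstance hb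

theorem isFibGrpd_clsSub : FibCat.IsFibGrpd (AlgSt.fullSub 𝒴 (clsProp W)).p where
  exists_lift {x V} f := by
    obtain ⟨y, φ, hφ⟩ := FibCat.IsFibGrpd.exists_lift (p := 𝒴.p) (x := x.obj) f
    exact ⟨⟨y, clsProp_of_hom hpull φ x.property⟩, ObjectProperty.homMk φ, (subLift_iff f _).2 hφ⟩
  isStronglyCartesian {y x} φ := by
    have hsc := FibCat.IsFibGrpd.isStronglyCartesian (p := 𝒴.p) φ.hom
    refine { universal_property' := fun {a'} g φ' hφ' => ?_ }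
    have hl : 𝒴.p.IsHomLift (g ≫ 𝒴.p.map φ.hom) φ'.hom := (subLift_iff _ φ').1 hφ'
    obtain ⟨χ, ⟨hχ, hχe⟩, hu⟩ := hsc.universal_property' g φ'.hom
    refine ⟨ObjectProperty.homMk χ, ⟨(subLift_iff g _).2 hχ, ObjectProperty.hom_ext _ hχe⟩, ?_⟩
    rintro χ' ⟨h₁, h₂⟩
    exact ObjectProperty.hom_ext _ (hu χ'.hom ⟨(subLift_iff g χ').1 h₁, congrArg (fun t => t.hom) h₂⟩)

variable (hopen : ∀ (T : Over S) (x : 𝒴.p.Fiber T), ∃ V : T.left.Opens,
      ∀ (T' : Over S) (g : T' ⟶ T) (x' : 𝒴.p.Fiber T') (a : x'.1 ⟶ x.1), 𝒴.p.IsHomLift g a →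
        (IsoNat.cls x' ∈ W T' ↔ ∃ g' : T'.left ⟶ ↑V, g' ≫ V.ι = g.left))

omit [FibCat.IsFibGrpd 𝒴.p] hpull hopen

/-- The inclusion of an open set of classes has the properties of the inclusions of the open subschemes. -/
theorem repByAlgSpWith_clsSub {Q : MorphismProperty (Sp S)}
    (hopen : ∀ (T : Over S) (x : 𝒴.p.Fiber T), ∃ V : T.left.Opens,
      Q ((yon S).map (Over.homMk V.ι rfl : Over.mk (V.ι ≫ T.hom) ⟶ T)) ∧
      ∀ (T' : Over S) (g : T' ⟶ T) (x' : 𝒴.p.Fiber T') (a : x'.1 ⟶ x.1), 𝒴.p.IsHomLift g a →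
        (IsoNat.cls x' ∈ W T' ↔ ∃ g' : T'.left ⟶ ↑V, g' ≫ V.ι = g.left)) :
    AlgSt.RepByAlgSpWith Q (AlgSt.subIncl 𝒴 (clsProp W)) := by
  intro U y
  obtain ⟨V, hQ, hV⟩ := hopen U (fib y (Over.mk (𝟙 U)))
  have key : ∀ A : Over U, IsoNat.cls (fib y A) ∈ W A.left ↔ ∃ g' : A.left.left ⟶ ↑V, g' ≫ V.ι = A.hom.left :=
    fun A => hV A.left A.hom (fib y A) (y.map (toId A)) (overMap_isHomLift y (toId A))
  let Vo : Over S := Over.mk (V.ι ≫ U.hom)
  let ι : Vo ⟶ U := Over.homMk V.ι rfl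
  have hmono : Mono ι := (Over.forget S).mono_of_mono_map (inferInstanceAs (Mono V.ι))
  have hin : ∀ B : Over Vo, clsProp W (y.obj ((Over.map ι).obj B)) := fun B =>
    (clsProp_iff (fib y ((Over.map ι).obj B))).2 ((key _).2 ⟨B.hom.left, rfl⟩)
  let y' : FibCat.overCat Vo ⥤ᵇ AlgSt.fullSub 𝒴 (clsProp W) :=
    { toFunctor := ObjectProperty.lift (clsProp W) (Over.map ι ⋙ y.toFunctor) hin
      w := (BasedFunctor.comp (AlgSt.overMap ι) y).w }
  let j : BasedFunctor.comp (AlgSt.overMap ι) y ≅ BasedFunctor.comp y' (AlgSt.subIncl 𝒴 (clsProp W)) :=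
    BasedNatIso.mkNatIso (Iso.refl _) fun B => IsHomLift.id ((BasedFunctor.comp (AlgSt.overMap ι) y).w_obj B)
  let m := FibCat.fpLift (AlgSt.overMap ι) y' j
  let q := FibCat.fpFst y (AlgSt.subIncl 𝒴 (clsProp W))
  have hq : ∀ {a b} (t t' : a ⟶ b), q.map t = q.map t' → t = t' := by
    intro a b t t' h
    have h' : t.hom.fst = t'.hom.fst := h
    have w : y.map t.hom.fst ≫ b.obj.iso.hom = a.obj.iso.hom ≫ t.hom.snd.hom := t.hom.w
    have w' : y.map t'.hom.fst ≫ b.obj.iso.hom = a.obj.iso.hom ≫ t'.hom.snd.hom := t'.hom.w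
    rw [h', w'] at w
    exact ObjectProperty.hom_ext _ (CategoricalPullback.hom_ext h'
      (ObjectProperty.hom_ext _ ((cancel_epi a.obj.iso.hom).1 w.symm)))
  have hfull : (AlgSt.overMap ι).toFunctor.Full := ⟨fun {a b} φ => by
    refine ⟨Over.homMk φ.left ?_, Over.OverMorphism.ext rfl⟩
    refine (cancel_mono ι).1 ?_
    rw [Category.assoc]
    exact Over.w φ⟩
  have hm : FibCat.IsEquivOver m := by
    refine isEquivOver_of_exists_iso m ⟨fun {a b} t => ?_⟩ ⟨fun {a b} φ φ' h => ?_⟩ fun η => ?_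
    · obtain ⟨φ, hφ⟩ := hfull.map_surjective (X := a) (Y := b) (q.map t)
      exact ⟨φ, hq _ _ hφ⟩
    · have h' : (AlgSt.overMap ι).map φ = (AlgSt.overMap ι).map φ' := congrArg (fun s => s.hom.fst) h
      exact Over.OverMorphism.ext (congrArg (fun s : (AlgSt.overMap ι).obj a ⟶ (AlgSt.overMap ι).obj b => s.left) h')
    · obtain ⟨⟨A, z, i⟩, hi⟩ := η
      have hz : 𝒴.p.IsHomLift (𝟙 A.left) i.hom := hi
      have hmem : IsoNat.cls (fib y A) ∈ W A.left := by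
        have he : IsoNat.cls (fib y A) = IsoNat.cls (⟨z.obj, IsHomLift.codomain_eq 𝒴.p (𝟙 A.left) i.hom⟩ : 𝒴.p.Fiber A.left) :=
          Quotient.sound ⟨fiberIsoMk i hz⟩
        rw [he, ← clsProp_iff]
        exact z.property
      obtain ⟨g', hg'⟩ := (key A).1 hmem
      let B : Over Vo := Over.mk (Over.homMk g' (by
        show g' ≫ V.ι ≫ U.hom = A.left.hom
        rw [← Category.assoc, hg', Over.w]) : A.left ⟶ Vo)
      let α : (Over.map ι).obj B ≅ A := Over.isoMk (Iso.refl _) (by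
        apply Over.OverMorphism.ext
        show 𝟙 _ ≫ A.hom.left = g' ≫ V.ι
        rw [hg', Category.id_comp])
      let β : (m.obj B).obj.snd ≅ z := ObjectProperty.isoMk _ (y.toFunctor.mapIso α ≪≫ i)
      refine ⟨B, ObjectProperty.isoMk _ (CategoricalPullback.mkIso α β ?_), ?_⟩
      · show y.map α.hom ≫ i.hom = 𝟙 _ ≫ y.map α.hom ≫ i.hom
        rw [Category.id_comp]
      · exact IsHomLift.of_fac' _ _ _ rfl rfl (by
          show α.hom.left = eqToHom _ ≫ 𝟙 A.left ≫ eqToHom _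
          simp [α])
  refine ⟨⟨(yon S).obj Vo, IsAlgSpace.yon_obj Vo⟩, BasedFunctor.comp (AlgSt.toOverCat Vo) m, isEquivOver_comp (isEquivOver_toOverCat Vo) hm, ?_⟩
  let k : BasedFunctor.comp (BasedFunctor.comp (AlgSt.toOverCat Vo) m) q ≅
      BasedFunctor.comp (AlgSt.ofSpMap ((yon S).map ι)) (AlgSt.toOverCat U) :=
    overIso _ _ fun x => by
      refine (Category.id_comp _).trans ?_
      rfl
  rw [spMapOfOver_congr k, spMapOfOver_ofSpMap_toOverCat]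
  exact hQ

include hopen

theorem isOpenImm_clsSub : AlgSt.IsOpenImm (AlgSt.subIncl 𝒴 (clsProp W)) := by
  refine repByAlgSpWith_clsSub fun T x => ?_
  obtain ⟨V, hV⟩ := hopen T x
  exact ⟨V, (repWith_yon_map_iff _ _).2 (inferInstanceAs (IsOpenImmersion V.ι)), hV⟩

end Groth.Agent.IsoNatLib
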