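import Groth.Agent.IsoNatLib.Tri
import Groth.Agent.IsoNatLib.DiagSep
import Groth.Agent.AlgStLib.Small

/-!
# The algebraic spaces of triples and of automorphisms
-/

set_option autoImplicit false
set_option backward.isDefEq.respectTransparency false
set_option backward.isDefEq.respectTransparency.types false

universe u

open CategoryTheory CategoryTheory.Functor CategoryTheory.Limits AlgebraicGeometry Opposite AlgSp
  Groth.Agent.FibBase Groth.Agent.AlgStLib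

namespace Groth.Agent.IsoNatLib

variable {S : Scheme.{u}}

/-- The points of a representing sheaf attached to the objects of the represented category. -/
theorem exists_ptMap {F : Sp S} {𝒵 : AlgSt.Cat S} (hZ : FibCat.IsFibGrpd 𝒵.p) {E : AlgSt.ofSp F ⥤ᵇ 𝒵}
    (hE : FibCat.IsEquivOver E) :
    ∃ pt : ∀ T : Over S, 𝒵.p.Fiber T → ((yon S).obj T ⟶ F),
      (∀ (T' T : Over S) (φ : T' ⟶ T) (p : 𝒵.p.Fiber T) (q : 𝒵.p.Fiber T') (m : q.1 ⟶ p.1),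
        𝒵.p.IsHomLift φ m → (yon S).map φ ≫ pt T p = pt T' q) ∧
      (∀ (T : Over S) (p q : 𝒵.p.Fiber T), pt T p = pt T q → Nonempty (p ≅ q)) ∧
      (∀ (T : Over S) (τ : (yon S).obj T ⟶ F), ∃ p, pt T p = τ) ∧
      ∀ (U : Over S) (Φ : 𝒵 ⥤ᵇ FibCat.overCat U) (T : Over S) (p : 𝒵.p.Fiber T),
        pt T p ≫ AlgSt.spMapOfOver (BasedFunctor.comp E Φ) =
          (yon S).map (eqToHom ((Φ.w_obj p.1).trans p.2).symm ≫ (Φ.obj p.1).hom) := by
  have hfull := full_of_isEquivOver hE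
  have ex : ∀ (T : Over S) (p : 𝒵.p.Fiber T), ∃ (σ : F.obj.obj (op T)) (ι : E.obj ⟨T, σ⟩ ≅ p.1),
      𝒵.p.IsHomLift (𝟙 T) ι.hom := fun T p => by
    obtain ⟨⟨B, σ⟩, ι, hι⟩ := exists_iso_over_of_isEquivOver hE p.1 p.2
    obtain rfl : B = T := (E.w_obj ⟨B, σ⟩).symm.trans (IsHomLift.domain_eq 𝒵.p (𝟙 T) ι.hom)
    exact ⟨σ, ι, hι⟩
  choose σ ι hι using ex
  have uniq : ∀ (T : Over S) (p : 𝒵.p.Fiber T) (s : F.obj.obj (op T)) (j : E.obj ⟨T, s⟩ ≅ p.1),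
      𝒵.p.IsHomLift (𝟙 T) j.hom → σ T p = s := fun T p s j hj => by
    have := IsHomLift.lift_id_inv 𝒵.p T j
    have := hι T p
    have hc : 𝒵.p.IsHomLift (𝟙 T) ((ι T p).hom ≫ j.inv) :=
      IsHomLift.comp_lift_id_right' _ (𝟙 T) _ T _
    obtain ⟨l, hl⟩ := E.map_surjective ((ι T p).hom ≫ j.inv)
    rw [← hl, BasedFunctor.isHomLift_iff] at hc
    have hb : l.hom = 𝟙 T := (map_eq_of_isHomLift_id hc).trans rfl
    have hls := l.map_sec
    rw [hb] at hls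
    simpa using hls.symm
  refine ⟨fun T p => (J S).uliftYonedaEquiv.symm (σ T p), fun T' T φ p q m hm => ?_, fun T p q h => ?_,
    fun T τ => ?_, fun U Φ T p => ?_⟩
  · apply (J S).uliftYonedaEquiv.injective
    rw [← Groth.Agent.AlgSpLib.uliftYonedaEquiv_precomp, Equiv.apply_symm_apply, Equiv.apply_symm_apply]
    let n : (⟨T', F.obj.map φ.op (σ T p)⟩ : (AlgSt.ofSp F).obj) ⟶ ⟨T, σ T p⟩ := ⟨φ, rfl⟩
    have hn : (AlgSt.ofSp F).p.IsHomLift φ n :=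
      inferInstanceAs ((AlgSt.ofSp F).p.IsHomLift ((AlgSt.ofSp F).p.map n) n)
    have := E.preserves_isHomLift φ n
    have := hι T p
    have : 𝒵.p.IsHomLift φ (E.map n ≫ (ι T p).hom) := IsHomLift.comp_lift_id_right' _ φ _ T _
    obtain ⟨j, hj, -⟩ := exists_iso_of_lifts (hp := hZ) φ m (E.map n ≫ (ι T p).hom)
    exact (uniq T' q _ j hj).symm
  · have e : σ T p = σ T q := (J S).uliftYonedaEquiv.symm.injective h
    have hgen : ∀ {s s' : F.obj.obj (op T)} (_ : s = s') (a : E.obj ⟨T, s⟩ ≅ p.1) (b : E.obj ⟨T, s'⟩ ≅ q.1),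
        𝒵.p.IsHomLift (𝟙 T) a.hom → 𝒵.p.IsHomLift (𝟙 T) b.hom → Nonempty (p ≅ q) := by
      rintro s _ rfl a b ha hb
      haveI : 𝒵.p.IsHomLift (𝟙 T) a.symm.hom := IsHomLift.lift_id_inv 𝒵.p T a
      exact ⟨fiberIsoMk (a.symm ≪≫ b) (IsHomLift.comp_lift_id_right' _ (𝟙 T) _ T _)⟩
    exact hgen e _ _ (hι T p) (hι T q)
  · refine ⟨⟨E.obj ⟨T, (J S).uliftYonedaEquiv τ⟩, E.w_obj _⟩, ?_⟩
    exact (congrArg (J S).uliftYonedaEquiv.symm (uniq T ⟨E.obj ⟨T, (J S).uliftYonedaEquiv τ⟩, E.w_obj _⟩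
      ((J S).uliftYonedaEquiv τ) (Iso.refl _) (IsHomLift.id (p := 𝒵.p) (E.w_obj _)))).trans
      (Equiv.symm_apply_apply _ τ)
  · apply (J S).uliftYonedaEquiv.injective
    rw [GrothendieckTopology.uliftYonedaEquiv_comp, Equiv.apply_symm_apply, AlgSt.spMapOfOver_app]
    refine ULift.ext _ _ ?_
    show eqToHom _ ≫ (Φ.obj (E.obj ⟨T, σ T p⟩)).hom = _
    have := hι T p
    have hf : (FibCat.overCat U).p.IsHomLift (𝟙 T) (Φ.map (ι T p).hom) := Φ.preserves_isHomLift _ _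
    rw [← Over.w (Φ.map (ι T p).hom)]
    obtain ⟨hab, hm⟩ : ∃ h : (Φ.obj (E.obj ⟨T, σ T p⟩)).left = (Φ.obj p.1).left,
        (Φ.map (ι T p).hom).left = eqToHom h :=
      ⟨_, map_eq_of_isHomLift_id (p := Over.forget U) hf⟩
    rw [hm, ← Category.assoc, eqToHom_trans]
    exact (Category.id_comp _).symm

variable {𝒴 : AlgSt.Cat S} [hf : FibCat.IsFibGrpd 𝒴.p] {U V : Over S}

/-- A sheaf whose points are the triples. -/
structure TriRep (v : FibCat.overCat V ⥤ᵇ 𝒴) (y : FibCat.overCat U ⥤ᵇ 𝒴) where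
  /-- the space -/
  F : AlgSp.Space S
  /-- the map to the first chart -/
  a : F.obj ⟶ (yon S).obj V
  /-- the point of a triple -/
  pt : ∀ {T : Over S}, Tri v y T → ((yon S).obj T ⟶ F.obj)
  pt_res : ∀ {T T' : Over S} (t : Tri v y T) (φ : T' ⟶ T), pt (t.res φ) = (yon S).map φ ≫ pt t
  pt_inj : ∀ {T : Over S} {t t' : Tri v y T}, pt t = pt t' → t = t'
  pt_surj : ∀ {T : Over S} (τ : (yon S).obj T ⟶ F.obj), ∃ t, pt t = τ
  pt_a : ∀ {T : Over S} (t : Tri v y T), pt t ≫ a = (yon S).map t.h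

variable {v : FibCat.overCat V ⥤ᵇ 𝒴} {y : FibCat.overCat U ⥤ᵇ 𝒴}

theorem exists_triRep {P : MorphismProperty (Sp S)} (h : AlgSt.RepByAlgSpWith P y) :
    ∃ R : TriRep v y, P R.a ∧ ∀ Q : MorphismProperty (Sp S), Q R.a → RepOver Q (FibCat.fpFst v y) := by
  obtain ⟨F, E, hE, hP⟩ := h V v
  have hZ : FibCat.IsFibGrpd (FibCat.fp v y).p := fp_isFibGrpd (isFibGrpd_overCat V) (isFibGrpd_overCat U) hf
  obtain ⟨pt, h₁, h₂, h₃, h₄⟩ := exists_ptMap hZ hE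
  let o : ∀ {T : Over S} (_ : Tri v y T), (FibCat.fp v y).p.Fiber T := fun {T} t =>
    ⟨⟨⟨Over.mk t.h, Over.mk t.g, ofFiberIso t.δ⟩, t.δ.hom.2⟩, rfl⟩
  refine ⟨⟨F, AlgSt.spMapOfOver (BasedFunctor.comp E (FibCat.fpFst v y)), fun {T} t => pt T (o t),
    fun {T T'} t φ => ?_, fun {T t t'} e => ?_, fun {T} τ => ?_, fun {T} t => ?_⟩, hP, fun Q hQ => ⟨F, E, hE, hQ⟩⟩
  · obtain ⟨p, q, hp, hq, e⟩ := isRes_res t φ
    refine (h₁ _ _ φ (o t) (o (t.res φ)) (ObjectProperty.homMk ⟨p, q, e.symm⟩) ?_).symm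
    exact fp_isHomLift φ _ (h := isHomLift_of_left p hp)
  · obtain ⟨i⟩ := h₂ _ _ _ e
    have hi := i.hom.2
    have hl₁ : (FibCat.overCat V).p.IsHomLift (𝟙 T) i.hom.1.hom.fst := fp_isHomLift_fst _ i.hom.1 (h := hi)
    have hl₂ : (FibCat.overCat U).p.IsHomLift (𝟙 T) i.hom.1.hom.snd := fp_isHomLift_snd' _ i.hom.1 (h := hi)
    have hr : IsRes (𝟙 T) t t' := ⟨i.hom.1.hom.fst, i.hom.1.hom.snd,
      (map_eq_of_isHomLift_id (p := Over.forget V) hl₁).trans rfl,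
      (map_eq_of_isHomLift_id (p := Over.forget U) hl₂).trans rfl, i.hom.1.hom.w.symm⟩
    exact hr.eq.trans t'.res_id
  · obtain ⟨⟨⟨⟨a, b, i⟩, hi⟩, hT⟩, rfl⟩ := h₃ T τ
    obtain ⟨aL, ⟨⟨⟩⟩, ah⟩ := a
    obtain ⟨bL, ⟨⟨⟩⟩, bh⟩ := b
    subst hT
    obtain rfl : bL = aL := snd_proj (F := v) (G := y) ⟨⟨_, _, i⟩, hi⟩
    exact ⟨⟨ah, bh, fiberIsoMk (a := fib v (Over.mk ah)) (b := fib y (Over.mk bh)) i hi⟩, rfl⟩
  · refine (h₄ _ _ _ _).trans (congrArg (yon S).map ?_)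
    exact Category.id_comp _
where
  isHomLift_of_left {W : Over S} {T T' : Over S} {φ : T' ⟶ T} {h : T ⟶ W} {h' : T' ⟶ W}
      (p : Over.mk h' ⟶ Over.mk h) (hp : p.left = φ) : (FibCat.overCat W).p.IsHomLift φ p :=
    hp ▸ IsHomLift.map (Over.forget W) p

/-- A sheaf whose points are the automorphisms. -/
structure AutRep (v : FibCat.overCat V ⥤ᵇ 𝒴) where
  /-- the space -/
  F : AlgSp.Space S
  /-- the map to the chart -/
  a : F.obj ⟶ (yon S).obj V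
  /-- the point of an automorphism -/
  pt : ∀ {T : Over S} (t : Tri v v T), t.g = t.h → ((yon S).obj T ⟶ F.obj)
  pt_res : ∀ {T T' : Over S} (t : Tri v v T) (e : t.g = t.h) (φ : T' ⟶ T),
    pt (t.res φ) (congrArg (φ ≫ ·) e) = (yon S).map φ ≫ pt t e
  pt_inj : ∀ {T : Over S} {t t' : Tri v v T} {e : t.g = t.h} {e' : t'.g = t'.h}, pt t e = pt t' e' → t = t'
  pt_surj : ∀ {T : Over S} (τ : (yon S).obj T ⟶ F.obj), ∃ t e, pt t e = τ
  pt_a : ∀ {T : Over S} (t : Tri v v T) (e : t.g = t.h), pt t e ≫ a = (yon S).map t.h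

/-- The inertia object of an automorphism. -/
def inertiaObj {T : Over S} (t : Tri v v T) (e : t.g = t.h) : FibCat.InertiaObj (FibCat.toSelf 𝒴) where
  pt := v.obj (Over.mk t.h)
  aut := ofFiberIso (t.δ ≪≫ eqToIso (congrArg (fun k : T ⟶ V => @id (𝒴.p.Fiber T) (fib v (Over.mk k))) e))
  map_aut := by
    show 𝒴.p.map _ = 𝟙 (𝒴.p.obj _)
    rw [map_eq_of_isHomLift_id (S := T) (ofFiberIso_lift _)]
    rfl

theorem exists_autRep_repOver {P : MorphismProperty (Sp S)}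
    (h : AlgSt.RepByAlgSpWith P (FibCat.inertiaToBase (FibCat.toSelf 𝒴))) : ∃ R : AutRep v, P R.a ∧
      ∀ Q : MorphismProperty (Sp S), Q R.a → RepOver Q (FibCat.fpFst v (FibCat.inertiaToBase (FibCat.toSelf 𝒴))) := by
  obtain ⟨F, E, hE, hP⟩ := h V v
  let I := FibCat.inertiaToBase (FibCat.toSelf 𝒴)
  have hI : FibCat.IsFibGrpd (FibCat.inertia (FibCat.toSelf 𝒴)).p := inertia_isFibGrpd hf isFibGrpd_selfOver
  have hZ : FibCat.IsFibGrpd (FibCat.fp v I).p := fp_isFibGrpd (isFibGrpd_overCat V) hI hf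
  obtain ⟨pt, h₁, h₂, h₃, h₄⟩ := exists_ptMap hZ hE
  let o : ∀ {T : Over S} (t : Tri v v T), t.g = t.h → (FibCat.fp v I).p.Fiber T := fun {T} t e =>
    ⟨⟨⟨Over.mk t.h, inertiaObj t e, Iso.refl _⟩, IsHomLift.id (v.w_obj _)⟩, rfl⟩
  refine ⟨⟨F, AlgSt.spMapOfOver (BasedFunctor.comp E (FibCat.fpFst v I)), fun {T} t e => pt T (o t e),
    fun {T T'} t e φ => ?_, fun {T t t' e e'} he => ?_, fun {T} τ => ?_, fun {T} t e => ?_⟩, hP,
    fun Q hQ => ⟨F, E, hE, hQ⟩⟩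
  · obtain ⟨h, g, δ⟩ := t
    dsimp only at e
    subst e
    obtain ⟨p, q, hp, hq, w⟩ := isRes_res (⟨g, g, δ⟩ : Tri v v T) φ
    obtain rfl : q = p := Over.OverMorphism.ext (hq.trans hp.symm)
    refine (h₁ _ _ φ (o _ rfl) (o _ _) (ObjectProperty.homMk ⟨q, ⟨v.map q, ?_⟩, ?_⟩) ?_).symm
    · simpa [o, inertiaObj] using w
    · exact (Category.comp_id _).trans (Category.id_comp _).symm
    · exact fp_isHomLift φ _ (h := exists_triRep.isHomLift_of_left q hp)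
  · obtain ⟨i⟩ := h₂ _ _ _ he
    have hi := i.hom.2
    have hl₁ : (FibCat.overCat V).p.IsHomLift (𝟙 T) i.hom.1.hom.fst := fp_isHomLift_fst _ i.hom.1 (h := hi)
    have hw : v.map i.hom.1.hom.fst = i.hom.1.hom.snd.hom :=
      ((Category.comp_id _).symm.trans i.hom.1.hom.w).trans (Category.id_comp _)
    have hc := i.hom.1.hom.snd.comm
    rw [← hw] at hc
    obtain ⟨h, g, δ⟩ := t
    obtain ⟨h', g', δ'⟩ := t'
    dsimp only at e e'
    subst e e'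
    have hl : i.hom.1.hom.fst.left = 𝟙 T := (map_eq_of_isHomLift_id (p := Over.forget V) hl₁).trans rfl
    have hr : IsRes (𝟙 T) (⟨g, g, δ⟩ : Tri v v T) ⟨g', g', δ'⟩ :=
      ⟨i.hom.1.hom.fst, i.hom.1.hom.fst, hl, hl, by simpa [o, inertiaObj] using hc⟩
    exact hr.eq.trans (Tri.res_id _)
  · obtain ⟨p, hp⟩ := h₃ T τ
    obtain ⟨⟨⟨a, z, i⟩, hi⟩, hT⟩ := p
    obtain ⟨aL, ⟨⟨⟩⟩, ah⟩ := a
    subst hT
    have hl : 𝒴.p.IsHomLift (𝟙 aL) i.hom := hi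
    have hz : 𝒴.p.obj z.pt = aL := IsHomLift.codomain_eq 𝒴.p (𝟙 aL) i.hom
    have ha : 𝒴.p.IsHomLift (𝟙 aL) z.aut.hom := isHomLift_id_congr hz (aut_isHomLift z)
    have := IsHomLift.lift_id_inv 𝒴.p aL i
    let γ : AutAt v (Over.mk ah) := fiberIsoMk (a := fib v (Over.mk ah)) (b := fib v (Over.mk ah))
      (i ≪≫ z.aut ≪≫ i.symm)
      (haveI : 𝒴.p.IsHomLift (𝟙 aL) (z.aut ≪≫ i.symm).hom := IsHomLift.comp_lift_id_right' _ (𝟙 aL) z.aut.hom aL i.inv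
       IsHomLift.comp_lift_id_right' _ (𝟙 aL) i.hom aL _)
    refine ⟨Tri.ofAut γ, rfl, Eq.trans ?_ hp⟩
    have := h₁ aL aL (𝟙 aL) (o (Tri.ofAut γ) rfl) ⟨⟨⟨Over.mk ah, z, i⟩, hi⟩, rfl⟩
      (ObjectProperty.homMk ⟨𝟙 _, ⟨i.inv, ?_⟩, ?_⟩)
      (fp_isHomLift _ _ (h := IsHomLift.id (p := Over.forget V) rfl))
    · rw [CategoryTheory.Functor.map_id] at this
      exact (Category.id_comp _).symm.trans this
    · simp [o, inertiaObj, γ, fiberIsoMk]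
    · simp [o, I, FibCat.inertiaToBase, FibCat.InertiaObj.forget]
  · refine (h₄ _ _ _ _).trans (congrArg (yon S).map ?_)
    exact Category.id_comp _

theorem exists_autRep {P : MorphismProperty (Sp S)}
    (h : AlgSt.RepByAlgSpWith P (FibCat.inertiaToBase (FibCat.toSelf 𝒴))) : ∃ R : AutRep v, P R.a :=
  let ⟨R, hR, _⟩ := exists_autRep_repOver (v := v) h
  ⟨R, hR⟩

end Groth.Agent.IsoNatLib
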