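import Groth.Agent.IsoNatLib.TrivLocus
import Groth.Agent.IsoNatLib.TriRep
import Groth.Agent.IsoNatLib.OpenSub
import Groth.Agent.AlgStLib.Stack

/-!
# The clean locus of a stack with proper inertia
-/

set_option autoImplicit false
set_option backward.isDefEq.respectTransparency false
set_option backward.isDefEq.respectTransparency.types false

universe u

open CategoryTheory CategoryTheory.Functor CategoryTheory.Limits AlgebraicGeometry AlgSp
  Groth.Agent.FibBase Groth.Agent.AlgStLib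

namespace Groth.Agent.IsoNatLib

variable {S : Scheme.{u}} {𝒳 : AlgSt.Cat S} [FibCat.IsFibGrpd 𝒳.p]

theorem respectsIso_locP (P : MorphismProperty Scheme.{u}) : (LocP (S := S) P).RespectsIso := by
  apply MorphismProperty.RespectsIso.mk
  · intro X Y Z e f hf U W a b h ha hb w
    exact hf (a ≫ e.hom) b h (((RepWith (S := S) @Etale).cancel_right_of_respectsIso _ _).2 ha) hb
      (by rw [Category.assoc, w])
  · intro X Y Z e f hf U W a b h ha hb w
    exact hf a (b ≫ e.inv) h ha (((RepWith (S := S) @Etale).cancel_right_of_respectsIso _ _).2 hb)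
      (by rw [← Category.assoc, ← w, Category.assoc, Category.assoc, e.hom_inv_id, Category.comp_id])

theorem isClean_of_hom {x η : 𝒳.obj} (φ : x ⟶ η) (h : IsoNat.IsClean η) : IsoNat.IsClean x :=
  fun z ψ s hs => h z (ψ ≫ φ) s hs

variable {V : Over S} {v : FibCat.overCat V ⥤ᵇ 𝒳}

/-- The identity point of the space of automorphisms. -/
def autOne (R : AutRep v) : (yon S).obj V ⟶ R.F.obj := R.pt (Tri.one (𝟙 V)) rfl

lemma autOne_a (R : AutRep v) : autOne R ≫ R.a = 𝟙 _ :=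
  (R.pt_a _ _).trans ((yon S).map_id V)

lemma map_autOne (R : AutRep v) {T : Over S} (h : T ⟶ V) :
    (yon S).map h ≫ autOne R = R.pt (Tri.one h) rfl := by
  rw [autOne, ← R.pt_res]
  have e : (Tri.one (v := v) (𝟙 V)).res h = Tri.one h := by rw [Tri.res_one, Category.comp_id]
  congr 1

/-- An object is clean exactly where the space of automorphisms is trivial. -/
theorem isClean_iff_triv (R : AutRep v) {T : Over S} (g : T ⟶ V) :
    IsoNat.IsClean (v.obj (Over.mk g)) ↔ Triv R.a (autOne R) g := by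
  constructor
  · intro hc T' h τ hτ
    obtain ⟨t, e, rfl⟩ := R.pt_surj τ
    have hh : t.h = h ≫ g := (yon S).map_injective ((R.pt_a t e).symm.trans hτ)
    obtain ⟨t', g', δ⟩ := t
    dsimp only at e hh
    subst e hh
    rw [map_autOne R]
    have hδ : δ.hom.1 = 𝟙 _ := hc _ (v.map (ovHom h g)) δ.hom.1 (by
      rw [map_eq_of_isHomLift_id (S := T') δ.hom.2]
      rfl)
    have : δ = Iso.refl _ := Iso.ext (Subtype.ext hδ)
    subst this
    rfl
  · intro ht x φ s hs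
    let T' := 𝒳.p.obj x
    let h : T' ⟶ T := 𝒳.p.map φ ≫ eqToHom (v.w_obj (Over.mk g))
    have hl : 𝒳.p.IsHomLift h φ := IsHomLift.of_fac 𝒳.p h φ rfl (v.w_obj (Over.mk g)) (by simp [h])
    have hl' : 𝒳.p.IsHomLift h (v.map (ovHom h g)) := overMap_isHomLift v (ovHom h g)
    obtain ⟨j, hj, -⟩ := exists_iso_of_lifts (p := 𝒳.p) h φ (v.map (ovHom h g))
    have hs' : 𝒳.p.IsHomLift (𝟙 T') s := IsHomLift.of_fac' _ _ _ rfl rfl (by simp [hs, T'])
    let x₀ : 𝒳.p.Fiber T' := ⟨x, rfl⟩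
    let j₀ : fib v (Over.mk (h ≫ g)) ≅ x₀ := fiberIsoMk (a := fib v (Over.mk (h ≫ g))) (b := x₀) j hj
    let f : x₀ ⟶ x₀ := ⟨s, hs'⟩
    have := fiber_isIso (p := 𝒳.p) f
    let γ : AutAt v (Over.mk (h ≫ g)) := j₀ ≪≫ asIso f ≪≫ j₀.symm
    have hγ := ht h (R.pt (Tri.ofAut γ) rfl) (R.pt_a _ _)
    rw [map_autOne R] at hγ
    have h1 : γ = Iso.refl _ := by
      have := R.pt_inj hγ
      injection this
    have h2 : f = 𝟙 x₀ := by
      have h3 : j₀.hom ≫ f ≫ j₀.inv = 𝟙 _ := congrArg Iso.hom h1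
      refine (cancel_epi j₀.hom).1 ((cancel_mono j₀.inv).1 ((Category.assoc _ _ _).trans (h3.trans ?_)))
      exact (j₀.hom_inv_id.symm.trans (congrArg (· ≫ j₀.inv) (Category.comp_id j₀.hom).symm))
    exact congrArg Subtype.val h2

variable (hpr : AlgSt.RepByAlgSpWith IsProperMor (FibCat.inertiaToBase (FibCat.toSelf 𝒳)))
  (hlfp : AlgSt.RepByAlgSpWith (LocP @LocallyOfFinitePresentation) (FibCat.inertiaToBase (FibCat.toSelf 𝒳)))

include hpr hlfp

/-- Cleanness is open and retrocompact on every test scheme. -/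
theorem exists_clean_open (T : Over S) (x : 𝒳.p.Fiber T) :
    ∃ O : T.left.Opens, QuasiCompact O.ι ∧ ∀ (T' : Over S) (g : T' ⟶ T) (x' : 𝒳.p.Fiber T') (a : x'.1 ⟶ x.1),
      𝒳.p.IsHomLift g a → (IsoNat.IsClean x'.1 ↔ ∃ g' : T'.left ⟶ ↑O, g' ≫ O.ι = g.left) := by
  obtain ⟨v, e, he⟩ := exists_overCat_obj (𝒳 := 𝒳) inferInstance (U := T) x.1 x.2
  have hinf : AlgSt.RepByAlgSpWith (LocP @LocallyOfFinitePresentation ⊓ IsProperMor)
      (FibCat.inertiaToBase (FibCat.toSelf 𝒳)) := by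
    have := respectsIso_locP (S := S) @LocallyOfFinitePresentation
    exact repByAlgSpWith_inf_iff.2 ⟨hlfp, hpr⟩
  obtain ⟨R, hl, hp⟩ := exists_autRep (v := v) hinf
  obtain ⟨O, hO, hO'⟩ := exists_triv_open R.F.property hp hl (autOne_a R)
  refine ⟨O, hO, fun T' g x' a ha => ?_⟩
  have : 𝒳.p.IsHomLift g (v.map (Over.homMk g (Category.comp_id g) : Over.mk g ⟶ Over.mk (𝟙 T)) ≫ e.hom) := by
    have : 𝒳.p.IsHomLift g (v.map (Over.homMk g (Category.comp_id g) : Over.mk g ⟶ Over.mk (𝟙 T))) :=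
      overMap_isHomLift v (Over.homMk g (Category.comp_id g) : Over.mk g ⟶ Over.mk (𝟙 T))
    exact IsHomLift.comp_lift_id_right' 𝒳.p g _ T e.hom
  obtain ⟨i, -, -⟩ := exists_iso_of_lifts (p := 𝒳.p) g a (v.map (Over.homMk g (Category.comp_id g) : Over.mk g ⟶ Over.mk (𝟙 T)) ≫ e.hom)
  have h1 : IsoNat.IsClean x'.1 ↔ IsoNat.IsClean (v.obj (Over.mk g)) :=
    ⟨isClean_of_hom i.hom, isClean_of_hom i.inv⟩
  rw [h1, isClean_iff_triv R, ← hO' g]
  constructor
  · intro h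
    have hr : Set.range g.left ⊆ Set.range O.ι := by
      rw [Scheme.Opens.range_ι]
      rintro _ ⟨t, rfl⟩
      exact h t
    exact ⟨IsOpenImmersion.lift O.ι g.left hr, IsOpenImmersion.lift_fac _ _ _⟩
  · rintro ⟨g', hg'⟩ t
    rw [← hg']
    exact (g' t).2

/-- The classes of clean objects. -/
def cleanCls (𝒳 : AlgSt.Cat S) (T : Over S) : Set (IsoNat.IsoCl 𝒳 T) :=
  {c | ∀ z : 𝒳.p.Fiber T, IsoNat.cls z = c → IsoNat.IsClean z.1}

omit hpr hlfp in
lemma cls_mem_cleanCls {T : Over S} (z : 𝒳.p.Fiber T) : IsoNat.cls z ∈ cleanCls 𝒳 T ↔ IsoNat.IsClean z.1 := by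
  refine ⟨fun h => h z rfl, fun h z' hz => ?_⟩
  obtain ⟨i⟩ : Nonempty (z' ≅ z) := Quotient.exact hz
  exact isClean_of_hom i.hom.1 h

omit hpr hlfp in
lemma clsProp_cleanCls : (fun η : 𝒳.obj => IsoNat.IsClean η) = clsProp (cleanCls 𝒳) :=
  funext fun η => propext (cls_mem_cleanCls (⟨η, rfl⟩ : 𝒳.p.Fiber (𝒳.p.obj η))).symm

/-- The clean locus is a retrocompact open substack. -/
theorem cleanLocus_open_qc (h𝒳 : AlgSt.IsAlgStack Scheme.fppfPrecoverage 𝒳) :
    AlgSt.IsOpenSubstack 𝒳 (fun η => IsoNat.IsClean η) Scheme.fppfPrecoverage ∧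
      AlgSt.RepByAlgSpWith IsQuasiCompactMor (AlgSt.subIncl 𝒳 (fun η => IsoNat.IsClean η)) := by
  rw [clsProp_cleanCls]
  have hpull : ∀ (T' T : Over S) (g : T' ⟶ T) (x' : 𝒳.p.Fiber T') (x : 𝒳.p.Fiber T) (a : x'.1 ⟶ x.1),
      𝒳.p.IsHomLift g a → IsoNat.cls x ∈ cleanCls 𝒳 T → IsoNat.cls x' ∈ cleanCls 𝒳 T' :=
    fun T' T g x' x a _ h => (cls_mem_cleanCls x').2 (isClean_of_hom a ((cls_mem_cleanCls x).1 h))
  have hopen := fun (T : Over S) (x : 𝒳.p.Fiber T) => exists_clean_open hpr hlfp T x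
  choose O hOq hO using hopen
  have hO' : ∀ (T : Over S) (x : 𝒳.p.Fiber T), ∀ (T' : Over S) (g : T' ⟶ T) (x' : 𝒳.p.Fiber T') (a : x'.1 ⟶ x.1),
      𝒳.p.IsHomLift g a → (IsoNat.cls x' ∈ cleanCls 𝒳 T' ↔ ∃ g' : T'.left ⟶ ↑(O T x), g' ≫ (O T x).ι = g.left) :=
    fun T x T' g x' a ha => (cls_mem_cleanCls x').trans (hO T x T' g x' a ha)
  have himm := isOpenImm_clsSub (𝒴 := 𝒳) (W := cleanCls 𝒳) fun T x => ⟨O T x, hO' T x⟩
  refine ⟨⟨⟨fun {η η'} e h => clsProp_of_hom hpull e.inv h⟩,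
    isAlgStack_of_repByAlgSp1 (isFibGrpd_clsSub hpull) h𝒳 (repByAlgSp1_of_repByAlgSpWith himm), himm⟩, ?_⟩
  exact repByAlgSpWith_clsSub (𝒴 := 𝒳) (W := cleanCls 𝒳) fun T x => ⟨O T x,
    Groth.Agent.AlgSpPts.isQuasiCompactMor_of_repWith ((repWith_yon_map_iff _ _).2 (hOq T x)), hO' T x⟩

end Groth.Agent.IsoNatLib
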