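import Groth.Agent.FibBase.Yoneda
import Mathlib.CategoryTheory.IsomorphismClasses
import Mathlib.CategoryTheory.Endomorphism

/-!
# Classes of objects of fibres and restriction of automorphisms
-/

set_option autoImplicit false
set_option backward.isDefEq.respectTransparency false
set_option backward.isDefEq.respectTransparency.types false

universe v₂ u₂ v u

open CategoryTheory CategoryTheory.Functor Groth.Agent.FibBase

namespace Groth.Agent.IsoNatLib

variable {C : Type u} [Category.{v} C] {𝒳 : BasedCategory.{v₂, u₂} C} [hf : FibCat.IsFibGrpd 𝒳.p]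

variable (𝒳) in
/-- Isomorphism classes of a fibre. -/
abbrev Cls (V : C) := Quotient (isIsomorphicSetoid (𝒳.p.Fiber V))

/-- The class of an object. -/
abbrev cl {V : C} (x : 𝒳.p.Fiber V) : Cls 𝒳 V := Quotient.mk (isIsomorphicSetoid (𝒳.p.Fiber V)) x

lemma cl_eq_of_lifts {V V' : C} (g : V' ⟶ V) {x₁ x₂ : 𝒳.p.Fiber V} (hx : cl x₁ = cl x₂) {y₁ y₂ : 𝒳.p.Fiber V'}
    (a₁ : y₁.1 ⟶ x₁.1) (a₂ : y₂.1 ⟶ x₂.1) [𝒳.p.IsHomLift g a₁] [𝒳.p.IsHomLift g a₂] : cl y₁ = cl y₂ := by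
  obtain ⟨e⟩ : Nonempty (x₁ ≅ x₂) := Quotient.exact hx
  have := e.hom.2
  have : 𝒳.p.IsHomLift g (a₁ ≫ e.hom.1) := IsHomLift.comp_lift_id_right' 𝒳.p g a₁ V e.hom.1
  obtain ⟨i, hi, -⟩ := exists_iso_of_lifts (p := 𝒳.p) g a₂ (a₁ ≫ e.hom.1)
  exact Quotient.sound ⟨fiberIsoMk i hi⟩

lemma exists_fiber_lift {V V' : C} (g : V' ⟶ V) (x : 𝒳.p.Fiber V) :
    ∃ (y : 𝒳.p.Fiber V') (a : y.1 ⟶ x.1), 𝒳.p.IsHomLift g a := by
  obtain ⟨y, a, ha⟩ := exists_lift_of_eq hf x.2 g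
  exact ⟨⟨y, IsHomLift.domain_eq 𝒳.p g a⟩, a, ha⟩

/-- Pullback of classes. -/
noncomputable def pull {V V' : C} (g : V' ⟶ V) : Cls 𝒳 V → Cls 𝒳 V' :=
  Quotient.lift (fun x => cl (exists_fiber_lift g x).choose) fun x₁ x₂ h => by
    have := (exists_fiber_lift g x₁).choose_spec.choose_spec
    have := (exists_fiber_lift g x₂).choose_spec.choose_spec
    exact cl_eq_of_lifts g (Quotient.sound h) (exists_fiber_lift g x₁).choose_spec.choose
      (exists_fiber_lift g x₂).choose_spec.choose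

lemma pull_cl {V V' : C} (g : V' ⟶ V) {x : 𝒳.p.Fiber V} {y : 𝒳.p.Fiber V'} (a : y.1 ⟶ x.1)
    [𝒳.p.IsHomLift g a] : pull g (cl x) = cl y := by
  have := (exists_fiber_lift g x).choose_spec.choose_spec
  exact cl_eq_of_lifts g rfl (exists_fiber_lift g x).choose_spec.choose a

lemma pull_pull {V V' V'' : C} (g : V' ⟶ V) (g' : V'' ⟶ V') (c : Cls 𝒳 V) :
    pull g' (pull g c) = pull (g' ≫ g) c := by
  obtain ⟨x, rfl⟩ := Quotient.exists_rep c
  obtain ⟨y, a, ha⟩ := exists_fiber_lift g x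
  obtain ⟨z, b, hb⟩ := exists_fiber_lift g' y
  rw [pull_cl g a, pull_cl g' b, pull_cl (g' ≫ g) (b ≫ a)]

lemma pull_id {V : C} (c : Cls 𝒳 V) : pull (𝟙 V) c = c := by
  obtain ⟨x, rfl⟩ := Quotient.exists_rep c
  have := IsHomLift.id (p := 𝒳.p) x.2
  exact pull_cl (𝟙 V) (𝟙 x.1)

lemma exists_lift_of_pull_eq {V V' : C} (g : V' ⟶ V) {x : 𝒳.p.Fiber V} {y : 𝒳.p.Fiber V'}
    (h : pull g (cl x) = cl y) : ∃ a : y.1 ⟶ x.1, 𝒳.p.IsHomLift g a := by
  obtain ⟨y', a, ha⟩ := exists_fiber_lift g x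
  rw [pull_cl g a] at h
  obtain ⟨e⟩ : Nonempty (y' ≅ y) := Quotient.exact h
  have := e.inv.2
  exact ⟨e.inv.1 ≫ a, IsHomLift.comp_lift_id_left' 𝒳.p V' e.inv.1 g a⟩

section Res

variable {T : C} (K : FibCat.overCat T ⥤ᵇ 𝒳)

/-- The pullback of the base object. -/
abbrev fib (V : Over T) : 𝒳.p.Fiber V.left := ⟨K.obj V, K.w_obj V⟩

/-- Automorphisms of a pullback of the base object. -/
abbrev AutAt (V : Over T) := Aut (fib K V)

variable {K}

lemma existsUnique_res {V V' : Over T} (φ : V' ⟶ V) (s : AutAt K V) :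
    ∃! t : AutAt K V', t.hom.1 ≫ K.map φ = K.map φ ≫ s.hom.1 := by
  have := overMap_isHomLift K φ
  have := isSC (p := 𝒳.p) φ.left (K.map φ)
  have := s.hom.2
  have : 𝒳.p.IsHomLift φ.left (K.map φ ≫ s.hom.1) :=
    IsHomLift.comp_lift_id_right' 𝒳.p φ.left _ V.left _
  let m : fib K V' ⟶ fib K V' :=
    ⟨IsCartesian.map 𝒳.p φ.left (K.map φ) (K.map φ ≫ s.hom.1), inferInstance⟩
  have := fiber_isIso m
  refine ⟨asIso m, IsCartesian.fac 𝒳.p φ.left (K.map φ) _, fun t ht => ?_⟩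
  have := t.hom.2
  exact Iso.ext (Subtype.ext (IsCartesian.map_uniq 𝒳.p φ.left (K.map φ) _ t.hom.1 ht))

/-- Restriction of automorphisms. -/
noncomputable def res {V V' : Over T} (φ : V' ⟶ V) : AutAt K V →* AutAt K V' where
  toFun s := (existsUnique_res φ s).choose
  map_one' := ((existsUnique_res φ 1).unique (existsUnique_res φ (1 : AutAt K V)).choose_spec.1
    (show 𝟙 (K.obj V') ≫ K.map φ = K.map φ ≫ 𝟙 (K.obj V) by simp))
  map_mul' s t := (existsUnique_res φ (s * t)).unique (existsUnique_res φ (s * t)).choose_spec.1 (by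
    show ((existsUnique_res φ t).choose.hom.1 ≫ (existsUnique_res φ s).choose.hom.1) ≫ K.map φ =
      K.map φ ≫ t.hom.1 ≫ s.hom.1
    rw [Category.assoc, (existsUnique_res φ s).choose_spec.1, reassoc_of% (existsUnique_res φ t).choose_spec.1])

lemma res_spec {V V' : Over T} (φ : V' ⟶ V) (s : AutAt K V) :
    (res φ s).hom.1 ≫ K.map φ = K.map φ ≫ s.hom.1 := (existsUnique_res φ s).choose_spec.1

lemma res_eq {V V' : Over T} (φ : V' ⟶ V) {s : AutAt K V} {t : AutAt K V'}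
    (h : t.hom.1 ≫ K.map φ = K.map φ ≫ s.hom.1) : res φ s = t :=
  (existsUnique_res φ s).unique (res_spec φ s) h

lemma res_res {V V' V'' : Over T} (φ : V' ⟶ V) (ψ : V'' ⟶ V') (s : AutAt K V) :
    res ψ (res φ s) = res (ψ ≫ φ) s :=
  (res_eq (ψ ≫ φ) (by
    rw [K.toFunctor.map_comp, ← Category.assoc, res_spec, Category.assoc, res_spec, Category.assoc])).symm

lemma res_id {V : Over T} (s : AutAt K V) : res (𝟙 V) s = s := res_eq _ (by simp)

/-- A constant automorphism. -/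
noncomputable abbrev const (V : Over T) : AutAt K (Over.mk (𝟙 T)) →* AutAt K V := res (toId V)

lemma res_const {V V' : Over T} (φ : V' ⟶ V) (s : AutAt K (Over.mk (𝟙 T))) : res φ (const V s) = const V' s := by
  rw [res_res]
  exact congrArg (fun t => res t s) (Over.OverMorphism.ext (Over.w φ))

lemma mul_hom {V : Over T} (s t : AutAt K V) : (s * t).hom.1 = t.hom.1 ≫ s.hom.1 := rfl

lemma cancel_map {V V' : Over T} (φ : V' ⟶ V) {z : 𝒳.obj} {S : C} {g : S ⟶ V'.left} {a b : z ⟶ K.obj V'}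
    [𝒳.p.IsHomLift g a] [𝒳.p.IsHomLift g b] (h : a ≫ K.map φ = b ≫ K.map φ) : a = b :=
  haveI := overMap_isHomLift K φ
  haveI := isSC (p := 𝒳.p) φ.left (K.map φ)
  IsStronglyCartesian.ext 𝒳.p φ.left (K.map φ) g h

end Res

end Groth.Agent.IsoNatLib
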