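import Groth.Agent.IsoNatLib.Loop
import Groth.Agent.AlgStLib.Diag
import Groth.Agent.FibBase.Fp
import Groth.Agent.FibBase.Inertia

/-!
# Triples: pairs of points of two charts with an isomorphism of the pulled back objects
-/

set_option autoImplicit false
set_option backward.isDefEq.respectTransparency false
set_option backward.isDefEq.respectTransparency.types false

universe v₂ u₂ v u

open CategoryTheory CategoryTheory.Functor CategoryTheory.Limits Groth.Agent.FibBase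

namespace Groth.Agent.IsoNatLib

variable {C : Type u} [Category.{v} C] {𝒴 : BasedCategory.{v₂, u₂} C} [hf : FibCat.IsFibGrpd 𝒴.p]
  {U V V' : C}

/-- The morphism of slice objects over a morphism of sources. -/
abbrev ovHom {T T' : C} (φ : T' ⟶ T) (h : T ⟶ V) : Over.mk (φ ≫ h) ⟶ Over.mk h := Over.homMk φ rfl

lemma existsUnique_resIso {T T' : C} (φ : T' ⟶ T) {a b : 𝒴.p.Fiber T} {a' b' : 𝒴.p.Fiber T'} (p : a'.1 ⟶ a.1)
    (q : b'.1 ⟶ b.1) [𝒴.p.IsHomLift φ p] [𝒴.p.IsHomLift φ q] (δ : a ≅ b) :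
    ∃! δ' : a' ≅ b', δ'.hom.1 ≫ q = p ≫ δ.hom.1 := by
  have := δ.hom.2
  have : 𝒴.p.IsHomLift φ (p ≫ δ.hom.1) := IsHomLift.comp_lift_id_right' 𝒴.p φ p T δ.hom.1
  have := isSC (p := 𝒴.p) φ q
  let m : a' ⟶ b' := ⟨IsCartesian.map 𝒴.p φ q (p ≫ δ.hom.1), inferInstance⟩
  have := fiber_isIso m
  refine ⟨asIso m, IsCartesian.fac 𝒴.p φ q _, fun t ht => ?_⟩
  have := t.hom.2
  exact Iso.ext (Subtype.ext (IsCartesian.map_uniq 𝒴.p φ q _ t.hom.1 ht))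

/-- A point of each of two charts with an isomorphism between the pullbacks. -/
structure Tri (v : FibCat.overCat V ⥤ᵇ 𝒴) (y : FibCat.overCat U ⥤ᵇ 𝒴) (T : C) where
  /-- the first point -/
  h : T ⟶ V
  /-- the second point -/
  g : T ⟶ U
  /-- the isomorphism -/
  δ : @Iso (𝒴.p.Fiber T) _ (fib v (Over.mk h)) (fib y (Over.mk g))

variable {v : FibCat.overCat V ⥤ᵇ 𝒴} {y : FibCat.overCat U ⥤ᵇ 𝒴} {w : FibCat.overCat V' ⥤ᵇ 𝒴} {T T' T'' : C}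

lemma isHomLift_ovHom (K : FibCat.overCat V ⥤ᵇ 𝒴) {a b : Over V} (f : a ⟶ b) {φ : a.left ⟶ b.left}
    (h : f.left = φ) : 𝒴.p.IsHomLift φ (K.map f) := h ▸ overMap_isHomLift K f

/-- Restriction of triples. -/
noncomputable def Tri.res (t : Tri v y T) (φ : T' ⟶ T) : Tri v y T' where
  h := φ ≫ t.h
  g := φ ≫ t.g
  δ := (@existsUnique_resIso _ _ _ hf _ _ φ (fib v (Over.mk t.h)) (fib y (Over.mk t.g)) (fib v (Over.mk (φ ≫ t.h)))
    (fib y (Over.mk (φ ≫ t.g))) (v.map (ovHom φ t.h)) (y.map (ovHom φ t.g))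
    (isHomLift_ovHom v (ovHom φ t.h) rfl) (isHomLift_ovHom y (ovHom φ t.g) rfl) t.δ).choose

@[simp] lemma Tri.res_h (t : Tri v y T) (φ : T' ⟶ T) : (t.res φ).h = φ ≫ t.h := rfl
@[simp] lemma Tri.res_g (t : Tri v y T) (φ : T' ⟶ T) : (t.res φ).g = φ ≫ t.g := rfl

/-- Being the restriction of a triple. -/
def IsRes (φ : T' ⟶ T) (t' : Tri v y T') (t : Tri v y T) : Prop :=
  ∃ (p : Over.mk t'.h ⟶ Over.mk t.h) (q : Over.mk t'.g ⟶ Over.mk t.g), p.left = φ ∧ q.left = φ ∧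
    t'.δ.hom.1 ≫ y.map q = v.map p ≫ t.δ.hom.1

lemma isRes_res (t : Tri v y T) (φ : T' ⟶ T) : IsRes φ (t.res φ) t :=
  ⟨ovHom φ t.h, ovHom φ t.g, rfl, rfl,
    (@existsUnique_resIso _ _ _ hf _ _ φ (fib v (Over.mk t.h)) (fib y (Over.mk t.g)) (fib v (Over.mk (φ ≫ t.h)))
      (fib y (Over.mk (φ ≫ t.g))) (v.map (ovHom φ t.h)) (y.map (ovHom φ t.g))
      (isHomLift_ovHom v (ovHom φ t.h) rfl) (isHomLift_ovHom y (ovHom φ t.g) rfl) t.δ).choose_spec.1⟩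

lemma IsRes.h_eq {φ : T' ⟶ T} {t' : Tri v y T'} {t : Tri v y T} (h : IsRes φ t' t) : φ ≫ t.h = t'.h := by
  obtain ⟨p, -, hp, -, -⟩ := h
  rw [← hp]; exact Over.w p

lemma IsRes.g_eq {φ : T' ⟶ T} {t' : Tri v y T'} {t : Tri v y T} (h : IsRes φ t' t) : φ ≫ t.g = t'.g := by
  obtain ⟨-, q, -, hq, -⟩ := h
  rw [← hq]; exact Over.w q

lemma IsRes.eq {φ : T' ⟶ T} {t' : Tri v y T'} {t : Tri v y T} (hr : IsRes φ t' t) : t' = t.res φ := by
  obtain ⟨h', g', δ'⟩ := t'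
  have eh := hr.h_eq
  have eg := hr.g_eq
  dsimp only at eh eg
  subst eh eg
  obtain ⟨p, q, hp, hq, e⟩ := hr
  rw [show p = ovHom φ t.h from Over.OverMorphism.ext hp, show q = ovHom φ t.g from Over.OverMorphism.ext hq] at e
  exact congrArg (Tri.mk _ _) ((@existsUnique_resIso _ _ _ hf _ _ φ (fib v (Over.mk t.h)) (fib y (Over.mk t.g))
    (fib v (Over.mk (φ ≫ t.h))) (fib y (Over.mk (φ ≫ t.g))) (v.map (ovHom φ t.h)) (y.map (ovHom φ t.g))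
    (isHomLift_ovHom v (ovHom φ t.h) rfl) (isHomLift_ovHom y (ovHom φ t.g) rfl) t.δ).choose_spec.2 δ' e)

lemma IsRes.comp {φ : T' ⟶ T} {φ' : T'' ⟶ T'} {t'' : Tri v y T''} {t' : Tri v y T'} {t : Tri v y T}
    (h' : IsRes φ' t'' t') (h : IsRes φ t' t) : IsRes (φ' ≫ φ) t'' t := by
  obtain ⟨p, q, hp, hq, e⟩ := h
  obtain ⟨p', q', hp', hq', e'⟩ := h'
  refine ⟨p' ≫ p, q' ≫ q, by simp [hp, hp'], by simp [hq, hq'], ?_⟩
  rw [y.toFunctor.map_comp, v.toFunctor.map_comp, reassoc_of% e', e]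
  exact (Category.assoc _ _ _).symm

lemma Tri.res_res (t : Tri v y T) (φ : T' ⟶ T) (φ' : T'' ⟶ T') : (t.res φ).res φ' = t.res (φ' ≫ φ) :=
  ((isRes_res _ φ').comp (isRes_res t φ)).eq

lemma Tri.res_id (t : Tri v y T) : t.res (𝟙 T) = t :=
  (IsRes.eq ⟨𝟙 _, 𝟙 _, rfl, rfl, by simp⟩).symm

/-- Composition of triples. -/
def Tri.comp (a : Tri v w T) (b : Tri w y T) (e : a.g = b.h) : Tri v y T where
  h := a.h
  g := b.g
  δ := a.δ ≪≫ eqToIso (congrArg (fun k : T ⟶ V' => @id (𝒴.p.Fiber T) (fib w (Over.mk k))) e) ≪≫ b.δ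

@[simp] lemma Tri.comp_h (a : Tri v w T) (b : Tri w y T) (e : a.g = b.h) : (a.comp b e).h = a.h := rfl
@[simp] lemma Tri.comp_g (a : Tri v w T) (b : Tri w y T) (e : a.g = b.h) : (a.comp b e).g = b.g := rfl

lemma Tri.res_comp (a : Tri v w T) (b : Tri w y T) (e : a.g = b.h) (φ : T' ⟶ T) :
    (a.comp b e).res φ = (a.res φ).comp (b.res φ) (congrArg (φ ≫ ·) e) := by
  obtain ⟨ha, ga, δa⟩ := a
  obtain ⟨hb, gb, δb⟩ := b
  dsimp only at e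
  subst e
  refine (IsRes.eq ?_).symm
  obtain ⟨p, q, hp, hq, ea⟩ := isRes_res (⟨ha, ga, δa⟩ : Tri v w T) φ
  obtain ⟨p', q', hp', hq', eb⟩ := isRes_res (⟨ga, gb, δb⟩ : Tri w y T) φ
  obtain rfl : p' = q := Over.OverMorphism.ext (hp'.trans hq.symm)
  refine ⟨p, q', hp, hq', ?_⟩
  simp only [Tri.comp, eqToIso_refl, Iso.refl_trans, Iso.trans_hom]
  show ((Tri.res ⟨ha, ga, δa⟩ φ).δ.hom.1 ≫ (Tri.res ⟨ga, gb, δb⟩ φ).δ.hom.1) ≫ y.map q' =
    v.map p ≫ δa.hom.1 ≫ δb.hom.1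
  rw [Category.assoc, eb, reassoc_of% ea]

lemma Tri.comp_left_cancel (a a' : Tri v v T) (b : Tri v y T) (e : a.g = b.h) (e' : a'.g = b.h) (hh : a.h = a'.h)
    (h : a.comp b e = a'.comp b e') : a = a' := by
  obtain ⟨ha, ga, δa⟩ := a
  obtain ⟨ha', ga', δa'⟩ := a'
  obtain ⟨hb, gb, δb⟩ := b
  dsimp only at e e' hh
  subst e e' hh
  simp only [Tri.comp, eqToIso_refl, Iso.refl_trans] at h
  injection h with _ _ h
  exact congrArg (Tri.mk _ _) (Iso.ext ((cancel_mono δb.hom).1 (congrArg Iso.hom h)))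

/-- Triples with the same points differ by an automorphism. -/
lemma Tri.exists_comp (t t' : Tri v y T) (hh : t.h = t'.h) (hg : t.g = t'.g) :
    ∃ (a : Tri v v T) (_ : a.h = t.h) (e : a.g = t.h), a.comp t e = t' := by
  obtain ⟨h, g, δ⟩ := t
  obtain ⟨h', g', δ'⟩ := t'
  dsimp only at hh hg
  subst hh hg
  refine ⟨⟨h, h, δ' ≪≫ δ.symm⟩, rfl, rfl, congrArg (Tri.mk _ _) ?_⟩
  simp

/-- The trivial triple. -/
def Tri.one (h : T ⟶ V) : Tri v v T := ⟨h, h, Iso.refl _⟩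

variable {v : FibCat.overCat V ⥤ᵇ 𝒴}

lemma Tri.res_one (h : T ⟶ V) (φ : T' ⟶ T) : (Tri.one (v := v) h).res φ = Tri.one (φ ≫ h) := by
  refine (IsRes.eq ?_).symm
  refine ⟨ovHom φ h, ovHom φ h, rfl, rfl, ?_⟩
  exact (Category.id_comp _).trans (Category.comp_id _).symm

lemma Tri.one_comp (t : Tri v y T) : (Tri.one t.h).comp t rfl = t :=
  congrArg (Tri.mk _ _) (by simp [Tri.one])

/-- An automorphism as a triple. -/
abbrev Tri.ofAut {h : T ⟶ V} (γ : AutAt v (Over.mk h)) : Tri v v T := ⟨h, h, γ⟩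

lemma Tri.res_ofAut {h : T ⟶ V} (γ : AutAt v (Over.mk h)) (φ : T' ⟶ T) :
    (Tri.ofAut γ).res φ = Tri.ofAut (Groth.Agent.IsoNatLib.res (ovHom φ h) γ) := by
  refine (IsRes.eq ?_).symm
  exact ⟨ovHom φ h, ovHom φ h, rfl, rfl, res_spec _ γ⟩

lemma Tri.exists_ofAut (a : Tri v v T) (e : a.g = a.h) : ∃ γ : AutAt v (Over.mk a.h), a = Tri.ofAut γ := by
  obtain ⟨h, g, δ⟩ := a
  dsimp only at e
  subst e
  exact ⟨δ, rfl⟩

lemma triv_mk (K : FibCat.overCat V ⥤ᵇ 𝒴) (h : T ⟶ V) :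
    triv K (Over.mk h) = pull h (triv K (Over.mk (𝟙 V))) :=
  (pull_triv (toId (Over.mk h))).symm

lemma Tri.cls_eq (t : Tri v y T) : pull t.h (triv v (Over.mk (𝟙 V))) = pull t.g (triv y (Over.mk (𝟙 U))) := by
  rw [← triv_mk, ← triv_mk]
  exact Quotient.sound ⟨t.δ⟩

lemma Tri.exists_of_cls {h : T ⟶ V} {g : T ⟶ U}
    (e : pull h (triv v (Over.mk (𝟙 V))) = pull g (triv y (Over.mk (𝟙 U)))) :
    ∃ t : Tri v y T, t.h = h ∧ t.g = g := by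
  rw [← triv_mk, ← triv_mk] at e
  obtain ⟨δ⟩ : Nonempty (@Iso (𝒴.p.Fiber T) _ (fib v (Over.mk h)) (fib y (Over.mk g))) := Quotient.exact e
  exact ⟨⟨h, g, δ⟩, rfl, rfl⟩

end Groth.Agent.IsoNatLib
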