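import Groth.Agent.IsoNatLib.Rows
import Groth.Agent.IsoNatLib.Tri
import Groth.Agent.FibBase.Slices

/-!
# Kernels of restriction maps of automorphism groups are detected by classes
-/

set_option autoImplicit false
set_option backward.isDefEq.respectTransparency false
set_option backward.isDefEq.respectTransparency.types false

universe v₂ u₂ v u

open CategoryTheory CategoryTheory.Functor CategoryTheory.Limits Groth.Agent.FibBase

namespace Groth.Agent.IsoNatLib

section Push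

variable {C : Type u} [Category.{v} C] {J : GrothendieckTopology C} {T T' : C} (φ : T' ⟶ T)

/-- A doubled object over the base viewed over a further base. -/
def pushDbl (D : Dbl J T') : Dbl J T where
  U := (Over.map φ).obj D.U
  W := (Over.map φ).obj D.W
  Z := (Over.map φ).obj D.Z
  i₁ := (Over.map φ).map D.i₁
  i₂ := (Over.map φ).map D.i₂
  j := (Over.map φ).map D.j
  mono₁ := D.mono₁
  mono₂ := D.mono₂
  sq := D.sq
  cov := D.cov

variable {𝒳 : BasedCategory.{v₂, u₂} C} [hf : FibCat.IsFibGrpd 𝒳.p] (K : FibCat.overCat T ⥤ᵇ 𝒳)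

/-- The restriction of a slice. -/
abbrev pushK : FibCat.overCat T' ⥤ᵇ 𝒳 := BasedFunctor.comp (mapB φ) K

lemma res_pushK {V V' : Over T'} (f : V' ⟶ V) (s : AutAt (pushK φ K) V) :
    res (K := pushK φ K) f s = res (K := K) (V := (Over.map φ).obj V) (V' := (Over.map φ).obj V')
      ((Over.map φ).map f) s :=
  res_eq (K := pushK φ K) f (res_spec (K := K) ((Over.map φ).map f) s)

variable (hst : Stk.IsStack J 𝒳)

/-- The restriction of an automorphism of the base. -/
noncomputable def pushAut (x : AutAt K (Over.mk (𝟙 T))) : AutAt (pushK φ K) (Over.mk (𝟙 T')) :=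
  res (K := K) (V' := (Over.map φ).obj (Over.mk (𝟙 T'))) (toId _) x

include hst in
theorem pull_Φ_push {L : Dbl J T} {z : Over.mk (𝟙 T) ⟶ L.U} {n : ℕ} (D : Gadget L z n)
    {L' : Dbl J T'} {z' : Over.mk (𝟙 T') ⟶ L'.U} (D' : Gadget L' z' n) (m : DblHom (pushDbl φ D'.D) D.D)
    (mL : (Over.map φ).obj L'.W ⟶ L.W) (hw : ∀ a, (Over.map φ).map (D'.β a).W ≫ m.W = mL ≫ (D.β a).W)
    (t : Fin n → AutAt K (Over.mk (𝟙 T))) :
    pull m.Z.left (Φ hst D t) = Φ hst D' (K := pushK φ K) (fun a => pushAut φ K (t a)) := by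
  have hres : (res m.W (glueC hst D t) : AutAt K ((Over.map φ).obj D'.D.W)) =
      glueC hst D' (K := pushK φ K) (fun a => pushAut φ K (t a)) := by
    refine glueC_ext hst D' (K := pushK φ K) fun a => ?_
    rw [res_pushK]
    show res ((Over.map φ).map (D'.β a).W) (res m.W (glueC hst D t)) = res (toId L'.W) (pushAut φ K (t a))
    rw [res_pushK]
    refine (res_res (K := K) m.W ((Over.map φ).map (D'.β a).W) _).trans ?_
    refine (congrArg (fun f => res (K := K) f (glueC hst D t)) (hw a)).trans ?_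
    refine ((res_res (K := K) (D.β a).W mL _).symm.trans ?_)
    rw [res_glueC]
    refine (res_res (K := K) _ mL _).trans ?_
    refine Eq.trans ?_ (res_res (K := K) _ _ _).symm
    refine congrArg (fun f => res f (t a)) (Over.OverMorphism.ext ?_)
    exact ((Category.comp_id _).symm.trans (Over.w _)).trans ((Category.comp_id _).symm.trans (Over.w _)).symm
  obtain ⟨G'⟩ := exists_gl hst (K := K) (pushDbl φ D'.D) (res m.W (glueC hst D t))
  rw [Φ, gcl_pull hst m _ G', Φ]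
  let G'' : Glued (dblDatum K (pushDbl φ D'.D) (glueC hst D' (K := pushK φ K) fun a => pushAut φ K (t a))) :=
    (exists_gl hst D'.D (glueC hst D' (K := pushK φ K) fun a => pushAut φ K (t a))).some
  exact (gcl_eq_iff hst G' G'').2 ⟨1, 1, by rw [map_one, hres, inv_one, one_mul, mul_one]⟩

end Push

section Site

open AlgebraicGeometry AlgSp Groth.Agent.AlgStLib

variable {S : Scheme.{u}} {T T' : Over S} (φ : T' ⟶ T)

/-- The base change of products. -/
noncomputable def pushProd (A : Scheme.{u}) : (Over.map φ).obj (prodT T' A) ⟶ prodT T A :=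
  Over.homMk
    (Over.homMk (pullback.lift (pullback.fst (toPt T'.left) (toPt A) ≫ φ.left) (pullback.snd _ _)
        (specULiftZIsTerminal.hom_ext _ _)) (by
      show pullback.lift _ _ _ ≫ pullback.fst _ _ ≫ T.hom = pullback.fst _ _ ≫ T'.hom
      rw [pullback.lift_fst_assoc, Category.assoc, Over.w]))
    (Over.OverMorphism.ext (pullback.lift_fst _ _ _))

lemma pushProd_natural {A B : Scheme.{u}} (f : A ⟶ B) :
    (Over.map φ).map (prodMap T' f) ≫ pushProd φ B = pushProd φ A ≫ prodMap T f := by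
  apply prodT_hom_ext
  simp [pushProd, prodMap]

/-- The base change of the gadgets. -/
noncomputable def pushAxes {n : ℕ} (a₀ : Fin n) :
    DblHom (pushDbl φ (axesGadget T' a₀).D) (axesGadget T a₀).D where
  U := pushProd φ _
  W := pushProd φ _
  Z := pushProd φ _
  w₁ := pushProd_natural φ _
  w₂ := pushProd_natural φ _
  wj := pushProd_natural φ _

theorem pull_Φ_axes {𝒳 : AlgSt.Cat S} [FibCat.IsFibGrpd 𝒳.p] (hst : Stk.IsStack (J S) 𝒳)
    (K : FibCat.overCat T ⥤ᵇ 𝒳) {n : ℕ} (a₀ : Fin n) (t : Fin n → AutAt K (Over.mk (𝟙 T))) :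
    pull (pushAxes φ a₀).Z.left (Φ hst (axesGadget T a₀) t) =
      Φ hst (axesGadget T' a₀) (K := pushK φ K) (fun a => pushAut φ K (t a)) :=
  pull_Φ_push φ K hst (axesGadget T a₀) (axesGadget T' a₀) (pushAxes φ a₀) (pushProd φ _)
    (fun a => pushProd_natural φ (branchIn a)) t

/-- Triviality of a kernel of restriction is detected by classes. -/
theorem kernel_trivial {𝒳 𝒴 : AlgSt.Cat S} [FibCat.IsFibGrpd 𝒳.p] [FibCat.IsFibGrpd 𝒴.p]
    (hX : Stk.IsStack (J S) 𝒳) (hY : Stk.IsStack (J S) 𝒴)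
    (hdX : AlgSt.RepByAlgSpWith IsSeparatedMor (FibCat.diag (FibCat.toSelf 𝒳)))
    (hdY : AlgSt.RepByAlgSpWith IsSeparatedMor (FibCat.diag (FibCat.toSelf 𝒴)))
    (ψ : ClsIso 𝒳 𝒴) {K : FibCat.overCat T ⥤ᵇ 𝒳} {K' : FibCat.overCat T ⥤ᵇ 𝒴}
    (hψ : ψ.eqv T (triv K (Over.mk (𝟙 T))) = triv K' (Over.mk (𝟙 T)))
    (hker : ∀ γ, pushAut φ K γ = 1 → γ = 1) : ∀ γ, pushAut φ K' γ = 1 → γ = 1 := by
  intro γ hγ
  have h1 : ∀ {𝒵 : AlgSt.Cat S} [FibCat.IsFibGrpd 𝒵.p] (L : FibCat.overCat T ⥤ᵇ 𝒵),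
      pushAut φ L 1 = 1 := fun L => map_one _
  let D := axesGadget T (0 : Fin 2)
  have hi := res_lineDbl_injective T K hdX
  have hi' := res_lineDbl_injective T K' hdY
  have hi₀ := res_lineDbl_injective T' (pushK φ K) hdX
  have hloop₁ : ∀ {𝒵 : AlgSt.Cat S} [FibCat.IsFibGrpd 𝒵.p] (hZ : Stk.IsStack (J S) 𝒵) (T₁ : Over S)
      (L : FibCat.overCat T₁ ⥤ᵇ 𝒵), Φ hZ (axesGadget T₁ (0 : Fin 2)) (K := L) (fun _ => 1) = triv L _ := by
    intro 𝒵 _ hZ T₁ L
    refine (gcl_eq_iff hZ _ (glOne _)).2 ⟨1, 1, ?_⟩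
    rw [map_one, inv_one, one_mul, mul_one]
    exact glueC_ext hZ _ fun a => by rw [map_one, map_one]
  -- the loop of `γ` and the corresponding one
  obtain ⟨t, ht⟩ := exists_Φ_eq hX D hi (K := K)
    ((isLoop_eqv ψ.symm (show ψ.symm.eqv T _ = _ from (ψ.eqv T).symm_apply_eq.2 hψ.symm) D _).1
      (isLoop_Φ hY D (K := K') ![γ, 1]))
  have ht' : ψ.eqv _ (Φ hX D t) = Φ hY D ![γ, 1] := by
    rw [ht]; exact (ψ.eqv _).apply_symm_apply _
  have h0 : ψ.eqv _ (pull (pushAxes φ (0 : Fin 2)).Z.left (Φ hX D t)) =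
      triv (pushK φ K') (axesGadget T' (0 : Fin 2)).D.Z := by
    rw [ψ.nat, ht', pull_Φ_axes φ hY, ← hloop₁ hY T' (pushK φ K')]
    congr 1
    funext a
    fin_cases a
    · exact hγ
    · exact h1 K'
  have htr : ψ.eqv _ (triv (pushK φ K) (axesGadget T' (0 : Fin 2)).D.Z) =
      triv (pushK φ K') (axesGadget T' (0 : Fin 2)).D.Z :=
    eqv_triv ψ hψ ((Over.map φ).obj (axesGadget T' (0 : Fin 2)).D.Z)
  have h2 := (ψ.eqv _).injective (h0.trans htr.symm)
  rw [pull_Φ_axes φ hX, ← hloop₁ hX T' (pushK φ K), Φ_eq_iff hX _ hi₀] at h2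
  obtain ⟨g, k, he⟩ := h2
  have e01 : pushAut φ K (t 0) = pushAut φ K (t 1) :=
    mul_left_cancel (mul_right_cancel ((he 0).symm.trans (he 1)))
  have : t 0 = t 1 := by
    refine mul_inv_eq_one.1 (hker _ ?_)
    rw [pushAut, map_mul, _root_.map_inv]
    exact mul_inv_eq_one.2 e01
  have h3 : Φ hX D t = triv K D.D.Z := by
    rw [← hloop₁ hX T K, Φ_eq_iff hX D hi]
    refine ⟨(t 0)⁻¹, 1, fun a => ?_⟩
    rw [inv_one, mul_one]
    fin_cases a
    · exact (inv_mul_cancel _).symm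
    · show (1 : AutAt K (Over.mk (𝟙 T))) = (t 0)⁻¹ * t 1
      rw [this, inv_mul_cancel]
  rw [h3, eqv_triv ψ hψ, ← hloop₁ hY T K', Φ_eq_iff hY D hi'] at ht'
  obtain ⟨g, k, he⟩ := ht'
  have a0 : γ = g * 1 * k⁻¹ := he 0
  have a1 : (1 : AutAt K' (Over.mk (𝟙 T))) = g * 1 * k⁻¹ := he 1
  exact a0.trans a1.symm

end Site

end Groth.Agent.IsoNatLib
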