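import Groth.Agent.IsoNatLib.SmoothCrit
import Groth.Agent.AlgSpLib.EtLocalInst
import Groth.Agent.Hensel.StrictSchemes
import Mathlib.AlgebraicGeometry.Morphisms.Smooth
import Mathlib.AlgebraicGeometry.Morphisms.FormallyUnramified
import Mathlib.RingTheory.Nakayama
import Mathlib.FieldTheory.IsAlgClosed.AlgebraicClosure
import Mathlib.Algebra.TrivSqZeroExt.Basic

/-!
# Lifting morphisms from the spectrum of a local ring along square-zero extensions
-/

set_option autoImplicit false
set_option backward.isDefEq.respectTransparency false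
set_option backward.isDefEq.respectTransparency.types false

universe u

open CategoryTheory CategoryTheory.Limits AlgebraicGeometry IsLocalRing

namespace Groth.Agent.IsoNatLib

variable {A A₀ : Type u} [CommRing A] [CommRing A₀] [IsLocalRing A] [Nontrivial A₀] {π : A →+* A₀}

/-- The morphism of spectra of a ring map. -/
noncomputable abbrev specπ (π : A →+* A₀) : Spec (.of A₀) ⟶ Spec (.of A) := Spec.map (CommRingCat.ofHom π)

theorem isLocalRing_of_surj (hπ : Function.Surjective π) : IsLocalRing A₀ := IsLocalRing.of_surjective' π hπ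

omit [Nontrivial A₀] in
theorem preimage_eq_top {X : Scheme.{u}} (f : Spec (.of A) ⟶ X) (U : X.Opens)
    (h : f (closedPoint A) ∈ U) : Set.range f ⊆ U := by
  rintro _ ⟨p, rfl⟩
  exact ((specializes_closedPoint p).map f.continuous).mem_open U.2 h

theorem specπ_closedPoint [IsLocalRing A₀] (hπ : Function.Surjective π) :
    specπ π (closedPoint A₀) = closedPoint A := by
  have : IsLocalHom π := .of_surjective _ hπ
  exact IsLocalRing.comap_closedPoint π

/-- An affine chart of a morphism around a point. -/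
theorem exists_affine_chart {X Y : Scheme.{u}} (f : X ⟶ Y) (x : X) :
    ∃ (C B : CommRingCat.{u}) (jV : Spec C ⟶ Y) (jU : Spec B ⟶ X) (φ : C ⟶ B),
      IsOpenImmersion jV ∧ IsOpenImmersion jU ∧ x ∈ Set.range jU ∧ f x ∈ Set.range jV ∧
        Spec.map φ ≫ jV = jU ≫ f := by
  obtain ⟨C, jV, hjV, ⟨y, hy⟩, -⟩ := Scheme.exists_affine_mem_range_and_range_subset
    (x := f x) (U := (⊤ : Y.Opens)) (by simp)
  obtain ⟨B, jU, hjU, hx, hsub⟩ := Scheme.exists_affine_mem_range_and_range_subset
    (x := x) (U := f ⁻¹ᵁ jV.opensRange) ⟨y, hy⟩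
  have hr : Set.range (jU ≫ f) ⊆ Set.range jV := by
    rintro _ ⟨p, rfl⟩
    exact hsub ⟨p, rfl⟩
  obtain ⟨φ, hφ⟩ := Spec.map_surjective (IsOpenImmersion.lift jV (jU ≫ f) hr)
  exact ⟨C, B, jV, jU, φ, hjV, hjU, hx, ⟨y, hy⟩, by rw [hφ, IsOpenImmersion.lift_fac]⟩

theorem exists_ringHom {X : Scheme.{u}} {B : CommRingCat.{u}} (j : Spec B ⟶ X) [IsOpenImmersion j]
    (f : Spec (.of A) ⟶ X) (h : f (closedPoint A) ∈ Set.range j) :
    ∃ s : B →+* A, Spec.map (CommRingCat.ofHom s) ≫ j = f := by
  obtain ⟨s, hs⟩ := Spec.map_surjective (IsOpenImmersion.lift j f (preimage_eq_top f j.opensRange h))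
  exact ⟨s.hom, by rw [show CommRingCat.ofHom s.hom = s from rfl, hs, IsOpenImmersion.lift_fac]⟩

theorem ringHom_eq_of_spec {R : CommRingCat.{u}} {X : Scheme.{u}} (j : Spec R ⟶ X) [Mono j] {R' : Type u}
    [CommRing R'] {a b : R →+* R'}
    (h : Spec.map (CommRingCat.ofHom a) ≫ j = Spec.map (CommRingCat.ofHom b) ≫ j) : a = b :=
  congrArg CommRingCat.Hom.hom (Spec.map_injective ((cancel_mono j).1 h))

omit [IsLocalRing A] [Nontrivial A₀] in
theorem sq_ker_eq_bot (hsq : ∀ a b, π a = 0 → π b = 0 → a * b = 0) : RingHom.ker π ^ 2 = ⊥ := by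
  rw [pow_two, eq_bot_iff]
  exact Ideal.mul_le.mpr fun a ha b hb => Ideal.mem_bot.mpr (hsq a b ha hb)

/-- Lifting along a smooth morphism. -/
theorem exists_lift_of_smooth (hπ : Function.Surjective π) (hsq : ∀ a b, π a = 0 → π b = 0 → a * b = 0)
    {X Y : Scheme.{u}} (f : X ⟶ Y) [Smooth f] (c : Spec (.of A) ⟶ Y) (b : Spec (.of A₀) ⟶ X)
    (h : b ≫ f = specπ π ≫ c) : ∃ s, specπ π ≫ s = b ∧ s ≫ f = c := by
  have := isLocalRing_of_surj hπ
  obtain ⟨C, B, jV, jU, φ, _, _, hx, hy, hφ⟩ := exists_affine_chart f (b (closedPoint A₀))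
  have hc : c (closedPoint A) ∈ Set.range jV := by
    rwa [← specπ_closedPoint hπ, ← Scheme.Hom.comp_apply, ← h, Scheme.Hom.comp_apply]
  obtain ⟨c', rfl⟩ := exists_ringHom jV c hc
  obtain ⟨b', rfl⟩ := exists_ringHom jU b hx
  have e : b'.comp φ.hom = π.comp c' := by
    refine ringHom_eq_of_spec jV ?_
    rw [CommRingCat.ofHom_comp, CommRingCat.ofHom_comp, Spec.map_comp, Spec.map_comp, Category.assoc,
      Category.assoc, show CommRingCat.ofHom φ.hom = φ from rfl, hφ, ← Category.assoc, h]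
  have hs : Smooth (Spec.map φ) := by
    have h1 : Smooth (Spec.map φ ≫ jV) := by rw [hφ]; infer_instance
    exact AlgSpLib.IsEtLocal.cancel_right _ jV h1
  have hφs : φ.hom.Smooth := (HasRingHomProperty.Spec_iff (P := @Smooth)).mp hs
  algebraize [φ.hom, c']
  let : Algebra C A₀ := (π.comp c').toAlgebra
  let gπ : A →ₐ[C] A₀ := { π with commutes' := fun _ => rfl }
  let gb : B →ₐ[C] A₀ := { b' with commutes' := fun r => RingHom.congr_fun e r }
  have hk : IsNilpotent (RingHom.ker (gπ : A →+* A₀)) := ⟨2, sq_ker_eq_bot (π := π) hsq⟩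
  let s := Algebra.FormallySmooth.liftOfSurjective gb gπ hπ hk
  have hs' : gπ.comp s = gb := Algebra.FormallySmooth.comp_liftOfSurjective gb gπ hπ hk
  refine ⟨Spec.map (CommRingCat.ofHom s.toRingHom) ≫ jU, ?_, ?_⟩
  · rw [← Category.assoc, ← Spec.map_comp, ← CommRingCat.ofHom_comp]
    exact congrArg (fun g => Spec.map (CommRingCat.ofHom g) ≫ jU) (congrArg AlgHom.toRingHom hs')
  · rw [Category.assoc, ← hφ, ← Category.assoc, ← Spec.map_comp]
    congr 2
    exact CommRingCat.hom_ext (RingHom.ext fun r => s.commutes r)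

/-- Uniqueness of lifts along a formally unramified morphism. -/
theorem lift_unique_of_unramified (hπ : Function.Surjective π) (hsq : ∀ a b, π a = 0 → π b = 0 → a * b = 0)
    {X Y : Scheme.{u}} (f : X ⟶ Y) [FormallyUnramified f] (s₁ s₂ : Spec (.of A) ⟶ X)
    (h₀ : specπ π ≫ s₁ = specπ π ≫ s₂) (h : s₁ ≫ f = s₂ ≫ f) : s₁ = s₂ := by
  have := isLocalRing_of_surj hπ
  obtain ⟨C, B, jV, jU, φ, _, _, hx, hy, hφ⟩ := exists_affine_chart f (s₁ (closedPoint A))
  have h2 : s₂ (closedPoint A) ∈ Set.range jU := by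
    rwa [← specπ_closedPoint hπ, ← Scheme.Hom.comp_apply, ← h₀, Scheme.Hom.comp_apply, specπ_closedPoint hπ]
  obtain ⟨a₁, rfl⟩ := exists_ringHom jU s₁ hx
  obtain ⟨a₂, rfl⟩ := exists_ringHom jU s₂ h2
  have e : a₁.comp φ.hom = a₂.comp φ.hom := by
    refine ringHom_eq_of_spec jV ?_
    rw [CommRingCat.ofHom_comp, CommRingCat.ofHom_comp, Spec.map_comp, Spec.map_comp, Category.assoc,
      Category.assoc, show CommRingCat.ofHom φ.hom = φ from rfl, hφ, ← Category.assoc, h, Category.assoc]
  have e₀ : π.comp a₁ = π.comp a₂ := by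
    refine ringHom_eq_of_spec jU ?_
    rw [CommRingCat.ofHom_comp, CommRingCat.ofHom_comp, Spec.map_comp, Spec.map_comp, Category.assoc,
      Category.assoc]
    exact h₀
  have hs : FormallyUnramified (Spec.map φ) := by
    have h1 : FormallyUnramified (Spec.map φ ≫ jV) := by
      rw [hφ]; exact MorphismProperty.comp_mem _ jU f inferInstance inferInstance
    exact FormallyUnramified.of_comp _ jV
  have hφs : φ.hom.FormallyUnramified := (HasRingHomProperty.Spec_iff (P := @FormallyUnramified)).mp hs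
  algebraize [φ.hom]
  let : Algebra C A := (a₁.comp φ.hom).toAlgebra
  let g₁ : B →ₐ[C] A := { a₁ with commutes' := fun _ => rfl }
  let g₂ : B →ₐ[C] A := { a₂ with commutes' := fun r => (RingHom.congr_fun e r).symm }
  have : g₁ = g₂ := Algebra.FormallyUnramified.lift_unique_of_ringHom π ⟨2, sq_ker_eq_bot hsq⟩ g₁ g₂ e₀
  rw [show a₁ = a₂ from congrArg AlgHom.toRingHom this]

/-- The lifting property at strictly henselian local rings. -/
def SHLift {X Y : Scheme.{u}} (f : X ⟶ Y) : Prop :=
  ∀ (A A₀ : Type u) [CommRing A] [CommRing A₀] [IsLocalRing A] [IsSH A₀] (π : A →+* A₀),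
    Function.Surjective π → (∀ a b, π a = 0 → π b = 0 → a * b = 0) →
    ∀ (c : Spec (.of A) ⟶ Y) (b : Spec (.of A₀) ⟶ X), b ≫ f = specπ π ≫ c →
      ∃ s, specπ π ≫ s = b ∧ s ≫ f = c

/-- Smoothness from lifting. -/
theorem smooth_of_shLift {X Y : Scheme.{u}} (f : X ⟶ Y) [LocallyOfFinitePresentation f] (h : SHLift f) :
    Smooth f := by
  rw [HasRingHomProperty.iff_appLE (P := @Smooth)]
  intro V U e
  have hfp : (f.appLE V U e).hom.FinitePresentation :=
    HasRingHomProperty.appLE @LocallyOfFinitePresentation f inferInstance V U e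
  have hC : HasSHLifts (f.appLE V U e).hom := by
    intro A A₀ _ _ _ _ π hπ hsq c b hcb
    have : HenselianLocalRing A := IsSH.henselian
    have : HenselianLocalRing A₀ := IsSH.henselian
    obtain ⟨s, hs₁, hs₂⟩ := h A A₀ π hπ hsq (Spec.map (CommRingCat.ofHom c) ≫ V.2.fromSpec)
      (Spec.map (CommRingCat.ofHom b) ≫ U.2.fromSpec) (by
        rw [Category.assoc, ← IsAffineOpen.SpecMap_appLE_fromSpec f V.2 U.2 e, ← Category.assoc,
          ← Spec.map_comp, ← Category.assoc, ← Spec.map_comp]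
        congr 2
        exact CommRingCat.hom_ext hcb.symm)
    have hsU : s (closedPoint A) ∈ Set.range U.2.fromSpec := by
      rw [← specπ_closedPoint hπ, ← Scheme.Hom.comp_apply, hs₁, Scheme.Hom.comp_apply]
      exact ⟨_, rfl⟩
    obtain ⟨s', rfl⟩ := exists_ringHom U.2.fromSpec s hsU
    refine ⟨s', ringHom_eq_of_spec U.2.fromSpec ?_, ringHom_eq_of_spec V.2.fromSpec ?_⟩
    · rw [CommRingCat.ofHom_comp, Spec.map_comp, Category.assoc]; exact hs₁
    · rw [CommRingCat.ofHom_comp, Spec.map_comp, Category.assoc]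
      exact (congrArg (Spec.map (CommRingCat.ofHom s') ≫ ·)
        (IsAffineOpen.SpecMap_appLE_fromSpec f V.2 U.2 e)).trans ((Category.assoc _ _ _).symm.trans hs₂)
  algebraize [(f.appLE V U e).hom]
  have : Algebra.FormallySmooth Γ(Y, V.1) Γ(X, U.1) := formallySmooth_of_hasSHLifts hC
  exact ⟨this, hfp⟩

/-- Uniqueness of lifts at algebraically closed fields. -/
def SHUnique {X Y : Scheme.{u}} (f : X ⟶ Y) : Prop :=
  ∀ (A A₀ : Type u) [CommRing A] [Field A₀] [IsAlgClosed A₀] [IsLocalRing A] (π : A →+* A₀),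
    Function.Surjective π → (∀ a b, π a = 0 → π b = 0 → a * b = 0) →
    ∀ (s₁ s₂ : Spec (.of A) ⟶ X), specπ π ≫ s₁ = specπ π ≫ s₂ → s₁ ≫ f = s₂ ≫ f → s₁ = s₂

theorem subsingleton_of_maximal {B : Type u} [CommRing B] {M : Type u} [AddCommGroup M] [Module B M]
    [Module.Finite B M]
    (h : ∀ (k : Type u) [Field k] [IsAlgClosed k] [Algebra B k] (l : M →ₗ[B] k), l = 0) : Subsingleton M := by
  by_contra hn
  obtain ⟨m, hm, hne⟩ : ∃ m : Ideal B, m.IsMaximal ∧ m • (⊤ : Submodule B M) ≠ ⊤ := by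
    by_contra hc
    push Not at hc
    have hann : (⊤ : Submodule B M).annihilator = ⊤ := by
      by_contra ha
      obtain ⟨m, hm, hle⟩ := Ideal.exists_le_maximal _ ha
      obtain ⟨r, hr, hr'⟩ := Submodule.exists_sub_one_mem_and_smul_eq_zero_of_fg_of_le_smul m ⊤
        Module.Finite.fg_top (hc m hm).ge
      refine hm.ne_top ((Ideal.eq_top_iff_one _).mpr ?_)
      have : r ∈ m := hle (Submodule.mem_annihilator.mpr fun x hx => hr' x hx)
      simpa using m.sub_mem this hr
    refine hn ⟨fun a b => ?_⟩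
    have h1 : (1 : B) ∈ (⊤ : Submodule B M).annihilator := by rw [hann]; trivial
    have := Submodule.mem_annihilator.mp h1 (a - b) trivial
    rwa [one_smul, sub_eq_zero] at this
  let Q := M ⧸ m • (⊤ : Submodule B M)
  have : Nontrivial Q := Submodule.Quotient.nontrivial_iff.mpr hne
  let := Ideal.Quotient.field m
  obtain ⟨q, hq⟩ := exists_ne (0 : Q)
  obtain ⟨l, hl⟩ := Module.Projective.exists_dual_ne_zero (B ⧸ m) hq
  refine hl ?_
  obtain ⟨x, rfl⟩ := Submodule.Quotient.mk_surjective _ q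
  have h0 := LinearMap.congr_fun (h (AlgebraicClosure (B ⧸ m)) ((Algebra.linearMap (B ⧸ m) (AlgebraicClosure (B ⧸ m))).restrictScalars B ∘ₗ
    l.restrictScalars B ∘ₗ Submodule.mkQ _)) x
  exact (algebraMap (B ⧸ m) (AlgebraicClosure (B ⧸ m))).injective (h0.trans (map_zero _).symm)

/-- Formal unramifiedness from uniqueness of lifts. -/
theorem formallyUnramified_of_shUnique {X Y : Scheme.{u}} (f : X ⟶ Y) [LocallyOfFiniteType f]
    (h : SHUnique f) : FormallyUnramified f := by
  rw [HasRingHomProperty.iff_appLE (P := @FormallyUnramified)]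
  intro V U e
  have hft : (f.appLE V U e).hom.FiniteType :=
    HasRingHomProperty.appLE @LocallyOfFiniteType f inferInstance V U e
  algebraize [(f.appLE V U e).hom]
  refine ⟨subsingleton_of_maximal (B := Γ(X, U.1)) fun k _ _ _ l => ?_⟩
  let C := Γ(Y, V.1)
  let B := Γ(X, U.1)
  let : Algebra C k := ((algebraMap B k).comp (algebraMap C B)).toAlgebra
  have : IsScalarTower C B k := .of_algebraMap_eq' rfl
  let D : Derivation C B k := l.compDer (KaehlerDifferential.D C B)
  have : IsLocalRing (TrivSqZeroExt k k) := by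
    refine IsLocalRing.of_nonunits_add fun a b ha hb => ?_
    simp only [mem_nonunits_iff, TrivSqZeroExt.isUnit_iff_isUnit_fst, isUnit_iff_ne_zero, not_not,
      TrivSqZeroExt.fst_add] at *
    simp [ha, hb]
  let π : TrivSqZeroExt k k →+* k := (TrivSqZeroExt.fstHom k k k).toRingHom
  let a₁ : B →+* TrivSqZeroExt k k := (TrivSqZeroExt.inlHom k k).comp (algebraMap B k)
  let a₂ : B →+* TrivSqZeroExt k k :=
    { toFun := fun b => TrivSqZeroExt.inl (algebraMap B k b) + TrivSqZeroExt.inr (D b)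
      map_one' := by ext <;> simp
      map_zero' := by ext <;> simp
      map_add' := fun a b => by ext <;> simp
      map_mul' := fun a b => by
        ext
        · simp
        · simp [Algebra.smul_def]; ring }
  have ee : ∀ g : B →+* TrivSqZeroExt k k, Spec.map (CommRingCat.ofHom g) ≫ U.2.fromSpec ≫ f =
      Spec.map (CommRingCat.ofHom (g.comp (f.appLE V U e).hom)) ≫ V.2.fromSpec := fun g => by
    rw [← IsAffineOpen.SpecMap_appLE_fromSpec f V.2 U.2 e, CommRingCat.ofHom_comp, Spec.map_comp,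
      Category.assoc]
    rfl
  have hs := h (TrivSqZeroExt k k) k π (fun x => ⟨TrivSqZeroExt.inl x, rfl⟩)
    (fun a b ha hb => by
      have ha' : a.fst = 0 := ha
      have hb' : b.fst = 0 := hb
      ext <;> simp [ha', hb'])
    (Spec.map (CommRingCat.ofHom a₁) ≫ U.2.fromSpec) (Spec.map (CommRingCat.ofHom a₂) ≫ U.2.fromSpec)
    (by
      rw [← Category.assoc, ← Category.assoc, ← Spec.map_comp, ← Spec.map_comp]
      congr 2
      refine CommRingCat.hom_ext (RingHom.ext fun b => ?_)
      simp [π, a₁, a₂])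
    (by
      rw [Category.assoc, Category.assoc, ee, ee]
      congr 3
      refine RingHom.ext fun r => ?_
      have : D (algebraMap C B r) = 0 := D.map_algebraMap r
      simp [a₁, a₂]
      rw [RingHom.algebraMap_toAlgebra] at this
      rw [this, TrivSqZeroExt.inr_zero])
  have := ringHom_eq_of_spec U.2.fromSpec hs
  refine LinearMap.ext_on_range (KaehlerDifferential.span_range_derivation C B) fun b => ?_
  have h1 := congrArg TrivSqZeroExt.snd (RingHom.congr_fun this b)
  simp [a₁, a₂] at h1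
  exact h1.symm

section Power

variable (π) (I : Type u)

/-- Tuples with a common reduction. -/
def powRing : Subring (I → A) where
  carrier := {g | ∀ i j, π (g i) = π (g j)}
  zero_mem' _ _ := rfl
  one_mem' _ _ := rfl
  add_mem' ha hb i j := by simp only [Pi.add_apply, map_add, ha i j, hb i j]
  mul_mem' ha hb i j := by simp only [Pi.mul_apply, map_mul, ha i j, hb i j]
  neg_mem' ha i j := by simp only [Pi.neg_apply, map_neg, ha i j]

/-- Evaluation. -/
abbrev powEval (i : I) : powRing π I →+* A := (Pi.evalRingHom (fun _ : I => A) i).comp (powRing π I).subtype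

variable {π} {I}

omit [IsLocalRing A] [Nontrivial A₀] in
theorem pow_red (i j : I) : π.comp (powEval π I i) = π.comp (powEval π I j) :=
  RingHom.ext fun g => g.2 i j

omit [IsLocalRing A] [Nontrivial A₀] in
theorem pow_red_surjective (hπ : Function.Surjective π) (i : I) : Function.Surjective (π.comp (powEval π I i)) :=
  fun a => by obtain ⟨a, rfl⟩ := hπ a; exact ⟨⟨fun _ => a, fun _ _ => rfl⟩, rfl⟩

omit [IsLocalRing A] [Nontrivial A₀] in
theorem pow_red_sq (hsq : ∀ a b, π a = 0 → π b = 0 → a * b = 0) (i : I) :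
    ∀ a b, π.comp (powEval π I i) a = 0 → π.comp (powEval π I i) b = 0 → a * b = 0 := fun a b ha hb =>
  Subtype.ext (funext fun j => hsq _ _ ((a.2 j i).trans ha) ((b.2 j i).trans hb))

theorem isLocalRing_powRing (hπ : Function.Surjective π) [Nonempty I] : IsLocalRing (powRing π I) := by
  obtain ⟨i₀⟩ := ‹Nonempty I›
  have := isLocalRing_of_surj hπ
  have hloc : IsLocalHom π := .of_surjective _ hπ
  have hu : ∀ g : powRing π I, IsUnit (π (g.1 i₀)) → IsUnit g := fun g hg => by
    have hgi : ∀ i, IsUnit (g.1 i) := fun i => hloc.map_nonunit _ (by rw [g.2 i i₀]; exact hg)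
    refine IsUnit.of_mul_eq_one ⟨fun i => ((hgi i).unit⁻¹ : Aˣ), fun i j => ?_⟩ (Subtype.ext (funext fun i => ?_))
    · refine hg.mul_left_cancel ?_
      conv_lhs => rw [← g.2 i i₀]
      conv_rhs => rw [← g.2 j i₀]
      rw [← map_mul, ← map_mul, IsUnit.mul_val_inv, IsUnit.mul_val_inv]
    · exact IsUnit.mul_val_inv _
  have : Nontrivial (powRing π I) := ⟨⟨0, 1, fun e => zero_ne_one (congrFun (congrArg Subtype.val e) i₀)⟩⟩
  refine IsLocalRing.of_nonunits_add fun a b ha hb h => ?_
  have := h.map (π.comp (powEval π I i₀))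
  rw [map_add] at this
  rcases IsLocalRing.isUnit_or_isUnit_of_isUnit_add this with h' | h'
  · exact ha (hu a h')
  · exact hb (hu b h')

/-- Gluing morphisms with a common reduction. -/
theorem exists_glue (hπ : Function.Surjective π) [Nonempty I] {X : Scheme.{u}} (g : I → (Spec (.of A) ⟶ X))
    (b : Spec (.of A₀) ⟶ X) (hg : ∀ i, specπ π ≫ g i = b) :
    ∃ G : Spec (.of (powRing π I)) ⟶ X, ∀ i, Spec.map (CommRingCat.ofHom (powEval π I i)) ≫ G = g i := by
  have := isLocalRing_of_surj hπ
  obtain ⟨B, j, hj, hx, -⟩ := Scheme.exists_affine_mem_range_and_range_subset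
    (x := b (closedPoint A₀)) (U := (⊤ : X.Opens)) (by simp)
  have hgi : ∀ i, ∃ s : B →+* A, Spec.map (CommRingCat.ofHom s) ≫ j = g i := fun i => exists_ringHom j (g i) (by
    rw [← specπ_closedPoint hπ, ← Scheme.Hom.comp_apply, hg i]; exact hx)
  choose s hs using hgi
  have hcompat : ∀ x i j', π (s i x) = π (s j' x) := fun x i j' => by
    refine RingHom.congr_fun (ringHom_eq_of_spec j (a := π.comp (s i)) (b := π.comp (s j')) ?_) x
    rw [CommRingCat.ofHom_comp, Spec.map_comp, Category.assoc, hs, hg, CommRingCat.ofHom_comp, Spec.map_comp,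
      Category.assoc, hs, hg]
  let σ : B →+* powRing π I := (RingHom.pi s).codRestrict (powRing π I) hcompat
  refine ⟨Spec.map (CommRingCat.ofHom σ) ≫ j, fun i => ?_⟩
  rw [← Category.assoc, ← Spec.map_comp, ← hs i]
  rfl

end Power

end Groth.Agent.IsoNatLib
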