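import Groth.Agent.IsoNatLib.Transfer
import Groth.Agent.IsoNatLib.SchLift
import Groth.Agent.IsoNatLib.Kernel

/-!
# Smoothness and unramifiedness of charts from classes
-/

set_option autoImplicit false
set_option backward.isDefEq.respectTransparency false
set_option backward.isDefEq.respectTransparency.types false

universe u

open CategoryTheory CategoryTheory.Functor CategoryTheory.Limits AlgebraicGeometry Opposite AlgSp
  Groth.Agent.FibBase Groth.Agent.AlgSpLib IsLocalRing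

namespace Groth.Agent.IsoNatLib

instance isSH_of_isAlgClosed (k : Type u) [Field k] [IsAlgClosed k] : IsSH k := by
  have h : HenselianLocalRing k := inferInstance
  exact ⟨h, Hensel.isSepClosed_of_ringEquiv
    (RingEquiv.ofBijective (residue k) ⟨RingHom.injective _, residue_surjective⟩)⟩

theorem exists_section_of_isSH {A : Type u} [CommRing A] [IsLocalRing A] [hA : IsSH A] {X : Scheme.{u}}
    (f : X ⟶ Spec (.of A)) [Etale f] [Surjective f] : ∃ u, u ≫ f = 𝟙 _ := by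
  obtain ⟨x, hx⟩ := f.surjective (closedPoint A)
  obtain ⟨u, hu, -⟩ := (Hensel.strictlyHenselian_iff_exists_section A).1 ⟨hA.henselian, hA.sepClosed⟩ X f
    inferInstance x hx
  exact ⟨u, hu⟩

variable {S : Scheme.{u}} {𝒴 : AlgSt.Cat S} [FibCat.IsFibGrpd 𝒴.p] {U V : Over S}
  {v : FibCat.overCat V ⥤ᵇ 𝒴} {y : FibCat.overCat U ⥤ᵇ 𝒴} (R : TriRep v y)
  {A A₀ : Type u} [CommRing A] [CommRing A₀] [IsLocalRing A] [Nontrivial A₀] {π : A →+* A₀}
  {sT : Spec (CommRingCat.of A) ⟶ S} {sT₀ : Spec (CommRingCat.of A₀) ⟶ S} {ι : Over.mk sT₀ ⟶ Over.mk sT}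

/-- Lifting a point of an etale chart. -/
theorem TriRep.exists_chart_point (hπ : Function.Surjective π) (hsq : ∀ a b, π a = 0 → π b = 0 → a * b = 0)
    (hι : ι.left = specπ π) {C : Over S} {cC : (yon S).obj C ⟶ R.F.obj} (hC : RepWith @Etale cC)
    {tC : Tri v y C} (htC : R.pt tC = cC) (t : Tri v y (Over.mk sT)) (b : Over.mk sT₀ ⟶ C)
    (h : tC.res b = t.res ι) : ∃ s : Over.mk sT ⟶ C, ι ≫ s = b ∧ tC.res s = t := by
  let Z := hC.rep.pullback (R.pt t)
  let pZ : Z ⟶ Over.mk sT := hC.rep.snd (R.pt t)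
  have : Etale pZ.left := hC.property_snd _
  let σ : Over.mk sT₀ ⟶ Z := hC.rep.lift' b ι (by rw [← htC, ← R.pt_res, ← R.pt_res, h])
  have hσ : σ.left ≫ pZ.left = specπ π ≫ 𝟙 _ := by
    rw [← Over.comp_left, Functor.relativelyRepresentable.lift'_snd, hι, Category.comp_id]
  obtain ⟨s, hs₁, hs₂⟩ := exists_lift_of_smooth hπ hsq pZ.left (𝟙 _) σ.left hσ
  let s' : Over.mk sT ⟶ Z := Over.homMk s (by
    rw [← Over.w pZ]
    exact (Category.assoc _ _ _).symm.trans ((congrArg (· ≫ sT) hs₂).trans (Category.id_comp _)))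
  refine ⟨s' ≫ hC.rep.fst' (R.pt t), ?_, R.pt_inj ?_⟩
  · rw [show ι ≫ s' ≫ hC.rep.fst' (R.pt t) = σ ≫ hC.rep.fst' (R.pt t) by
      rw [← Category.assoc]; congr 1; exact Over.OverMorphism.ext (by rw [Over.comp_left, hι]; exact hs₁)]
    exact hC.rep.lift'_fst _ _ _
  · rw [R.pt_res, htC, Functor.map_comp, Category.assoc, Functor.relativelyRepresentable.map_fst',
      hC.rep.w, ← Category.assoc, ← Functor.map_comp,
      show s' ≫ hC.rep.snd (R.pt t) = 𝟙 _ from Over.OverMorphism.ext hs₂, CategoryTheory.Functor.map_id,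
      Category.id_comp]

/-- Uniqueness of the lift of a point of an etale chart. -/
theorem TriRep.chart_point_unique (hπ : Function.Surjective π) (hsq : ∀ a b, π a = 0 → π b = 0 → a * b = 0)
    (hι : ι.left = specπ π) {C : Over S} {cC : (yon S).obj C ⟶ R.F.obj} (hC : RepWith @Etale cC)
    {tC : Tri v y C} (htC : R.pt tC = cC) (s₁ s₂ : Over.mk sT ⟶ C) (h₀ : ι ≫ s₁ = ι ≫ s₂)
    (h : tC.res s₁ = tC.res s₂) : s₁ = s₂ := by
  let t := tC.res s₁
  have hw₁ : (yon S).map s₁ ≫ cC = (yon S).map (𝟙 _) ≫ R.pt t := by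
    rw [CategoryTheory.Functor.map_id, Category.id_comp, R.pt_res, htC]
  have hw₂ : (yon S).map s₂ ≫ cC = (yon S).map (𝟙 _) ≫ R.pt t := by
    rw [CategoryTheory.Functor.map_id, Category.id_comp, show t = tC.res s₂ from h, R.pt_res, htC]
  let σ₁ := hC.rep.lift' s₁ (𝟙 _) hw₁
  let σ₂ := hC.rep.lift' s₂ (𝟙 _) hw₂
  have : Etale (hC.rep.snd (R.pt t)).left := hC.property_snd _
  have e : ι ≫ σ₁ = ι ≫ σ₂ := hC.rep.hom_ext' (by simp [σ₁, σ₂, h₀]) (by simp [σ₁, σ₂])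
  have : σ₁.left = σ₂.left := lift_unique_of_unramified hπ hsq (hC.rep.snd (R.pt t)).left σ₁.left σ₂.left
    (by rw [← hι, ← Over.comp_left, ← Over.comp_left, e])
    (by rw [← Over.comp_left, ← Over.comp_left, Functor.relativelyRepresentable.lift'_snd,
      Functor.relativelyRepresentable.lift'_snd])
  rw [← hC.rep.lift'_fst s₁ (𝟙 _) hw₁, ← hC.rep.lift'_fst s₂ (𝟙 _) hw₂]
  exact congrArg (· ≫ _) (Over.OverMorphism.ext this)

/-- A point of an atlas through a point over a strictly henselian ring. -/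
theorem TriRep.exists_atlas_point [IsLocalRing A₀] [IsSH A₀] {C : Over S} {cC : (yon S).obj C ⟶ R.F.obj}
    (hC : RepWith @Etale cC) (hC' : RepWith @Surjective cC) {tC : Tri v y C} (htC : R.pt tC = cC)
    (t : Tri v y (Over.mk sT₀)) : ∃ b, tC.res b = t := by
  let pZ := hC.rep.snd (R.pt t)
  have : Etale pZ.left := hC.property_snd _
  have : Surjective pZ.left := hC'.property_snd _
  obtain ⟨u, hu⟩ := exists_section_of_isSH (A := A₀) pZ.left
  let u' : Over.mk sT₀ ⟶ hC.rep.pullback (R.pt t) := Over.homMk u (by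
    rw [← Over.w pZ]
    exact (Category.assoc _ _ _).symm.trans ((congrArg (· ≫ sT₀) hu).trans (Category.id_comp _)))
  refine ⟨u' ≫ hC.rep.fst' (R.pt t), R.pt_inj ?_⟩
  rw [R.pt_res, htC, Functor.map_comp, Category.assoc, Functor.relativelyRepresentable.map_fst',
    hC.rep.w, ← Category.assoc, ← Functor.map_comp,
    show u' ≫ hC.rep.snd (R.pt t) = 𝟙 _ from Over.OverMorphism.ext hu, CategoryTheory.Functor.map_id,
    Category.id_comp]

theorem TriRep.property_chart {P : MorphismProperty Scheme.{u}} (hP : LocP P R.a) {C : Over S}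
    {cC : (yon S).obj C ⟶ R.F.obj} (hC : RepWith @Etale cC) {tC : Tri v y C} (htC : R.pt tC = cC) :
    P tC.h.left :=
  hP cC (𝟙 _) tC.h hC (repWith_id _ V) (by rw [← htC, R.pt_a, Category.comp_id])

variable [IsLocalRing A₀] [IsSH A₀]

theorem TriRep.exists_lift (hR : LocP @Smooth R.a) (hπ : Function.Surjective π)
    (hsq : ∀ a b, π a = 0 → π b = 0 → a * b = 0) (hι : ι.left = specπ π) (hT : Over.mk sT ⟶ V)
    (t₀ : Tri v y (Over.mk sT₀)) (h : t₀.h = ι ≫ hT) : ∃ t : Tri v y (Over.mk sT), t.h = hT ∧ t.res ι = t₀ := by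
  obtain ⟨Q, cQ, hQ, hQ'⟩ := R.F.property.atlas
  obtain ⟨tQ, htQ⟩ := R.pt_surj cQ
  obtain ⟨b, hb⟩ := R.exists_atlas_point hQ hQ' htQ t₀
  have : Smooth tQ.h.left := R.property_chart hR hQ htQ
  obtain ⟨s, hs₁, hs₂⟩ := exists_lift_of_smooth hπ hsq tQ.h.left hT.left b.left (by
    rw [← hι, ← Over.comp_left, ← Over.comp_left, ← Tri.res_h, hb, h])
  let s' : Over.mk sT ⟶ Q := Over.homMk s (by
    show s ≫ Q.hom = sT
    rw [← Over.w tQ.h, ← Category.assoc, hs₂]; exact Over.w hT)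
  refine ⟨tQ.res s', Over.OverMorphism.ext hs₂, ?_⟩
  rw [Tri.res_res, show ι ≫ s' = b from Over.OverMorphism.ext (by rw [Over.comp_left, hι]; exact hs₁), hb]

theorem TriRep.unique (hR : LocP (@LocallyOfFiniteType ⊓ @FormallyUnramified) R.a) (hπ : Function.Surjective π)
    (hsq : ∀ a b, π a = 0 → π b = 0 → a * b = 0) (hι : ι.left = specπ π) {t₁ t₂ : Tri v y (Over.mk sT)}
    (hh : t₁.h = t₂.h) (h₀ : t₁.res ι = t₂.res ι) : t₁ = t₂ := by
  obtain ⟨Q, cQ, hQ, hQ'⟩ := R.F.property.atlas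
  obtain ⟨tQ, htQ⟩ := R.pt_surj cQ
  obtain ⟨b, hb⟩ := R.exists_atlas_point hQ hQ' htQ (t₁.res ι)
  obtain ⟨s₁, h₁, e₁⟩ := R.exists_chart_point hπ hsq hι hQ htQ t₁ b hb
  obtain ⟨s₂, h₂, e₂⟩ := R.exists_chart_point hπ hsq hι hQ htQ t₂ b (hb.trans h₀)
  have : FormallyUnramified tQ.h.left := (R.property_chart hR hQ htQ).2
  have := lift_unique_of_unramified hπ hsq tQ.h.left s₁.left s₂.left
    (by rw [← hι, ← Over.comp_left, ← Over.comp_left, h₁, h₂])
    (by rw [← Over.comp_left, ← Over.comp_left, ← Tri.res_h, ← Tri.res_h, e₁, e₂, hh])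
  rw [← e₁, ← e₂, show s₁ = s₂ from Over.OverMorphism.ext this]

omit [IsLocalRing A₀] [IsSH A₀]

variable {𝒳 : AlgSt.Cat S} [FibCat.IsFibGrpd 𝒳.p] {v' : FibCat.overCat V ⥤ᵇ 𝒳} {x : FibCat.overCat U ⥤ᵇ 𝒳}
  {ψ : ClsIso 𝒳 𝒴} (R' : TriRep v' x) (Rv : TriRep v v)

theorem smooth_of_corr (hv : Corr ψ v' v) (hx : Corr ψ x y) (hR' : LocP @Smooth R'.a) (hRv : LocP @Smooth Rv.a)
    {W : Over S} {cW : (yon S).obj W ⟶ R.F.obj} {w : W ⟶ V} (hc : RepWith @Etale cW)
    (hw : cW ≫ R.a = (yon S).map w) [LocallyOfFinitePresentation w.left] : Smooth w.left := by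
  obtain ⟨tW, htW⟩ := R.pt_surj cW
  have ew : tW.h = w := R.chart_w hw htW
  refine smooth_of_shLift w.left ?_
  intro A A₀ _ _ _ hSH π hπ hsq c b hcb
  have : HenselianLocalRing A₀ := hSH.henselian
  let ι : (Over.mk (specπ π ≫ c ≫ V.hom) : Over S) ⟶ Over.mk (c ≫ V.hom) := Over.homMk (specπ π) rfl
  let hT : Over.mk (c ≫ V.hom) ⟶ V := Over.homMk c rfl
  let bW : (Over.mk (specπ π ≫ c ≫ V.hom) : Over S) ⟶ W := Over.homMk b (by
    show b ≫ W.hom = specπ π ≫ c ≫ V.hom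
    rw [← Category.assoc, ← hcb, Category.assoc, Over.w w])
  have eb : bW ≫ w = ι ≫ hT := Over.OverMorphism.ext hcb
  let t₀ := tW.res bW
  have et₀ : t₀.h = ι ≫ hT := by rw [Tri.res_h, ew, eb]
  let I := AutAt v (Over.mk (ι ≫ hT))
  have hε : ∀ γ : I, ∃ ε : Tri v v (Over.mk (c ≫ V.hom)), ε.h = hT ∧ ε.res ι = Tri.ofAut γ := fun γ =>
    Rv.exists_lift hRv hπ hsq rfl hT (Tri.ofAut γ) rfl
  choose ε hεh hεr using hε
  have hεg : ∀ γ, ι ≫ (ε γ).g = ι ≫ hT := fun γ => congrArg Tri.g (hεr γ)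
  obtain ⟨H, hH⟩ := exists_glue hπ (fun γ : I => (ε γ).g.left) (ι ≫ hT).left
    (fun γ => congrArg CommaMorphism.left (hεg γ))
  have hloc : IsLocalRing (powRing π I) := isLocalRing_powRing hπ
  let κ : ∀ γ : I, Over.mk (c ≫ V.hom) ⟶ Over.mk (H ≫ V.hom) := fun γ =>
    Over.homMk (Spec.map (CommRingCat.ofHom (powEval π I γ))) (by
      show Spec.map _ ≫ H ≫ V.hom = _
      rw [← Category.assoc, hH γ, Over.w])
  have hκ : ∀ γ, ι ≫ κ γ = ι ≫ κ 1 := fun γ => Over.OverMorphism.ext (by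
    show specπ π ≫ Spec.map (CommRingCat.ofHom (powEval π I γ)) =
      specπ π ≫ Spec.map (CommRingCat.ofHom (powEval π I 1))
    rw [← Spec.map_comp, ← CommRingCat.ofHom_comp, pow_red γ 1, CommRingCat.ofHom_comp, Spec.map_comp])
  let H' : Over.mk (H ≫ V.hom) ⟶ V := Over.homMk H rfl
  have eκ : ∀ γ, κ γ ≫ H' = (ε γ).g := fun γ => Over.OverMorphism.ext (hH γ)
  obtain ⟨t₀', ht₀h, ht₀g⟩ := hv.exists_tri' hx t₀
  obtain ⟨t', ht'h, ht'r⟩ := R'.exists_lift hR' (π := π.comp (powEval π I 1)) (ι := ι ≫ κ 1)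
    (pow_red_surjective hπ 1) (pow_red_sq hsq 1)
    (by
      show specπ π ≫ Spec.map _ = _
      rw [← Spec.map_comp, ← CommRingCat.ofHom_comp])
    H' t₀' (by rw [ht₀h, et₀, Category.assoc, eκ, hεg])
  obtain ⟨Δ, hΔh, hΔg⟩ := hv.exists_tri hx t'
  obtain ⟨a, hah, hae, ha⟩ := (Δ.res (ι ≫ κ 1)).exists_comp t₀
    (by rw [Tri.res_h, hΔh, ht'h, et₀, Category.assoc, eκ, hεg])
    (by rw [Tri.res_g, hΔg, ← Tri.res_g t', ht'r, ht₀g])
  obtain ⟨γ, rfl⟩ : ∃ γ : I, a = Tri.ofAut γ := by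
    have e1 : a.h = ι ≫ hT := by rw [hah, Tri.res_h, hΔh, ht'h, Category.assoc, eκ, hεg]
    obtain ⟨ah, ag, δ⟩ := a
    dsimp only at e1
    subst e1
    obtain rfl : ag = ι ≫ hT := hae.trans hah.symm
    exact ⟨δ, rfl⟩
  have e : (ε γ).g = (Δ.res (κ γ)).h := by rw [Tri.res_h, hΔh, ht'h, eκ]
  let t := (ε γ).comp (Δ.res (κ γ)) e
  have htr : t.res ι = t₀ := by
    rw [Tri.res_comp]
    simp only [Tri.res_res, hεr, hκ]
    exact ha
  obtain ⟨s, hs₁, hs₂⟩ := R.exists_chart_point hπ hsq rfl hc htW t bW htr.symm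
  refine ⟨s.left, congrArg CommaMorphism.left hs₁, ?_⟩
  have := congrArg Tri.h hs₂
  rw [Tri.res_h, ew, Tri.comp_h, hεh] at this
  exact congrArg CommaMorphism.left this

lemma res_eq_one_of_left {𝒵 : AlgSt.Cat S} [FibCat.IsFibGrpd 𝒵.p] {W : Over S} {K : FibCat.overCat W ⥤ᵇ 𝒵}
    {P Q X : Over W} (f : P ⟶ X) (f' : Q ⟶ X) (e : Q.left ⟶ P.left) (he : e ≫ f.left = f'.left)
    {s : AutAt K X} (h : res f s = 1) : res f' s = 1 := by
  let e' : Q ⟶ P := Over.homMk e (by rw [← Over.w f, ← Category.assoc, he, Over.w f'])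
  rw [show f' = e' ≫ f from Over.OverMorphism.ext he.symm, ← res_res, h, map_one]

theorem formallyUnramified_of_corr (hv : Corr ψ v' v) (hx : Corr ψ x y)
    (hX : Stk.IsStack (J S) 𝒳) (hY : Stk.IsStack (J S) 𝒴)
    (hdX : AlgSt.RepByAlgSpWith IsSeparatedMor (FibCat.diag (FibCat.toSelf 𝒳)))
    (hdY : AlgSt.RepByAlgSpWith IsSeparatedMor (FibCat.diag (FibCat.toSelf 𝒴)))
    (hR' : LocP (@LocallyOfFiniteType ⊓ @FormallyUnramified) R'.a)
    {W : Over S} {cW : (yon S).obj W ⟶ R.F.obj} {w : W ⟶ V} (hc : RepWith @Etale cW)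
    (hw : cW ≫ R.a = (yon S).map w) [LocallyOfFiniteType w.left] : FormallyUnramified w.left := by
  obtain ⟨tW, htW⟩ := R.pt_surj cW
  have ew : tW.h = w := R.chart_w hw htW
  refine formallyUnramified_of_shUnique w.left ?_
  intro A A₀ _ _ _ _ π hπ hsq s₁ s₂ h₀ hs
  let c := s₁ ≫ w.left
  let ι : (Over.mk (specπ π ≫ c ≫ V.hom) : Over S) ⟶ Over.mk (c ≫ V.hom) := Over.homMk (specπ π) rfl
  let hT : Over.mk (c ≫ V.hom) ⟶ V := Over.homMk c rfl
  let p₁ : Over.mk (c ≫ V.hom) ⟶ W := Over.homMk s₁ (by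
    show s₁ ≫ W.hom = (s₁ ≫ w.left) ≫ V.hom
    rw [Category.assoc, Over.w w])
  let p₂ : Over.mk (c ≫ V.hom) ⟶ W := Over.homMk s₂ (by
    show s₂ ≫ W.hom = (s₁ ≫ w.left) ≫ V.hom
    rw [hs, Category.assoc, Over.w w])
  have ep : ι ≫ p₁ = ι ≫ p₂ := Over.OverMorphism.ext h₀
  suffices tW.res p₁ = tW.res p₂ from
    congrArg CommaMorphism.left (R.chart_point_unique hπ hsq (ι := ι) rfl hc htW p₁ p₂ ep this)
  have e₁h : (tW.res p₁).h = hT := by rw [Tri.res_h, ew]; exact Over.OverMorphism.ext rfl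
  have e₂h : (tW.res p₂).h = hT := by rw [Tri.res_h, ew]; exact Over.OverMorphism.ext hs.symm
  have hr : (tW.res p₁).res ι = (tW.res p₂).res ι := by rw [Tri.res_res, Tri.res_res, ep]
  -- the second points agree
  let I := ULift.{u} Bool
  let P : I → (Over.mk (c ≫ V.hom) ⟶ W) := fun i => bif i.down then p₁ else p₂
  obtain ⟨G, hG⟩ := exists_glue hπ (fun i : I => (P i).left) (ι ≫ p₁).left (fun i => by
    rcases i with ⟨_ | _⟩
    · exact h₀.symm
    · rfl)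
  have hloc : IsLocalRing (powRing π I) := isLocalRing_powRing hπ
  let κ : ∀ i : I, Over.mk (c ≫ V.hom) ⟶ Over.mk (G ≫ W.hom) := fun i =>
    Over.homMk (Spec.map (CommRingCat.ofHom (powEval π I i))) (by
      show Spec.map _ ≫ G ≫ W.hom = _
      rw [← Category.assoc, hG i, Over.w])
  let G' : Over.mk (G ≫ W.hom) ⟶ W := Over.homMk G rfl
  have eκ : ∀ i, κ i ≫ G' = P i := fun i => Over.OverMorphism.ext (hG i)
  have hκ : ι ≫ κ ⟨true⟩ = ι ≫ κ ⟨false⟩ := Over.OverMorphism.ext (by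
    show specπ π ≫ Spec.map (CommRingCat.ofHom (powEval π I ⟨true⟩)) =
      specπ π ≫ Spec.map (CommRingCat.ofHom (powEval π I ⟨false⟩))
    rw [← Spec.map_comp, ← CommRingCat.ofHom_comp, pow_red _ (⟨false⟩ : I), CommRingCat.ofHom_comp,
      Spec.map_comp])
  obtain ⟨t', ht'h, ht'g⟩ := hv.exists_tri' hx (tW.res G')
  have hu : t'.res (κ ⟨true⟩) = t'.res (κ ⟨false⟩) := R'.unique hR' hπ hsq (ι := ι) rfl
    (by
      rw [Tri.res_h, Tri.res_h, ht'h, ← Tri.res_h (tW.res G'), ← Tri.res_h (tW.res G'), Tri.res_res,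
        Tri.res_res, eκ, eκ]
      exact e₁h.trans e₂h.symm)
    (by rw [Tri.res_res, Tri.res_res, hκ])
  have eg : (tW.res p₁).g = (tW.res p₂).g := by
    have := congrArg Tri.g hu
    rw [Tri.res_g, Tri.res_g, ht'g, ← Tri.res_g (tW.res G'), ← Tri.res_g (tW.res G'), Tri.res_res,
      Tri.res_res, eκ, eκ] at this
    exact this
  obtain ⟨a, hah, hae, ha⟩ := (tW.res p₁).exists_comp (tW.res p₂) (e₁h.trans e₂h.symm) eg
  have ha0 : a.res ι = Tri.one (ι ≫ hT) := by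
    refine Tri.comp_left_cancel _ _ ((tW.res p₁).res ι) (congrArg (ι ≫ ·) hae)
      (by show ι ≫ hT = _; rw [Tri.res_h, e₁h]) (by rw [Tri.res_h, hah, e₁h]; rfl) ?_
    rw [← Tri.res_comp _ _ hae, ha, ← hr]
    have := Tri.one_comp ((tW.res p₁).res ι)
    have e₁h' : ι ≫ p₁ ≫ tW.h = ι ≫ hT := by rw [← Tri.res_h tW, e₁h]
    simp only [Tri.res_h, e₁h'] at this ⊢
    exact this.symm
  -- the kernel is trivial
  obtain ⟨t₁', h₁'h, -⟩ := hv.exists_tri' hx (tW.res p₁)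
  rw [e₁h] at h₁'h
  have hK : ∀ γ : AutAt (pushK hT v') (Over.mk (𝟙 _)), pushAut ι (pushK hT v') γ = 1 → γ = 1 := by
    intro γ hγ
    let b : Tri v' v' (Over.mk (c ≫ V.hom)) := Tri.ofAut (h := 𝟙 _ ≫ hT) γ
    have hb : b.g = t₁'.h := by rw [h₁'h]; exact Category.id_comp _
    have hb0 : b.res ι = Tri.one (ι ≫ 𝟙 _ ≫ hT) := by
      rw [Tri.res_ofAut]
      refine congrArg Tri.ofAut ?_
      rw [pushAut, res_pushK] at hγ
      exact res_eq_one_of_left _ _ (𝟙 _) (by simp [toId]) hγ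
    have key : b.comp t₁' hb = t₁' := R'.unique hR' hπ hsq (ι := ι) rfl (by
      rw [Tri.comp_h, h₁'h]; exact Category.id_comp _) (by
      rw [Tri.res_comp]
      simp only [hb0]
      have := Tri.one_comp (t₁'.res ι)
      simp only [Tri.res_h, h₁'h, Category.id_comp] at this ⊢
      exact this)
    have := Tri.comp_left_cancel b (Tri.one t₁'.h) t₁' hb rfl hb (key.trans (Tri.one_comp t₁').symm)
    rw [h₁'h] at this
    have e' : (Tri.one (v := v') hT) = Tri.one (𝟙 _ ≫ hT) := by rw [Category.id_comp]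
    rw [e'] at this
    injection this with _ _ h
  have hK' := kernel_trivial ι hX hY hdX hdY ψ (K := pushK hT v') (K' := pushK hT v) (by
    show ψ.eqv _ (triv v' (Over.mk (𝟙 _ ≫ hT))) = triv v (Over.mk (𝟙 _ ≫ hT))
    rw [show triv v' (Over.mk (𝟙 _ ≫ hT)) = _ from triv_mk v' (𝟙 _ ≫ hT), ψ.nat, hv]
    exact (triv_mk v _).symm) hK
  have hae' : a.g = a.h := hae.trans hah.symm
  have hah' : a.h = hT := hah.trans e₁h
  have a1 : a = Tri.one hT := by
    obtain ⟨ah, ag, δ⟩ := a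
    dsimp only at hae' hah'
    subst hae' hah'
    have hδ : res (ovHom ι hT) δ = 1 := by
      have := (Tri.res_ofAut δ ι).symm.trans ha0
      injection this
    have h1 := hK' (res (ovHom (𝟙 _) hT) δ) (by
      rw [pushAut, res_pushK]
      refine (res_res _ _ _).trans ?_
      exact res_eq_one_of_left _ _ (𝟙 _) (by simp [toId]) hδ)
    let e' : Over.mk hT ⟶ Over.mk (𝟙 _ ≫ hT) := Over.homMk (𝟙 _) (by simp)
    have h2 : res e' (res (ovHom (𝟙 _) hT) δ) = res e' (1 : AutAt v (Over.mk (𝟙 _ ≫ hT))) := congrArg _ h1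
    rw [res_res, map_one, show e' ≫ ovHom (𝟙 _) hT = 𝟙 _ from Over.OverMorphism.ext (Category.id_comp _),
      res_id] at h2
    exact congrArg (Tri.mk _ _) h2
  subst a1
  have := Tri.one_comp (tW.res p₁)
  simp only [e₁h] at this
  rw [← ha]
  exact this.symm

end Groth.Agent.IsoNatLib
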