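import Groth.Agent.IsoNatLib.Loop

/-!
# Doubled objects whose intersection has branches
-/

set_option autoImplicit false
set_option backward.isDefEq.respectTransparency false
set_option backward.isDefEq.respectTransparency.types false

universe v₂ u₂ v u

open CategoryTheory CategoryTheory.Functor CategoryTheory.Limits Groth.Agent.FibBase Groth.Agent.StkLib

namespace Groth.Agent.IsoNatLib

variable {C : Type u} [Category.{v} C] {J : GrothendieckTopology C} {T : C}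

/-- A doubled object receiving `n` copies of `L` that have the origin in common and whose intersections are disjoint. -/
structure Gadget (L : Dbl J T) (z : Over.mk (𝟙 T) ⟶ L.U) (n : ℕ) where
  /-- the doubled object -/
  D : Dbl J T
  /-- the branches -/
  β : Fin n → DblHom L D
  /-- the retractions to the branches -/
  ρ : Fin n → (D.U ⟶ L.U)
  /-- the common origin -/
  o : Over.mk (𝟙 T) ⟶ D.U
  zβ : ∀ a, z ≫ (β a).U = o
  ρβ : ∀ a, (β a).U ≫ ρ a = 𝟙 _
  ρβne : ∀ a b, a ≠ b → (β a).U ≫ ρ b = toId L.U ≫ z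
  cov : Sieve.ofArrows (fun _ => L.W.left) (fun a => (β a).W.left) ∈ J D.W.left
  monoW : ∀ a, Mono (β a).W.left
  disj : ∀ a b, a ≠ b → ∀ {V : C} (g g' : V ⟶ L.W.left),
    g ≫ (β a).W.left = g' ≫ (β b).W.left → (⊥ : Sieve V) ∈ J V

variable {L : Dbl J T} {z : Over.mk (𝟙 T) ⟶ L.U}

/-- A morphism of gadgets along a map of indices of branches. -/
structure GadgetHom {m n : ℕ} (E : Gadget L z m) (D : Gadget L z n) (e : Fin m → Fin n) where
  /-- the underlying morphism -/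
  hom : DblHom E.D D.D
  w : ∀ b, (E.β b).W ≫ hom.W = (D.β (e b)).W

variable {𝒳 : BasedCategory.{v₂, u₂} C} (hst : Stk.IsStack J 𝒳) [hf : FibCat.IsFibGrpd 𝒳.p]
  {K : FibCat.overCat T ⥤ᵇ 𝒳}

include hst

/-- Over an object covered by nothing, lifts of an arrow are unique. -/
lemma hom_eq_of_empty {V U : C} (h : (⊥ : Sieve V) ∈ J V) (f : V ⟶ U) {y x : 𝒳.obj} (φ φ' : y ⟶ x)
    [hφ : 𝒳.p.IsHomLift f φ] [hφ' : 𝒳.p.IsHomLift f φ'] : φ = φ' := by
  have : (Stk.resSieve (⊥ : Sieve V) 𝒳).IsEquivalence := hst.2 _ h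
  have := isSC (p := 𝒳.p) f φ'
  let m := IsCartesian.map 𝒳.p f φ' φ
  have hm : m ≫ φ' = φ := IsCartesian.fac 𝒳.p f φ' φ
  have hid : 𝒳.p.IsHomLift (𝟙 V) (𝟙 y) := IsHomLift.id (IsHomLift.domain_eq 𝒳.p f φ)
  have hmy : 𝒳.p.IsHomLift (𝟙 V) m := inferInstanceAs (𝒳.p.IsHomLift (𝟙 V) (IsCartesian.map 𝒳.p f φ' φ))
  have : m = 𝟙 y := hom_ext_of_prestackFor hst.1 (R := (⊥ : Sieve V)) inferInstance m (𝟙 y) hmy hid
    fun W g hg => hg.elim
  rw [this, Category.id_comp] at hm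
  exact hm.symm

/-- Automorphisms on the branches of the intersection glue. -/
theorem existsUnique_glueW {n : ℕ} (D : Gadget L z n) (t : Fin n → AutAt K L.W) :
    ∃! s : AutAt K D.D.W, ∀ a, res (D.β a).W s = t a := by
  have hR : (Stk.resSieve (Sieve.ofArrows (fun _ => L.W.left) fun a => (D.β a).W.left) 𝒳).IsEquivalence :=
    hst.2 _ D.cov
  have hmono := D.monoW
  let P : ∀ ⦃V : C⦄ (f : V ⟶ D.D.W.left) (y : 𝒳.obj) (ψ : y ⟶ K.obj D.D.W), (y ⟶ K.obj D.D.W) → Prop :=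
    fun V f y ψ χ => ∀ (a : Fin n) (g : V ⟶ L.W.left), g ≫ (D.β a).W.left = f →
      ∀ u : y ⟶ K.obj L.W, 𝒳.p.IsHomLift g u → u ≫ K.map (D.β a).W = ψ →
        χ = u ≫ (t a).hom.1 ≫ K.map (D.β a).W
  have lift : ∀ ⦃V : C⦄ (a : Fin n) (g : V ⟶ L.W.left) (y : 𝒳.obj) (ψ : y ⟶ K.obj D.D.W),
      𝒳.p.IsHomLift (g ≫ (D.β a).W.left) ψ →
        ∃ u : y ⟶ K.obj L.W, 𝒳.p.IsHomLift g u ∧ u ≫ K.map (D.β a).W = ψ := by
    intro V a g y ψ hψ
    have := overMap_isHomLift K (D.β a).W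
    have := isSC (p := 𝒳.p) (D.β a).W.left (K.map (D.β a).W)
    exact ⟨IsStronglyCartesian.map 𝒳.p (D.β a).W.left (K.map (D.β a).W) (g := g) rfl ψ,
      inferInstance, IsStronglyCartesian.fac _ _ _ _ _⟩
  have hlift : ∀ ⦃V : C⦄ (a : Fin n) (g : V ⟶ L.W.left) (y : 𝒳.obj) (u : y ⟶ K.obj L.W),
      𝒳.p.IsHomLift g u → 𝒳.p.IsHomLift (g ≫ (D.β a).W.left) (u ≫ (t a).hom.1 ≫ K.map (D.β a).W) := by
    intro V a g y u hu
    have := overMap_isHomLift K (D.β a).W
    have := (t a).hom.2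
    haveI : 𝒳.p.IsHomLift (D.β a).W.left ((t a).hom.1 ≫ K.map (D.β a).W) :=
      IsHomLift.comp_lift_id_left' 𝒳.p L.W.left _ (D.β a).W.left _
    exact IsHomLift.comp 𝒳.p g (D.β a).W.left _ _
  have exP : ∀ ⦃V : C⦄ (f : V ⟶ D.D.W.left),
      (Sieve.ofArrows (fun _ => L.W.left) fun a => (D.β a).W.left) f →
      ∀ (y : 𝒳.obj) (ψ : y ⟶ K.obj D.D.W), 𝒳.p.IsHomLift f ψ → ∃ χ, 𝒳.p.IsHomLift f χ ∧ P f y ψ χ := by
    intro V f hf y ψ hψ
    obtain ⟨_, g, _, ⟨a⟩, rfl⟩ := hf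
    obtain ⟨u, hu, hue⟩ := lift a g y ψ hψ
    refine ⟨u ≫ (t a).hom.1 ≫ K.map (D.β a).W, hlift a g y u hu, ?_⟩
    intro b g' hg' u' hu' hue'
    by_cases hab : a = b
    · subst hab
      obtain rfl : g' = g := (cancel_mono (D.β a).W.left).1 hg'
      have : u' = u := cancel_map (D.β a).W (g := g') (hue'.trans hue.symm)
      rw [this]
    · have he := D.disj a b hab g g' hg'.symm
      have h2 := hlift b g' y u' hu'
      rw [hg'] at h2
      have h1 := hlift a g y u hu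
      exact hom_eq_of_empty hst he (g ≫ (D.β a).W.left) _ _
  choose θ hθ hP using exP
  obtain ⟨φ, hφ, hφe⟩ := exists_hom_glue (𝒳 := 𝒳) hst.1 (U := D.D.W.left) (x := K.obj D.D.W)
    (x' := K.obj D.D.W) (R := Sieve.ofArrows (fun _ => L.W.left) fun a => (D.β a).W.left) inferInstance
    (K.w_obj D.D.W) (K.w_obj D.D.W) θ hθ (by
      intro V V' f f' hf hf' g hg y ψ hψ y' ψ' hψ' γ hγ hγe
      obtain ⟨_, g', _, ⟨a⟩, hg'⟩ := id hf'
      have hψ'2 : 𝒳.p.IsHomLift (g' ≫ (D.β a).W.left) ψ' := by rw [hg']; exact hψ'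
      obtain ⟨u', hu', hue'⟩ := lift a g' y' ψ' hψ'2
      rw [hP f' hf' y' ψ' hψ' a g' hg' u' hu' hue',
        hP f hf y ψ hψ a (g ≫ g') (by rw [Category.assoc, hg', hg]) (γ ≫ u') inferInstance
          (by rw [Category.assoc, hue', hγe]), Category.assoc])
  let s : AutAt K D.D.W := haveI := fiber_isIso (p := 𝒳.p) (⟨φ, hφ⟩ : fib K D.D.W ⟶ fib K D.D.W); asIso ⟨φ, hφ⟩
  refine ⟨s, fun a => ?_, fun s' hs' => ?_⟩
  · refine res_eq _ ?_
    have hl := overMap_isHomLift K (D.β a).W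
    have hmem : (Sieve.ofArrows (fun _ => L.W.left) fun a => (D.β a).W.left) (D.β a).W.left :=
      Sieve.ofArrows_mk _ _ a
    show (t a).hom.1 ≫ K.map (D.β a).W = K.map (D.β a).W ≫ φ
    rw [hφe _ hmem _ _ hl, hP _ hmem _ _ hl a (𝟙 _) (Category.id_comp _) (𝟙 (K.obj L.W))
      (IsHomLift.id (K.w_obj L.W)) (Category.id_comp _), Category.id_comp]
  · refine Iso.ext (Subtype.ext ?_)
    show s'.hom.1 = φ
    refine hom_ext_of_prestackFor hst.1 (R := Sieve.ofArrows (fun _ => L.W.left) fun a => (D.β a).W.left)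
      inferInstance s'.hom.1 φ s'.hom.2 hφ fun V f hf => ?_
    obtain ⟨_, g, _, ⟨a⟩, rfl⟩ := id hf
    obtain ⟨y, u, hu⟩ := exists_lift_of_eq hst.1 (K.w_obj L.W) g
    have := overMap_isHomLift K (D.β a).W
    have hψ : 𝒳.p.IsHomLift (g ≫ (D.β a).W.left) (u ≫ K.map (D.β a).W) :=
      IsHomLift.comp 𝒳.p g (D.β a).W.left u _
    refine ⟨y, u ≫ K.map (D.β a).W, hψ, ?_⟩
    rw [hφe _ hf _ _ hψ, hP _ hf _ _ hψ a g rfl u hu rfl, Category.assoc, ← res_spec, hs' a]

omit hst in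
lemma prod_ofFn_eq_single {G : Type*} [Monoid G] {n : ℕ} (f : Fin n → G) (a : Fin n)
    (h : ∀ b, b ≠ a → f b = 1) : (List.ofFn f).prod = f a := by
  induction n with
  | zero => exact a.elim0
  | succ n ih =>
    rw [List.ofFn_succ, List.prod_cons]
    cases a using Fin.cases with
    | zero =>
      rw [show (List.ofFn fun i : Fin n => f i.succ).prod = 1 from List.prod_eq_one fun x hx => by
        obtain ⟨i, rfl⟩ := List.mem_ofFn.1 hx
        exact h _ (Fin.succ_ne_zero i), mul_one]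
    | succ i =>
      rw [h 0 (Fin.succ_ne_zero i).symm, one_mul,
        ih (fun j => f j.succ) i fun j hj => h _ fun e => hj (Fin.succ_injective _ e)]

omit hst in
lemma res_endId {φ : Over.mk (𝟙 T) ⟶ Over.mk (𝟙 T)} (x : AutAt K (Over.mk (𝟙 T))) : res φ x = x := by
  rw [show φ = 𝟙 (Over.mk (𝟙 T)) from Over.OverMorphism.ext (by simpa using Over.w φ), res_id]

variable {n : ℕ} (D : Gadget L z n)

/-- The glued constant automorphism. -/
noncomputable def glueC (t : Fin n → AutAt K (Over.mk (𝟙 T))) : AutAt K D.D.W :=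
  (existsUnique_glueW hst D fun a => const L.W (t a)).choose

lemma res_glueC (t : Fin n → AutAt K (Over.mk (𝟙 T))) (a : Fin n) :
    res (D.β a).W (glueC hst D t) = const L.W (t a) :=
  (existsUnique_glueW hst D fun a => const L.W (t a)).choose_spec.1 a

lemma glueC_ext {s : AutAt K D.D.W} {t : Fin n → AutAt K (Over.mk (𝟙 T))}
    (h : ∀ a, res (D.β a).W s = const L.W (t a)) : s = glueC hst D t :=
  (existsUnique_glueW hst D _).unique h (res_glueC hst D t)

/-- The class of a loop. -/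
noncomputable def Φ (t : Fin n → AutAt K (Over.mk (𝟙 T))) : Cls 𝒳 D.D.Z.left :=
  gcl K (exists_gl hst D.D (glueC hst D t)).some

/-- The classes trivial on the pieces and the branches. -/
def IsLoop (K : FibCat.overCat T ⥤ᵇ 𝒳) (c : Cls 𝒳 D.D.Z.left) : Prop :=
  pull D.D.i₁.left c = triv K D.D.U ∧ pull D.D.i₂.left c = triv K D.D.U ∧
    ∀ a, pull (D.β a).Z.left c = triv K L.Z

omit hst in
lemma res_wj {E E' : Dbl J T} (m : DblHom E E') (g : AutAt K E'.U) :
    res m.W (res E'.j g) = res E.j (res m.U g) := by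
  rw [res_res, res_res, m.wj]

theorem isLoop_Φ (t : Fin n → AutAt K (Over.mk (𝟙 T))) : IsLoop D K (Φ hst D t) := by
  refine ⟨gcl_pull_i₁ _, gcl_pull_i₂ _, fun a => ?_⟩
  obtain ⟨G'⟩ := exists_gl hst L (res (D.β a).W (glueC hst D t))
  rw [Φ, gcl_pull hst (D.β a) _ G']
  refine (gcl_eq_iff hst G' (glOne L)).2 ⟨(const L.U (t a))⁻¹, 1, ?_⟩
  rw [_root_.map_inv, map_one, inv_one, mul_one, res_const, res_glueC, inv_mul_cancel]

theorem Φ_eq_iff (hinj : Function.Injective (res (K := K) L.j)) (t t' : Fin n → AutAt K (Over.mk (𝟙 T))) :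
    Φ hst D t = Φ hst D t' ↔ ∃ g h, ∀ a, t' a = g * t a * h⁻¹ := by
  rw [Φ, Φ, gcl_eq_iff hst]
  constructor
  · rintro ⟨g, h, he⟩
    refine ⟨res D.o g, res D.o h, fun a => ?_⟩
    have e := congrArg (res (D.β a).W) he
    rw [map_mul, map_mul, _root_.map_inv, res_glueC, res_glueC, res_wj, res_wj, ← res_const L.j, ← res_const L.j,
      ← _root_.map_inv, ← map_mul, ← map_mul] at e
    have e' := congrArg (res z) (hinj e)
    simp only [map_mul, _root_.map_inv, res_res, D.zβ, res_endId] at e'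
    exact e'
  · rintro ⟨g, h, he⟩
    refine ⟨const D.D.U g, const D.D.U h, (glueC_ext hst D fun a => ?_).symm⟩
    rw [map_mul, map_mul, _root_.map_inv, res_glueC, res_wj, res_wj, res_const, res_const, res_const, res_const,
      ← _root_.map_inv, ← map_mul, ← map_mul, he a]

theorem exists_Φ_eq (hinj : Function.Injective (res (K := K) L.j)) {c : Cls 𝒳 D.D.Z.left}
    (hc : IsLoop D K c) : ∃ t : Fin n → AutAt K (Over.mk (𝟙 T)), Φ hst D t = c := by
  obtain ⟨h₁, h₂, h₃⟩ := hc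
  obtain ⟨s, G, rfl⟩ := exists_of_pull c h₁ h₂
  have hu : ∀ a, ∃ u : AutAt K L.U, res (D.β a).W s = res L.j u := fun a => by
    obtain ⟨G'⟩ := exists_gl hst L (res (D.β a).W s)
    obtain ⟨g, h, e⟩ := (gcl_eq_iff hst G' (glOne L)).1 ((gcl_pull hst (D.β a) G G').symm.trans (h₃ a))
    refine ⟨g⁻¹ * h, ?_⟩
    rw [map_mul, _root_.map_inv, eq_inv_mul_iff_mul_eq]
    have := mul_inv_eq_one.1 e.symm
    exact this
  choose u hu using hu
  have hid : ∀ x : AutAt K (Over.mk (𝟙 T)), res z (const L.U x) = x := fun x => by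
    rw [res_const]
    show res (toId _) x = x
    rw [show toId (Over.mk (𝟙 T)) = 𝟙 (Over.mk (𝟙 T)) from Over.OverMorphism.ext rfl, res_id]
  let v : Fin n → AutAt K L.U := fun a => u a * (const L.U (res z (u a)))⁻¹
  have hv : ∀ a, res z (v a) = 1 := fun a => by
    simp only [v, map_mul, _root_.map_inv, hid, mul_inv_cancel]
  let g : AutAt K D.D.U := (List.ofFn fun b => res (D.ρ b) (v b)⁻¹).prod
  have hg : ∀ a, res (D.β a).U g = (v a)⁻¹ := fun a => by
    simp only [g, map_list_prod, List.map_ofFn]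
    rw [prod_ofFn_eq_single _ a fun b hb => by
      simp only [Function.comp]
      rw [res_res, D.ρβne a b hb.symm, ← res_res, _root_.map_inv, hv, inv_one, map_one]]
    simp only [Function.comp]
    rw [res_res, D.ρβ, res_id]
  refine ⟨fun a => res z (u a), ?_⟩
  rw [Φ]
  refine ((gcl_eq_iff hst G (exists_gl hst D.D (glueC hst D fun a => res z (u a))).some).2
    ⟨g, 1, ?_⟩).symm
  rw [map_one, inv_one, mul_one]
  refine (glueC_ext hst D fun a => ?_).symm
  rw [map_mul, res_wj, hg, hu, ← res_const L.j, ← map_mul]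
  simp only [v, mul_inv_rev, inv_inv]
  rw [inv_mul_cancel_right]

theorem pull_Φ {m : ℕ} {E : Gadget L z m} {e : Fin m → Fin n} (f : GadgetHom E D e)
    (t : Fin n → AutAt K (Over.mk (𝟙 T))) : pull f.hom.Z.left (Φ hst D t) = Φ hst E (t ∘ e) := by
  have hres : res f.hom.W (glueC hst D t) = glueC hst E (t ∘ e) :=
    glueC_ext hst E fun b => by rw [res_res, f.w, res_glueC]; rfl
  obtain ⟨G'⟩ := exists_gl hst E.D (res f.hom.W (glueC hst D t))
  rw [Φ, gcl_pull hst f.hom _ G', Φ]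
  exact (gcl_eq_iff hst G' (exists_gl hst E.D (glueC hst E (t ∘ e))).some).2 ⟨1, 1, by
    rw [map_one, hres, inv_one, one_mul, mul_one]⟩

end Groth.Agent.IsoNatLib
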