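import Groth.Agent.StkLib.Sieves
import Mathlib.CategoryTheory.Limits.Shapes.Pullback.IsPullback.Basic

/-!
# Gluing objects of a stack along a covering by two monomorphisms
-/

set_option autoImplicit false
set_option backward.isDefEq.respectTransparency false
set_option backward.isDefEq.respectTransparency.types false

universe v₂ u₂ v u

open CategoryTheory CategoryTheory.Functor CategoryTheory.Limits Groth.Agent.FibBase Groth.Agent.StkLib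

namespace Groth.Agent.IsoNatLib

variable {C : Type u} [Category.{v} C]

/-- A covering of `Z` by two monomorphisms, with their intersection. -/
structure TwoCover (Z U₁ U₂ W : C) where
  /-- the first map -/
  i₁ : U₁ ⟶ Z
  /-- the second map -/
  i₂ : U₂ ⟶ Z
  /-- the inclusion of the intersection in the first -/
  j₁ : W ⟶ U₁
  /-- the inclusion of the intersection in the second -/
  j₂ : W ⟶ U₂
  mono₁ : Mono i₁
  mono₂ : Mono i₂
  sq : IsPullback j₁ j₂ i₁ i₂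

variable {Z U₁ U₂ W : C} (D : TwoCover Z U₁ U₂ W)

/-- The sieve of a two element covering. -/
def TwoCover.sieve : Sieve Z where
  arrows _ f := (∃ g, g ≫ D.i₁ = f) ∨ ∃ g, g ≫ D.i₂ = f
  downward_closed := by
    rintro V V' f (⟨g, rfl⟩ | ⟨g, rfl⟩) h
    · exact Or.inl ⟨h ≫ g, Category.assoc _ _ _⟩
    · exact Or.inr ⟨h ≫ g, Category.assoc _ _ _⟩

variable {𝒳 : BasedCategory.{v₂, u₂} C}

/-- Objects over the pieces with an identification on the intersection. -/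
structure Datum where
  /-- over the first piece -/
  x₁ : 𝒳.obj
  /-- over the second piece -/
  x₂ : 𝒳.obj
  /-- over the intersection -/
  w : 𝒳.obj
  /-- the first restriction -/
  a₁ : w ⟶ x₁
  /-- the second restriction -/
  a₂ : w ⟶ x₂
  lift₁ : 𝒳.p.IsHomLift D.j₁ a₁
  lift₂ : 𝒳.p.IsHomLift D.j₂ a₂

variable {D} (d : Datum D (𝒳 := 𝒳))

/-- A restriction of the datum along an arrow to `Z`. -/
structure Cand {V : C} (f : V ⟶ Z) where
  /-- the object -/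
  y : 𝒳.obj
  /-- the map to the first piece -/
  m₁ : ∀ g : V ⟶ U₁, g ≫ D.i₁ = f → (y ⟶ d.x₁)
  /-- the map to the second piece -/
  m₂ : ∀ g : V ⟶ U₂, g ≫ D.i₂ = f → (y ⟶ d.x₂)
  proj : 𝒳.p.obj y = V
  hm₁ : ∀ g hg, 𝒳.p.IsHomLift g (m₁ g hg)
  hm₂ : ∀ g hg, 𝒳.p.IsHomLift g (m₂ g hg)
  glue : ∀ (k : V ⟶ W) (e₁ : (k ≫ D.j₁) ≫ D.i₁ = f) (e₂ : (k ≫ D.j₂) ≫ D.i₂ = f),
    ∃ n : y ⟶ d.w, 𝒳.p.IsHomLift k n ∧ n ≫ d.a₁ = m₁ _ e₁ ∧ n ≫ d.a₂ = m₂ _ e₂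

lemma exists_cand (h : FibCat.IsFibGrpd 𝒳.p) {V : C} {f : V ⟶ Z} (hf : D.sieve f) :
    Nonempty (Cand d f) := by
  have := D.mono₁
  have := D.mono₂
  have := d.lift₁
  have := d.lift₂
  have hx₁ : 𝒳.p.obj d.x₁ = U₁ := IsHomLift.codomain_eq 𝒳.p D.j₁ d.a₁
  have hx₂ : 𝒳.p.obj d.x₂ = U₂ := IsHomLift.codomain_eq 𝒳.p D.j₂ d.a₂
  have hw : 𝒳.p.obj d.w = W := IsHomLift.domain_eq 𝒳.p D.j₁ d.a₁
  by_cases hb : (∃ g, g ≫ D.i₁ = f) ∧ ∃ g, g ≫ D.i₂ = f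
  · obtain ⟨⟨g₁, hg₁⟩, g₂, hg₂⟩ := hb
    let k := D.sq.lift g₁ g₂ (hg₁.trans hg₂.symm)
    have hk₁ : k ≫ D.j₁ = g₁ := D.sq.lift_fst _ _ _
    have hk₂ : k ≫ D.j₂ = g₂ := D.sq.lift_snd _ _ _
    obtain ⟨y, n, hn⟩ := exists_lift_of_eq h hw k
    refine ⟨{ y := y, m₁ := fun _ _ => n ≫ d.a₁, m₂ := fun _ _ => n ≫ d.a₂,
              proj := IsHomLift.domain_eq 𝒳.p k n, hm₁ := fun g hg => ?_, hm₂ := fun g hg => ?_,
              glue := fun k' e₁ e₂ => ?_ }⟩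
    · obtain rfl : g = g₁ := (cancel_mono D.i₁).1 (hg.trans hg₁.symm)
      rw [← hk₁]; infer_instance
    · obtain rfl : g = g₂ := (cancel_mono D.i₂).1 (hg.trans hg₂.symm)
      rw [← hk₂]; infer_instance
    · obtain rfl : k' = k := D.sq.hom_ext
        (((cancel_mono D.i₁).1 (e₁.trans hg₁.symm)).trans hk₁.symm)
        (((cancel_mono D.i₂).1 (e₂.trans hg₂.symm)).trans hk₂.symm)
      exact ⟨n, hn, rfl, rfl⟩
  · rcases hf with ⟨g₀, hg₀⟩ | ⟨g₀, hg₀⟩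
    · obtain ⟨y, n, hn⟩ := exists_lift_of_eq h hx₁ g₀
      refine ⟨{ y := y, m₁ := fun _ _ => n, m₂ := fun g hg => absurd ⟨⟨g₀, hg₀⟩, g, hg⟩ hb,
                proj := IsHomLift.domain_eq 𝒳.p g₀ n, hm₁ := fun g hg => ?_,
                hm₂ := fun g hg => absurd ⟨⟨g₀, hg₀⟩, g, hg⟩ hb,
                glue := fun k e₁ e₂ => absurd ⟨⟨g₀, hg₀⟩, _, e₂⟩ hb }⟩
      obtain rfl : g = g₀ := (cancel_mono D.i₁).1 (hg.trans hg₀.symm)
      exact hn
    · obtain ⟨y, n, hn⟩ := exists_lift_of_eq h hx₂ g₀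
      refine ⟨{ y := y, m₂ := fun _ _ => n, m₁ := fun g hg => absurd ⟨⟨g, hg⟩, g₀, hg₀⟩ hb,
                proj := IsHomLift.domain_eq 𝒳.p g₀ n, hm₂ := fun g hg => ?_,
                hm₁ := fun g hg => absurd ⟨⟨g, hg⟩, g₀, hg₀⟩ hb,
                glue := fun k e₁ e₂ => absurd ⟨⟨_, e₁⟩, g₀, hg₀⟩ hb }⟩
      obtain rfl : g = g₀ := (cancel_mono D.i₂).1 (hg.trans hg₀.symm)
      exact hn

variable {d}

/-- A morphism of restrictions. -/
def IsComp {V V' : C} {f : V ⟶ Z} {f' : V' ⟶ Z} (φ : V ⟶ V') (e : φ ≫ f' = f) (c : Cand d f) (c' : Cand d f')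
    (χ : c.y ⟶ c'.y) : Prop :=
  𝒳.p.IsHomLift φ χ ∧ (∀ g hg, χ ≫ c'.m₁ g hg = c.m₁ (φ ≫ g) (by rw [Category.assoc, hg, e])) ∧
    ∀ g hg, χ ≫ c'.m₂ g hg = c.m₂ (φ ≫ g) (by rw [Category.assoc, hg, e])

lemma existsUnique_comp (h : FibCat.IsFibGrpd 𝒳.p) {V V' : C} {f : V ⟶ Z} {f' : V' ⟶ Z} (hf' : D.sieve f')
    (φ : V ⟶ V') (e : φ ≫ f' = f) (c : Cand d f) (c' : Cand d f') : ∃! χ, IsComp φ e c c' χ := by
  have := D.mono₁
  have := D.mono₂
  have := d.lift₁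
  have := d.lift₂
  have := isSC (hp := h) D.j₁ d.a₁
  have := isSC (hp := h) D.j₂ d.a₂
  rcases hf' with ⟨g₀, hg₀⟩ | ⟨g₀, hg₀⟩
  · have hl := c'.hm₁ g₀ hg₀
    have := isSC (hp := h) g₀ (c'.m₁ g₀ hg₀)
    have := c.hm₁ (φ ≫ g₀) (by rw [Category.assoc, hg₀, e])
    let χ := IsStronglyCartesian.map 𝒳.p g₀ (c'.m₁ g₀ hg₀) (g := φ) (f' := φ ≫ g₀) rfl (c.m₁ (φ ≫ g₀) _)
    have hχ : χ ≫ c'.m₁ g₀ hg₀ = c.m₁ (φ ≫ g₀) (by rw [Category.assoc, hg₀, e]) := IsStronglyCartesian.fac _ _ _ _ _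
    refine ⟨χ, ⟨inferInstance, fun g hg => ?_, fun g hg => ?_⟩, fun χ' hχ' => ?_⟩
    · obtain rfl : g = g₀ := (cancel_mono D.i₁).1 (hg.trans hg₀.symm)
      exact hχ
    · let k := D.sq.lift g₀ g (hg₀.trans hg.symm)
      have hk₁ : k ≫ D.j₁ = g₀ := D.sq.lift_fst _ _ _
      have hk₂ : k ≫ D.j₂ = g := D.sq.lift_snd _ _ _
      obtain ⟨n', hn', p₁, p₂⟩ := c'.glue k (by rw [hk₁, hg₀]) (by rw [hk₂, hg])
      obtain ⟨n, hn, q₁, q₂⟩ := c.glue (φ ≫ k) (by simp [hk₁, hg₀, e]) (by simp [hk₂, hg, e])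
      have hc : χ ≫ n' = n := by
        refine IsStronglyCartesian.ext 𝒳.p D.j₁ d.a₁ (φ ≫ k) ?_
        rw [Category.assoc, p₁, q₁]
        simp only [Category.assoc, hk₁]
        exact hχ
      have : χ ≫ n' ≫ d.a₂ = n ≫ d.a₂ := by rw [← Category.assoc, hc]
      rw [p₂, q₂] at this
      simpa only [Category.assoc, hk₂] using this
    · obtain ⟨hl', h', -⟩ := hχ'
      exact IsStronglyCartesian.map_uniq 𝒳.p g₀ (c'.m₁ g₀ hg₀) rfl _ χ' (h' g₀ hg₀)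
  · have hl := c'.hm₂ g₀ hg₀
    have := isSC (hp := h) g₀ (c'.m₂ g₀ hg₀)
    have := c.hm₂ (φ ≫ g₀) (by rw [Category.assoc, hg₀, e])
    let χ := IsStronglyCartesian.map 𝒳.p g₀ (c'.m₂ g₀ hg₀) (g := φ) (f' := φ ≫ g₀) rfl (c.m₂ (φ ≫ g₀) _)
    have hχ : χ ≫ c'.m₂ g₀ hg₀ = c.m₂ (φ ≫ g₀) (by rw [Category.assoc, hg₀, e]) := IsStronglyCartesian.fac _ _ _ _ _
    refine ⟨χ, ⟨inferInstance, fun g hg => ?_, fun g hg => ?_⟩, fun χ' hχ' => ?_⟩
    · let k := D.sq.lift g g₀ (hg.trans hg₀.symm)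
      have hk₁ : k ≫ D.j₁ = g := D.sq.lift_fst _ _ _
      have hk₂ : k ≫ D.j₂ = g₀ := D.sq.lift_snd _ _ _
      obtain ⟨n', hn', p₁, p₂⟩ := c'.glue k (by rw [hk₁, hg]) (by rw [hk₂, hg₀])
      obtain ⟨n, hn, q₁, q₂⟩ := c.glue (φ ≫ k) (by simp [hk₁, hg, e]) (by simp [hk₂, hg₀, e])
      have hc : χ ≫ n' = n := by
        refine IsStronglyCartesian.ext 𝒳.p D.j₂ d.a₂ (φ ≫ k) ?_
        rw [Category.assoc, p₂, q₂]
        simp only [Category.assoc, hk₂]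
        exact hχ
      have : χ ≫ n' ≫ d.a₁ = n ≫ d.a₁ := by rw [← Category.assoc, hc]
      rw [p₁, q₁] at this
      simpa only [Category.assoc, hk₁] using this
    · obtain rfl : g = g₀ := (cancel_mono D.i₂).1 (hg.trans hg₀.symm)
      exact hχ
    · obtain ⟨hl', -, h'⟩ := hχ'
      exact IsStronglyCartesian.map_uniq 𝒳.p g₀ (c'.m₂ g₀ hg₀) rfl _ χ' (h' g₀ hg₀)

lemma isComp_id {V : C} {f : V ⟶ Z} (c : Cand d f) : IsComp (𝟙 V) (Category.id_comp f) c c (𝟙 c.y) :=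
  ⟨IsHomLift.id c.proj, fun g hg => by simp, fun g hg => by simp⟩

lemma isComp_comp {V V' V'' : C} {f : V ⟶ Z} {f' : V' ⟶ Z} {f'' : V'' ⟶ Z} {φ : V ⟶ V'} {φ' : V' ⟶ V''}
    {e : φ ≫ f' = f} {e' : φ' ≫ f'' = f'} {c : Cand d f} {c' : Cand d f'} {c'' : Cand d f''}
    {χ : c.y ⟶ c'.y} {χ' : c'.y ⟶ c''.y} (hχ : IsComp φ e c c' χ) (hχ' : IsComp φ' e' c' c'' χ') :
    IsComp (φ ≫ φ') (by rw [Category.assoc, e', e]) c c'' (χ ≫ χ') := by
  obtain ⟨l, p₁, p₂⟩ := hχ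
  obtain ⟨l', q₁, q₂⟩ := hχ'
  refine ⟨inferInstance, fun g hg => ?_, fun g hg => ?_⟩
  · rw [Category.assoc, q₁, p₁]; simp only [Category.assoc]
  · rw [Category.assoc, q₂, p₂]; simp only [Category.assoc]

section Functor

variable (h : FibCat.IsFibGrpd 𝒳.p) (c : ∀ a : (Stk.sieveCat D.sieve).obj, Cand d a.obj.hom)

/-- The unique morphism of restrictions. -/
noncomputable def candHom {a b : (Stk.sieveCat D.sieve).obj} (φ : a ⟶ b) : (c a).y ⟶ (c b).y :=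
  (existsUnique_comp h b.property φ.hom.left (Over.w φ.hom) (c a) (c b)).choose

lemma candHom_spec {a b : (Stk.sieveCat D.sieve).obj} (φ : a ⟶ b) :
    IsComp φ.hom.left (Over.w φ.hom) (c a) (c b) (candHom h c φ) :=
  (existsUnique_comp h b.property φ.hom.left (Over.w φ.hom) (c a) (c b)).choose_spec.1

lemma candHom_eq {a b : (Stk.sieveCat D.sieve).obj} (φ : a ⟶ b) {χ : (c a).y ⟶ (c b).y}
    (hχ : IsComp φ.hom.left (Over.w φ.hom) (c a) (c b) χ) : candHom h c φ = χ :=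
  (existsUnique_comp h b.property φ.hom.left (Over.w φ.hom) (c a) (c b)).unique (candHom_spec h c φ) hχ

/-- A functor out of the sieve from a choice of restrictions. -/
noncomputable def candFunctor : Stk.sieveCat D.sieve ⥤ᵇ 𝒳 where
  toFunctor :=
    { obj := fun a => (c a).y
      map := candHom h c
      map_id := fun a => candHom_eq h c _ (isComp_id _)
      map_comp := fun φ φ' => candHom_eq h c _ (isComp_comp (candHom_spec h c φ) (candHom_spec h c φ')) }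
  w := CategoryTheory.Functor.ext (fun a => (c a).proj) fun a b φ => by
    have := (candHom_spec h c φ).1
    exact IsHomLift.fac' 𝒳.p φ.hom.left (candHom h c φ)

end Functor

/-- An object over `Z` restricting to the datum. -/
structure Glued (d : Datum D (𝒳 := 𝒳)) where
  /-- the object -/
  z : 𝒳.obj
  /-- the first restriction -/
  b₁ : d.x₁ ⟶ z
  /-- the second restriction -/
  b₂ : d.x₂ ⟶ z
  lift₁ : 𝒳.p.IsHomLift D.i₁ b₁
  lift₂ : 𝒳.p.IsHomLift D.i₂ b₂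
  comm : d.a₁ ≫ b₁ = d.a₂ ≫ b₂

lemma Glued.proj (G : Glued d) : 𝒳.p.obj G.z = Z := haveI := G.lift₁; IsHomLift.codomain_eq 𝒳.p D.i₁ G.b₁

theorem exists_glued {J : GrothendieckTopology C} (hst : Stk.IsStack J 𝒳) (hR : D.sieve ∈ J Z)
    (d : Datum D (𝒳 := 𝒳)) : Nonempty (Glued d) := by
  have h := hst.1
  have := D.mono₁
  have := D.mono₂
  have := d.lift₁
  have := d.lift₂
  let cc : ∀ a : (Stk.sieveCat D.sieve).obj, Cand d a.obj.hom := fun a => (exists_cand d h a.property).some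
  let H := candFunctor h cc
  have : (Stk.resSieve D.sieve 𝒳).IsEquivalence := hst.2 _ hR
  let G := (Stk.resSieve D.sieve 𝒳).objPreimage H
  let ε := (Stk.resSieve D.sieve 𝒳).objObjPreimageIso H
  let lam : ∀ a : (Stk.sieveCat D.sieve).obj, (cc a).y ⟶ G.obj (Over.mk (𝟙 Z)) := fun a =>
    ε.inv.toNatTrans.app a ≫ G.map (toId a.obj)
  have hlam : ∀ {a b : (Stk.sieveCat D.sieve).obj} (φ : a ⟶ b), candHom h cc φ ≫ lam b = lam a := by
    intro a b φ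
    have n1 : candHom h cc φ ≫ ε.inv.toNatTrans.app b = ε.inv.toNatTrans.app a ≫ G.map φ.hom :=
      ε.inv.toNatTrans.naturality φ
    show candHom h cc φ ≫ ε.inv.toNatTrans.app b ≫ G.map (toId b.obj) = ε.inv.toNatTrans.app a ≫ G.map (toId a.obj)
    rw [← Category.assoc, n1, Category.assoc, ← G.toFunctor.map_comp]
    congr 2
    exact Over.OverMorphism.ext (Over.w φ.hom)
  have hlaml : ∀ a : (Stk.sieveCat D.sieve).obj, 𝒳.p.IsHomLift a.obj.hom (lam a) := fun a => by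
    have : 𝒳.p.IsHomLift a.obj.hom (G.map (toId a.obj)) := overMap_isHomLift G (toId a.obj)
    have h2 : 𝒳.p.IsHomLift (𝟙 a.obj.left) (ε.inv.toNatTrans.app a) := BasedNatTrans.isHomLift ε.inv rfl
    exact IsHomLift.comp_lift_id_left' 𝒳.p a.obj.left (ε.inv.toNatTrans.app a) a.obj.hom (G.map (toId a.obj))
  let A₁ : (Stk.sieveCat D.sieve).obj := sob D.i₁ (Or.inl ⟨𝟙 _, Category.id_comp _⟩)
  let A₂ : (Stk.sieveCat D.sieve).obj := sob D.i₂ (Or.inr ⟨𝟙 _, Category.id_comp _⟩)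
  let t₁ := (cc A₁).m₁ (𝟙 U₁) (Category.id_comp _)
  let t₂ := (cc A₂).m₂ (𝟙 U₂) (Category.id_comp _)
  have ht₁ : 𝒳.p.IsHomLift (𝟙 U₁) t₁ := (cc A₁).hm₁ _ _
  have ht₂ : 𝒳.p.IsHomLift (𝟙 U₂) t₂ := (cc A₂).hm₂ _ _
  have : IsIso t₁ := isIso_of_lift (hp := h) (𝟙 U₁) t₁
  have : IsIso t₂ := isIso_of_lift (hp := h) (𝟙 U₂) t₂
  have hi₁ := IsHomLift.lift_id_inv_isIso 𝒳.p U₁ t₁
  have hi₂ := IsHomLift.lift_id_inv_isIso 𝒳.p U₂ t₂
  have l₁ : 𝒳.p.IsHomLift D.i₁ (lam A₁) := hlaml A₁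
  have l₂ : 𝒳.p.IsHomLift D.i₂ (lam A₂) := hlaml A₂
  refine ⟨{ z := G.obj (Over.mk (𝟙 Z)), b₁ := inv t₁ ≫ lam A₁, b₂ := inv t₂ ≫ lam A₂,
            lift₁ := IsHomLift.comp_lift_id_left' 𝒳.p U₁ (inv t₁) D.i₁ (lam A₁),
            lift₂ := IsHomLift.comp_lift_id_left' 𝒳.p U₂ (inv t₂) D.i₂ (lam A₂), comm := ?_ }⟩
  let A : (Stk.sieveCat D.sieve).obj := sob (D.j₁ ≫ D.i₁) (Or.inl ⟨D.j₁, rfl⟩)
  let φ₁ : A ⟶ A₁ := ObjectProperty.homMk (Over.homMk D.j₁ rfl)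
  let φ₂ : A ⟶ A₂ := ObjectProperty.homMk (Over.homMk D.j₂ D.sq.w.symm)
  obtain ⟨n, hn, p₁, p₂⟩ := (cc A).glue (𝟙 W) (congrArg (· ≫ D.i₁) (Category.id_comp D.j₁))
    ((congrArg (· ≫ D.i₂) (Category.id_comp D.j₂)).trans D.sq.w.symm)
  have : IsIso n := isIso_of_lift (hp := h) (𝟙 W) n
  have q₁ : ∀ g (hg : g ≫ D.i₁ = A.obj.hom), g = D.j₁ → (cc A).m₁ g hg ≫ inv t₁ = candHom h cc φ₁ := by
    rintro g hg rfl
    rw [IsIso.comp_inv_eq]
    refine Eq.trans ?_ ((candHom_spec h cc φ₁).2.1 (𝟙 U₁) (Category.id_comp _)).symm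
    congr 1
    exact (Category.comp_id _).symm
  have q₂ : ∀ g (hg : g ≫ D.i₂ = A.obj.hom), g = D.j₂ → (cc A).m₂ g hg ≫ inv t₂ = candHom h cc φ₂ := by
    rintro g hg rfl
    rw [IsIso.comp_inv_eq]
    refine Eq.trans ?_ ((candHom_spec h cc φ₂).2.2 (𝟙 U₂) (Category.id_comp _)).symm
    congr 1
    exact (Category.comp_id _).symm
  rw [← cancel_epi n]
  simp only [← Category.assoc, p₁, p₂]
  refine (congrArg (· ≫ lam A₁) (q₁ (𝟙 W ≫ D.j₁) _ (Category.id_comp _))).trans (Eq.trans ?_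
    (congrArg (· ≫ lam A₂) (q₂ (𝟙 W ≫ D.j₂) _ (Category.id_comp _))).symm)
  exact (hlam φ₁).trans (hlam φ₂).symm

/-- Restrictions coming from a glued object. -/
lemma exists_cand_glued (h : FibCat.IsFibGrpd 𝒳.p) (G : Glued d) (K : FibCat.overCat Z ⥤ᵇ 𝒳)
    (e : K.obj (Over.mk (𝟙 Z)) ≅ G.z) (he : 𝒳.p.IsHomLift (𝟙 Z) e.hom) {V : C} (f : V ⟶ Z) :
    ∃ c : Cand d f, ∃ hc : c.y = K.obj (Over.mk f),
      (∀ g hg, c.m₁ g hg ≫ G.b₁ = eqToHom hc ≫ K.map (toId (Over.mk f)) ≫ e.hom) ∧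
      ∀ g hg, c.m₂ g hg ≫ G.b₂ = eqToHom hc ≫ K.map (toId (Over.mk f)) ≫ e.hom := by
  have := D.mono₁
  have := D.mono₂
  have := d.lift₁
  have := d.lift₂
  have := G.lift₁
  have := G.lift₂
  have hκ : 𝒳.p.IsHomLift f (K.map (toId (Over.mk f)) ≫ e.hom) :=
    haveI := toId_lift K f
    IsHomLift.comp_lift_id_right' 𝒳.p f _ Z e.hom
  let κ := K.map (toId (Over.mk f)) ≫ e.hom
  have := isSC (hp := h) D.i₁ G.b₁
  have := isSC (hp := h) D.i₂ G.b₂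
  have := isSC (hp := h) (D.j₁ ≫ D.i₁) (d.a₁ ≫ G.b₁)
  let m₁ := fun (g : V ⟶ U₁) (hg : g ≫ D.i₁ = f) =>
    IsStronglyCartesian.map 𝒳.p D.i₁ G.b₁ (g := g) (f' := f) hg.symm κ
  let m₂ := fun (g : V ⟶ U₂) (hg : g ≫ D.i₂ = f) =>
    IsStronglyCartesian.map 𝒳.p D.i₂ G.b₂ (g := g) (f' := f) hg.symm κ
  have f₁ : ∀ g hg, m₁ g hg ≫ G.b₁ = κ := fun g hg => IsStronglyCartesian.fac _ _ _ _ _
  have f₂ : ∀ g hg, m₂ g hg ≫ G.b₂ = κ := fun g hg => IsStronglyCartesian.fac _ _ _ _ _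
  refine ⟨{ y := K.obj (Over.mk f), m₁ := m₁, m₂ := m₂, proj := K.w_obj _,
            hm₁ := fun g hg => inferInstanceAs (𝒳.p.IsHomLift g (IsStronglyCartesian.map 𝒳.p D.i₁ G.b₁ hg.symm κ)),
            hm₂ := fun g hg => inferInstanceAs (𝒳.p.IsHomLift g (IsStronglyCartesian.map 𝒳.p D.i₂ G.b₂ hg.symm κ)),
            glue := fun k e₁ e₂ => ?_ }, rfl, fun g hg => ?_, fun g hg => ?_⟩
  · let n := IsStronglyCartesian.map 𝒳.p (D.j₁ ≫ D.i₁) (d.a₁ ≫ G.b₁) (g := k) (f' := f)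
      ((Category.assoc _ _ _).symm.trans e₁).symm κ
    have hn : n ≫ d.a₁ ≫ G.b₁ = κ := IsStronglyCartesian.fac _ _ _ _ _
    refine ⟨n, inferInstance, ?_, ?_⟩
    · exact IsStronglyCartesian.ext 𝒳.p D.i₁ G.b₁ (k ≫ D.j₁) (by rw [Category.assoc, hn, f₁ _ e₁])
    · exact IsStronglyCartesian.ext 𝒳.p D.i₂ G.b₂ (k ≫ D.j₂) (by rw [Category.assoc, ← G.comm, hn, f₂ _ e₂])
  · simp [f₁, κ]
  · simp [f₂, κ]

theorem exists_iso_glued {J : GrothendieckTopology C} (hst : Stk.IsStack J 𝒳) (hR : D.sieve ∈ J Z)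
    (G G' : Glued d) :
    ∃ e : G.z ≅ G'.z, 𝒳.p.IsHomLift (𝟙 Z) e.hom ∧ G.b₁ ≫ e.hom = G'.b₁ ∧ G.b₂ ≫ e.hom = G'.b₂ := by
  have h := hst.1
  have := D.mono₁
  have := D.mono₂
  obtain ⟨K, e, he⟩ := exists_ofObj h G.z G.proj
  obtain ⟨K', e', he'⟩ := exists_ofObj h G'.z G'.proj
  choose c hc hc₁ hc₂ using fun a : (Stk.sieveCat D.sieve).obj => exists_cand_glued h G K e he a.obj.hom
  choose c' hc' hc₁' hc₂' using fun a : (Stk.sieveCat D.sieve).obj => exists_cand_glued h G' K' e' he' a.obj.hom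
  choose χ hχ hχu using fun a : (Stk.sieveCat D.sieve).obj =>
    existsUnique_comp h a.property (𝟙 a.obj.left) (Category.id_comp a.obj.hom) (c a) (c' a)
  have hnat : ∀ {a b : (Stk.sieveCat D.sieve).obj} (φ : a ⟶ b),
      IsComp φ.hom.left (Over.w φ.hom) (c a) (c b) (eqToHom (hc a) ≫ K.map φ.hom ≫ eqToHom (hc b).symm) := by
    intro a b φ
    have hk : 𝒳.p.IsHomLift φ.hom.left (K.map φ.hom) := overMap_isHomLift K φ.hom
    haveI : 𝒳.p.IsHomLift φ.hom.left (eqToHom (hc a) ≫ K.map φ.hom ≫ eqToHom (hc b).symm) := by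
      simpa using hk
    have ew : φ.hom ≫ toId b.obj = toId a.obj := Over.OverMorphism.ext (Over.w φ.hom)
    refine ⟨inferInstance, fun g hg => ?_, fun g hg => ?_⟩
    · have := (c b).hm₁ g hg
      have := (c a).hm₁ (φ.hom.left ≫ g) (by rw [Category.assoc, hg]; exact Over.w φ.hom)
      have := G.lift₁
      have := isSC (hp := h) D.i₁ G.b₁
      refine IsStronglyCartesian.ext 𝒳.p D.i₁ G.b₁ (φ.hom.left ≫ g) ?_
      rw [Category.assoc, hc₁ b g hg, hc₁ a]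
      simp only [Category.assoc, eqToHom_trans_assoc, eqToHom_refl, Category.id_comp]
      rw [← K.toFunctor.map_comp_assoc]
      exact congrArg (fun t => eqToHom (hc a) ≫ K.map t ≫ e.hom) ew
    · have := (c b).hm₂ g hg
      have := (c a).hm₂ (φ.hom.left ≫ g) (by rw [Category.assoc, hg]; exact Over.w φ.hom)
      have := G.lift₂
      have := isSC (hp := h) D.i₂ G.b₂
      refine IsStronglyCartesian.ext 𝒳.p D.i₂ G.b₂ (φ.hom.left ≫ g) ?_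
      rw [Category.assoc, hc₂ b g hg, hc₂ a]
      simp only [Category.assoc, eqToHom_trans_assoc, eqToHom_refl, Category.id_comp]
      rw [← K.toFunctor.map_comp_assoc]
      exact congrArg (fun t => eqToHom (hc a) ≫ K.map t ≫ e.hom) ew
  have hnat' : ∀ {a b : (Stk.sieveCat D.sieve).obj} (φ : a ⟶ b),
      IsComp φ.hom.left (Over.w φ.hom) (c' a) (c' b) (eqToHom (hc' a) ≫ K'.map φ.hom ≫ eqToHom (hc' b).symm) := by
    intro a b φ
    have hk : 𝒳.p.IsHomLift φ.hom.left (K'.map φ.hom) := overMap_isHomLift K' φ.hom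
    haveI : 𝒳.p.IsHomLift φ.hom.left (eqToHom (hc' a) ≫ K'.map φ.hom ≫ eqToHom (hc' b).symm) := by
      simpa using hk
    have ew : φ.hom ≫ toId b.obj = toId a.obj := Over.OverMorphism.ext (Over.w φ.hom)
    refine ⟨inferInstance, fun g hg => ?_, fun g hg => ?_⟩
    · have := (c' b).hm₁ g hg
      have := (c' a).hm₁ (φ.hom.left ≫ g) (by rw [Category.assoc, hg]; exact Over.w φ.hom)
      have := G'.lift₁
      have := isSC (hp := h) D.i₁ G'.b₁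
      refine IsStronglyCartesian.ext 𝒳.p D.i₁ G'.b₁ (φ.hom.left ≫ g) ?_
      rw [Category.assoc, hc₁' b g hg, hc₁' a]
      simp only [Category.assoc, eqToHom_trans_assoc, eqToHom_refl, Category.id_comp]
      rw [← K'.toFunctor.map_comp_assoc]
      exact congrArg (fun t => eqToHom (hc' a) ≫ K'.map t ≫ e'.hom) ew
    · have := (c' b).hm₂ g hg
      have := (c' a).hm₂ (φ.hom.left ≫ g) (by rw [Category.assoc, hg]; exact Over.w φ.hom)
      have := G'.lift₂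
      have := isSC (hp := h) D.i₂ G'.b₂
      refine IsStronglyCartesian.ext 𝒳.p D.i₂ G'.b₂ (φ.hom.left ≫ g) ?_
      rw [Category.assoc, hc₂' b g hg, hc₂' a]
      simp only [Category.assoc, eqToHom_trans_assoc, eqToHom_refl, Category.id_comp]
      rw [← K'.toFunctor.map_comp_assoc]
      exact congrArg (fun t => eqToHom (hc' a) ≫ K'.map t ≫ e'.hom) ew
  let η : (Stk.resSieve D.sieve 𝒳).obj K ⟶ (Stk.resSieve D.sieve 𝒳).obj K' :=
    { toNatTrans :=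
        { app := fun a => eqToHom (hc a).symm ≫ χ a ≫ eqToHom (hc' a)
          naturality := fun {a b} φ => by
            have u1 := isComp_comp (hnat φ) (hχ b)
            have u2 := isComp_comp (hχ a) (hnat' φ)
            simp only [Category.comp_id] at u1
            simp only [Category.id_comp] at u2
            have key := (existsUnique_comp h b.property φ.hom.left (Over.w φ.hom) (c a) (c' b)).unique u1 u2
            show K.map φ.hom ≫ _ = _ ≫ K'.map φ.hom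
            have key' := congrArg (fun t => eqToHom (hc a).symm ≫ t ≫ eqToHom (hc' b)) key
            simpa using key' }
      isHomLift' := fun a => by
        have := (hχ a).1
        show 𝒳.p.IsHomLift (𝟙 a.obj.left) (eqToHom (hc a).symm ≫ χ a ≫ eqToHom (hc' a))
        simpa using this }
  have : (Stk.resSieve D.sieve 𝒳).IsEquivalence := hst.2 _ hR
  obtain ⟨α, hα⟩ := (Stk.resSieve D.sieve 𝒳).map_surjective η
  have := hom_isIso h α
  let t : G.z ≅ G'.z := e.symm ≪≫ isoApp (asIso α) (Over.mk (𝟙 Z)) ≪≫ e'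
  have := isoApp_lift (asIso α) (a := Over.mk (𝟙 Z)) (S := Z) rfl
  have := IsHomLift.lift_id_inv 𝒳.p Z e
  refine ⟨t, inferInstanceAs (𝒳.p.IsHomLift (𝟙 Z) (e.inv ≫ (isoApp (asIso α) (Over.mk (𝟙 Z))).hom ≫ e'.hom)), ?_, ?_⟩
  · let A : (Stk.sieveCat D.sieve).obj := sob D.i₁ (Or.inl ⟨𝟙 _, Category.id_comp _⟩)
    have hm := (c A).hm₁ (𝟙 U₁) (Category.id_comp _)
    have : IsIso ((c A).m₁ (𝟙 U₁) (Category.id_comp _)) := isIso_of_lift (hp := h) (𝟙 U₁) _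
    rw [← cancel_epi ((c A).m₁ (𝟙 U₁) (Category.id_comp _))]
    have hA : α.toNatTrans.app A.obj = eqToHom (hc A).symm ≫ χ A ≫ eqToHom (hc' A) :=
      congrArg (fun s => s.toNatTrans.app A) hα
    have hχ₁ := (hχ A).2.1 (𝟙 U₁) (Category.id_comp _)
    simp only [Category.id_comp] at hχ₁
    show _ ≫ G.b₁ ≫ e.inv ≫ α.toNatTrans.app (Over.mk (𝟙 Z)) ≫ e'.hom = _
    rw [reassoc_of% (hc₁ A (𝟙 U₁) (Category.id_comp _)), ← hχ₁, Category.assoc,
      hc₁' A (𝟙 U₁) (Category.id_comp _)]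
    simp only [Iso.hom_inv_id_assoc]
    erw [reassoc_of% (α.toNatTrans.naturality (toId (Over.mk D.i₁)))]
    erw [hA]
    simp
    rfl
  · let A : (Stk.sieveCat D.sieve).obj := sob D.i₂ (Or.inr ⟨𝟙 _, Category.id_comp _⟩)
    have hm := (c A).hm₂ (𝟙 U₂) (Category.id_comp _)
    have : IsIso ((c A).m₂ (𝟙 U₂) (Category.id_comp _)) := isIso_of_lift (hp := h) (𝟙 U₂) _
    rw [← cancel_epi ((c A).m₂ (𝟙 U₂) (Category.id_comp _))]
    have hA : α.toNatTrans.app A.obj = eqToHom (hc A).symm ≫ χ A ≫ eqToHom (hc' A) :=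
      congrArg (fun s => s.toNatTrans.app A) hα
    have hχ₂ := (hχ A).2.2 (𝟙 U₂) (Category.id_comp _)
    simp only [Category.id_comp] at hχ₂
    show _ ≫ G.b₂ ≫ e.inv ≫ α.toNatTrans.app (Over.mk (𝟙 Z)) ≫ e'.hom = _
    rw [reassoc_of% (hc₂ A (𝟙 U₂) (Category.id_comp _)), ← hχ₂, Category.assoc,
      hc₂' A (𝟙 U₂) (Category.id_comp _)]
    simp only [Iso.hom_inv_id_assoc]
    erw [reassoc_of% (α.toNatTrans.naturality (toId (Over.mk D.i₂)))]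
    erw [hA]
    simp
    rfl

/-- Morphisms out of a glued object agreeing on both pieces are equal. -/
theorem glued_hom_ext {J : GrothendieckTopology C} (hst : Stk.IsStack J 𝒳) (hR : D.sieve ∈ J Z)
    (G : Glued d) {z' : 𝒳.obj} (φ φ' : G.z ⟶ z') (hφ : 𝒳.p.IsHomLift (𝟙 Z) φ) (hφ' : 𝒳.p.IsHomLift (𝟙 Z) φ')
    (e₁ : G.b₁ ≫ φ = G.b₁ ≫ φ') (e₂ : G.b₂ ≫ φ = G.b₂ ≫ φ') : φ = φ' := by
  have : (Stk.resSieve D.sieve 𝒳).IsEquivalence := hst.2 _ hR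
  have := G.lift₁
  have := G.lift₂
  refine hom_ext_of_prestackFor hst.1 (R := D.sieve) inferInstance φ φ' hφ hφ' fun V f hf => ?_
  rcases hf with ⟨g, rfl⟩ | ⟨g, rfl⟩
  · obtain ⟨y, n, hn⟩ := exists_lift_of_eq hst.1 (IsHomLift.domain_eq 𝒳.p D.i₁ G.b₁) g
    exact ⟨y, n ≫ G.b₁, inferInstance, by rw [Category.assoc, Category.assoc, e₁]⟩
  · obtain ⟨y, n, hn⟩ := exists_lift_of_eq hst.1 (IsHomLift.domain_eq 𝒳.p D.i₂ G.b₂) g
    exact ⟨y, n ≫ G.b₂, inferInstance, by rw [Category.assoc, Category.assoc, e₂]⟩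

end Groth.Agent.IsoNatLib
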