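import Groth.Agent.StkLib.Sieves

/-!
# Gluing morphisms of a stack along a covering sieve
-/

set_option autoImplicit false
set_option backward.isDefEq.respectTransparency false
set_option backward.isDefEq.respectTransparency.types false

universe v₂ u₂ v u

open CategoryTheory CategoryTheory.Functor Groth.Agent.FibBase Groth.Agent.StkLib

namespace Groth.Agent.IsoNatLib

variable {C : Type u} [Category.{v} C] {𝒳 : BasedCategory.{v₂, u₂} C}

/-- Morphisms given compatibly on all lifts of the arrows of a sieve glue. -/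
lemma exists_hom_glue (h : FibCat.IsFibGrpd 𝒳.p) {U : C} {R : Sieve U} (hR : (Stk.resSieve R 𝒳).Full)
    {x x' : 𝒳.obj} (hx : 𝒳.p.obj x = U) (hx' : 𝒳.p.obj x' = U)
    (θ : ∀ ⦃V : C⦄ (f : V ⟶ U), R f → ∀ (y : 𝒳.obj) (ψ : y ⟶ x), 𝒳.p.IsHomLift f ψ → (y ⟶ x'))
    (hθ : ∀ ⦃V : C⦄ (f : V ⟶ U) (hf : R f) (y : 𝒳.obj) (ψ : y ⟶ x) (hψ : 𝒳.p.IsHomLift f ψ),
      𝒳.p.IsHomLift f (θ f hf y ψ hψ))
    (comp : ∀ ⦃V V' : C⦄ (f : V ⟶ U) (f' : V' ⟶ U) (hf : R f) (hf' : R f') (g : V ⟶ V') (_ : g ≫ f' = f)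
      (y : 𝒳.obj) (ψ : y ⟶ x) (hψ : 𝒳.p.IsHomLift f ψ) (y' : 𝒳.obj) (ψ' : y' ⟶ x) (hψ' : 𝒳.p.IsHomLift f' ψ')
      (γ : y ⟶ y') (_ : 𝒳.p.IsHomLift g γ) (_ : γ ≫ ψ' = ψ), γ ≫ θ f' hf' y' ψ' hψ' = θ f hf y ψ hψ) :
    ∃ φ : x ⟶ x', 𝒳.p.IsHomLift (𝟙 U) φ ∧
      ∀ ⦃V : C⦄ (f : V ⟶ U) (hf : R f) (y : 𝒳.obj) (ψ : y ⟶ x) (hψ : 𝒳.p.IsHomLift f ψ), ψ ≫ φ = θ f hf y ψ hψ := by
  obtain ⟨G, e, he⟩ := exists_ofObj h x hx
  obtain ⟨G', e', he'⟩ := exists_ofObj h x' hx'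
  have hinv := IsHomLift.lift_id_inv 𝒳.p U e
  have hinv' := IsHomLift.lift_id_inv 𝒳.p U e'
  have hψ : ∀ a : (Stk.sieveCat R).obj, 𝒳.p.IsHomLift a.obj.hom (G.map (toId a.obj) ≫ e.hom) := fun a =>
    haveI : 𝒳.p.IsHomLift a.obj.hom (G.map (toId a.obj)) := overMap_isHomLift G (toId a.obj)
    IsHomLift.comp_lift_id_right' 𝒳.p a.obj.hom _ U e.hom
  let τ : ∀ a : (Stk.sieveCat R).obj, G.obj a.obj ⟶ x' := fun a => θ a.obj.hom a.property _ _ (hψ a)
  have hτ : ∀ a, 𝒳.p.IsHomLift a.obj.hom (τ a ≫ e'.inv) := fun a =>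
    haveI : 𝒳.p.IsHomLift a.obj.hom (τ a) := hθ _ _ _ _ (hψ a)
    IsHomLift.comp_lift_id_right' 𝒳.p a.obj.hom (τ a) U e'.inv
  have hsc : ∀ a : (Stk.sieveCat R).obj, 𝒳.p.IsStronglyCartesian a.obj.hom (G'.map (toId a.obj)) := fun a =>
    haveI : 𝒳.p.IsHomLift a.obj.hom (G'.map (toId a.obj)) := overMap_isHomLift G' (toId a.obj)
    isSC (hp := h) a.obj.hom _
  let η : (Stk.resSieve R 𝒳).obj G ⟶ (Stk.resSieve R 𝒳).obj G' :=
    { toNatTrans :=
        { app := fun a => haveI := hsc a; haveI := hτ a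
            IsCartesian.map 𝒳.p a.obj.hom (G'.map (toId a.obj)) (τ a ≫ e'.inv)
          naturality := fun a b φ => by
            haveI := hsc a
            haveI := hτ a
            haveI := hsc b
            haveI := hτ b
            haveI : 𝒳.p.IsHomLift φ.hom.left (G.map φ.hom) := overMap_isHomLift G φ.hom
            haveI : 𝒳.p.IsHomLift φ.hom.left (G'.map φ.hom) := overMap_isHomLift G' φ.hom
            haveI : 𝒳.p.IsHomLift φ.hom.left (G.map φ.hom ≫ IsCartesian.map 𝒳.p b.obj.hom (G'.map (toId b.obj)) (τ b ≫ e'.inv)) :=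
              IsHomLift.comp_lift_id_right' 𝒳.p φ.hom.left _ b.obj.left _
            haveI : 𝒳.p.IsHomLift φ.hom.left (IsCartesian.map 𝒳.p a.obj.hom (G'.map (toId a.obj)) (τ a ≫ e'.inv) ≫ G'.map φ.hom) :=
              IsHomLift.comp_lift_id_left' 𝒳.p a.obj.left _ φ.hom.left _
            show G.map φ.hom ≫ _ = _ ≫ G'.map φ.hom
            refine IsStronglyCartesian.ext 𝒳.p b.obj.hom (G'.map (toId b.obj)) φ.hom.left ?_
            have ew : φ.hom ≫ toId b.obj = toId a.obj := Over.OverMorphism.ext (Over.w φ.hom)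
            rw [Category.assoc, Category.assoc, IsCartesian.fac, ← G'.toFunctor.map_comp, ew, IsCartesian.fac,
              ← Category.assoc]
            congr 1
            refine comp a.obj.hom b.obj.hom a.property b.property φ.hom.left (Over.w φ.hom) _ _ _ _ _ _ (G.map φ.hom) inferInstance ?_
            rw [← G.toFunctor.map_comp_assoc, ew] }
      isHomLift' := fun a => haveI := hsc a; haveI := hτ a
        (inferInstanceAs (𝒳.p.IsHomLift (𝟙 a.obj.left) (IsCartesian.map 𝒳.p a.obj.hom _ (τ a ≫ e'.inv)))) }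
  obtain ⟨α, hα⟩ := (Stk.resSieve R 𝒳).map_surjective η
  have hα0 : 𝒳.p.IsHomLift (𝟙 U) (α.toNatTrans.app (Over.mk (𝟙 U))) := BasedNatTrans.isHomLift α rfl
  refine ⟨e.inv ≫ α.toNatTrans.app (Over.mk (𝟙 U)) ≫ e'.hom,
    inferInstanceAs (𝒳.p.IsHomLift (𝟙 U) (e.inv ≫ α.toNatTrans.app (Over.mk (𝟙 U)) ≫ e'.hom)), ?_⟩
  intro V f hf y ψ hψ'
  let a : (Stk.sieveCat R).obj := sob f hf
  haveI hG : 𝒳.p.IsHomLift f (G.map (toId a.obj) ≫ e.hom) := hψ a
  haveI := isSC (hp := h) f (G.map (toId a.obj) ≫ e.hom)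
  let γ := IsCartesian.map 𝒳.p f (G.map (toId a.obj) ≫ e.hom) ψ
  have hγ : γ ≫ G.map (toId a.obj) ≫ e.hom = ψ := IsCartesian.fac _ _ _ _
  have key := comp f f hf hf (𝟙 V) (Category.id_comp f) y ψ hψ' _ _ (hψ a) γ inferInstance hγ
  rw [← key]
  conv_lhs => rw [← hγ]
  simp only [Category.assoc, Iso.hom_inv_id_assoc]
  congr 1
  haveI := hsc a
  haveI := hτ a
  have hA : α.toNatTrans.app a.obj = IsCartesian.map 𝒳.p a.obj.hom (G'.map (toId a.obj)) (τ a ≫ e'.inv) :=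
    congrArg (fun s => s.toNatTrans.app a) hα
  rw [← Category.assoc]
  erw [α.toNatTrans.naturality (toId a.obj), hA, IsCartesian.fac]
  simp only [Category.assoc, Iso.inv_hom_id, Category.comp_id]
  rfl

end Groth.Agent.IsoNatLib
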