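import Groth.Agent.IsoNatLib.Span
import Groth.Agent.IsoNatLib.Tri
import Groth.Agent.AlgStLib.LocEss
import Groth.Agent.AlgStLib.Stack

/-!
# Stacks with atlases having the same isomorphisms are equivalent
-/

set_option autoImplicit false
set_option backward.isDefEq.respectTransparency false
set_option backward.isDefEq.respectTransparency.types false

universe v₃ u₃ v₂ u₂ v u

open CategoryTheory CategoryTheory.Functor Groth.Agent.FibBase Groth.Agent.StkLib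

namespace Groth.Agent.IsoNatLib

variable {C : Type u} [Category.{v} C] {𝒳 : BasedCategory.{v₂, u₂} C} {𝒴 : BasedCategory.{v₃, u₃} C} {U : C}

/-- A natural bijection of the isomorphisms between values of two charts. -/
structure IsoMap (x : FibCat.overCat U ⥤ᵇ 𝒳) (y : FibCat.overCat U ⥤ᵇ 𝒴) where
  /-- the bijection -/
  f : ∀ {T : C} (h g : T ⟶ U), @Iso (𝒳.p.Fiber T) _ (fib x (Over.mk h)) (fib x (Over.mk g)) ≃
    @Iso (𝒴.p.Fiber T) _ (fib y (Over.mk h)) (fib y (Over.mk g))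
  res : ∀ {T T' : C} {h g : T ⟶ U} {h' g' : T' ⟶ U} (p : Over.mk h' ⟶ Over.mk h) (q : Over.mk g' ⟶ Over.mk g),
    p.left = q.left → ∀ (δ : @Iso (𝒳.p.Fiber T) _ (fib x (Over.mk h)) (fib x (Over.mk g)))
      (δ' : @Iso (𝒳.p.Fiber T') _ (fib x (Over.mk h')) (fib x (Over.mk g'))),
      δ'.hom.1 ≫ x.map q = x.map p ≫ δ.hom.1 → (f h' g' δ').hom.1 ≫ y.map q = y.map p ≫ (f h g δ).hom.1
  comp : ∀ {T : C} (h g k : T ⟶ U) (δ : @Iso (𝒳.p.Fiber T) _ (fib x (Over.mk h)) (fib x (Over.mk g)))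
    (ε : @Iso (𝒳.p.Fiber T) _ (fib x (Over.mk g)) (fib x (Over.mk k))), f h k (δ ≪≫ ε) = f h g δ ≪≫ f g k ε

variable {x : FibCat.overCat U ⥤ᵇ 𝒳} {y : FibCat.overCat U ⥤ᵇ 𝒴}

theorem IsoMap.refl (ρ : IsoMap x y) {T : C} (h : T ⟶ U) : ρ.f h h (Iso.refl _) = Iso.refl _ := by
  have h₁ := ρ.comp h h h (Iso.refl _) (Iso.refl _)
  rw [Iso.refl_trans] at h₁
  have h₂ := congrArg (fun t => t ≪≫ (ρ.f h h (Iso.refl _)).symm) h₁
  simpa using h₂.symm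

section Decomp

variable [hf : FibCat.IsFibGrpd 𝒳.p]

lemma map_decomp {T T' : C} {h k : T ⟶ U} {h' : T' ⟶ U}
    (δ : @Iso (𝒳.p.Fiber T) _ (fib x (Over.mk h)) (fib x (Over.mk k))) (q : Over.mk k ⟶ Over.mk h') :
    𝒳.p.map (δ.hom.1 ≫ x.map q) = eqToHom (x.w_obj (Over.mk h)) ≫ q.left ≫ eqToHom (x.w_obj (Over.mk h')).symm := by
  rw [Functor.map_comp, map_eq_of_isHomLift_id δ.hom.2, Groth.Agent.StkLib.w_map,
    show (FibCat.overCat U).p.map q = q.left from rfl]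
  simp

theorem exists_decomp {T T' : C} {h : T ⟶ U} {h' : T' ⟶ U} (m : x.obj (Over.mk h) ⟶ x.obj (Over.mk h')) :
    ∃ (k : T ⟶ U) (δ : @Iso (𝒳.p.Fiber T) _ (fib x (Over.mk h)) (fib x (Over.mk k))) (q : Over.mk k ⟶ Over.mk h'),
      δ.hom.1 ≫ x.map q = m := by
  let g : T ⟶ T' := eqToHom (x.w_obj (Over.mk h)).symm ≫ 𝒳.p.map m ≫ eqToHom (x.w_obj (Over.mk h'))
  have h₁ : 𝒳.p.IsHomLift g m := IsHomLift.of_fac' _ g m (x.w_obj _) (x.w_obj _) (by simp [g])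
  have h₂ : 𝒳.p.IsHomLift g (x.map (ovHom g h')) := overMap_isHomLift x (ovHom g h')
  obtain ⟨e, he, hee⟩ := exists_iso_of_lifts (p := 𝒳.p) g (x.map (ovHom g h')) m
  exact ⟨g ≫ h', fiberIsoMk (a := fib x (Over.mk h)) (b := fib x (Over.mk (g ≫ h'))) e he, ovHom g h', hee⟩

theorem decomp_unique {T T' : C} {h : T ⟶ U} {h' : T' ⟶ U} {k k' : T ⟶ U}
    (δ : @Iso (𝒳.p.Fiber T) _ (fib x (Over.mk h)) (fib x (Over.mk k)))
    (δ' : @Iso (𝒳.p.Fiber T) _ (fib x (Over.mk h)) (fib x (Over.mk k')))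
    (q : Over.mk k ⟶ Over.mk h') (q' : Over.mk k' ⟶ Over.mk h') (e : δ.hom.1 ≫ x.map q = δ'.hom.1 ≫ x.map q') :
    ∃ hk : k = k', HEq δ δ' ∧ HEq q q' := by
  have hb := congrArg 𝒳.p.map e
  rw [map_decomp, map_decomp, cancel_epi, cancel_mono] at hb
  obtain rfl : k = k' := by rw [← show q.left ≫ h' = k from Over.w q, hb]; exact Over.w q'
  obtain rfl : q = q' := Over.OverMorphism.ext hb
  refine ⟨rfl, heq_of_eq (Iso.ext (Subtype.ext ?_)), HEq.rfl⟩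
  have := δ.hom.2
  have := δ'.hom.2
  exact cancel_map (K := x) q (g := 𝟙 T) e

end Decomp

variable (x)

/-- An object of the chart. -/
structure PreObj (x : FibCat.overCat U ⥤ᵇ 𝒳) where
  /-- the base -/
  T : C
  /-- the point -/
  h : T ⟶ U

/-- The object of a chart as an object of the stack. -/
abbrev preVal (c : PreObj x) : 𝒳.obj := x.obj (Over.mk c.h)

/-- The full image of a chart. -/
abbrev fullImg : BasedCategory C :=
  BasedCategory.ofFunctor (inducedFunctor (preVal x) ⋙ 𝒳.p)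

/-- The inclusion of the full image. -/
abbrev fullImgIncl : fullImg x ⥤ᵇ 𝒳 where
  toFunctor := inducedFunctor (preVal x)
  w := rfl

theorem hasLifts_fullImg : HasLifts (fullImg x) := by
  intro d V g
  let g' : V ⟶ d.T := g ≫ eqToHom (x.w_obj (Over.mk d.h))
  refine ⟨⟨V, g' ≫ d.h⟩, InducedCategory.homMk (x.map (ovHom g' d.h)), ?_⟩
  refine IsHomLift.of_fac' _ g _ (x.w_obj (Over.mk (g' ≫ d.h))) rfl ?_
  show 𝒳.p.map (x.map (ovHom g' d.h)) = _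
  rw [Groth.Agent.StkLib.w_map, show (FibCat.overCat U).p.map (ovHom g' d.h) = g' from rfl]
  simp [g']

variable {x}

section

variable [hX : FibCat.IsFibGrpd 𝒳.p] (ρ : IsoMap x y)

theorem exists_ext {T T' : C} {h : T ⟶ U} {h' : T' ⟶ U} (m : x.obj (Over.mk h) ⟶ x.obj (Over.mk h')) :
    ∃ n : y.obj (Over.mk h) ⟶ y.obj (Over.mk h'), ∀ (k : T ⟶ U)
      (δ : @Iso (𝒳.p.Fiber T) _ (fib x (Over.mk h)) (fib x (Over.mk k))) (q : Over.mk k ⟶ Over.mk h'),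
      δ.hom.1 ≫ x.map q = m → n = (ρ.f h k δ).hom.1 ≫ y.map q := by
  obtain ⟨k, δ, q, e⟩ := exists_decomp m
  refine ⟨(ρ.f h k δ).hom.1 ≫ y.map q, fun k' δ' q' e' => ?_⟩
  obtain ⟨rfl, h₁, h₂⟩ := decomp_unique δ δ' q q' (e.trans e'.symm)
  obtain rfl := eq_of_heq h₁
  obtain rfl := eq_of_heq h₂
  rfl

/-- The extension of the bijection to all morphisms between values. -/
noncomputable def IsoMap.ext' {T T' : C} {h : T ⟶ U} {h' : T' ⟶ U} (m : x.obj (Over.mk h) ⟶ x.obj (Over.mk h')) :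
    y.obj (Over.mk h) ⟶ y.obj (Over.mk h') :=
  (exists_ext ρ m).choose

theorem IsoMap.ext'_eq {T T' : C} {h k : T ⟶ U} {h' : T' ⟶ U}
    (δ : @Iso (𝒳.p.Fiber T) _ (fib x (Over.mk h)) (fib x (Over.mk k))) (q : Over.mk k ⟶ Over.mk h') :
    ρ.ext' (δ.hom.1 ≫ x.map q) = (ρ.f h k δ).hom.1 ≫ y.map q :=
  (exists_ext ρ _).choose_spec k δ q rfl

variable [hY : FibCat.IsFibGrpd 𝒴.p]

theorem IsoMap.ext'_id {T : C} (h : T ⟶ U) : ρ.ext' (𝟙 (x.obj (Over.mk h))) = 𝟙 _ := by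
  have := ρ.ext'_eq (Iso.refl _) (𝟙 (Over.mk h))
  rw [ρ.refl] at this
  have h' : ρ.ext' (𝟙 (x.obj (Over.mk h)) ≫ x.map (𝟙 (Over.mk h))) =
      𝟙 (y.obj (Over.mk h)) ≫ y.map (𝟙 (Over.mk h)) := this
  simpa using h'

theorem IsoMap.ext'_comp {T T' T'' : C} {h : T ⟶ U} {h' : T' ⟶ U} {h'' : T'' ⟶ U}
    (m : x.obj (Over.mk h) ⟶ x.obj (Over.mk h')) (m' : x.obj (Over.mk h') ⟶ x.obj (Over.mk h'')) :
    ρ.ext' (m ≫ m') = ρ.ext' m ≫ ρ.ext' m' := by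
  obtain ⟨k, δ, q, rfl⟩ := exists_decomp m
  obtain ⟨k', ε, q', rfl⟩ := exists_decomp m'
  let q₂ : Over.mk (q.left ≫ k') ⟶ Over.mk k' := ovHom q.left k'
  have : 𝒳.p.IsHomLift q.left (x.map q) := overMap_isHomLift x q
  have : 𝒳.p.IsHomLift q.left (x.map q₂) := isHomLift_ovHom x q₂ (rfl : q₂.left = q.left)
  obtain ⟨ε', hε, -⟩ := existsUnique_resIso (a := fib x (Over.mk h')) (b := fib x (Over.mk k'))
    (a' := fib x (Over.mk k)) (b' := fib x (Over.mk (q.left ≫ k'))) q.left (x.map q) (x.map q₂) ε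
  have e : (δ.hom.1 ≫ x.map q) ≫ ε.hom.1 ≫ x.map q' = (δ ≪≫ ε').hom.1 ≫ x.map (q₂ ≫ q') := by
    rw [x.toFunctor.map_comp, Iso.trans_hom]
    show _ = (δ.hom.1 ≫ ε'.hom.1) ≫ x.map q₂ ≫ x.map q'
    simp only [Category.assoc]
    rw [reassoc_of% hε]
  rw [e, ρ.ext'_eq, ρ.ext'_eq, ρ.ext'_eq, ρ.comp, y.toFunctor.map_comp, Iso.trans_hom]
  show ((ρ.f h k δ).hom.1 ≫ (ρ.f k _ ε').hom.1) ≫ y.map q₂ ≫ y.map q' = _
  have h₂ : (ρ.f k (q.left ≫ k') ε').hom.1 ≫ y.map q₂ = y.map q ≫ (ρ.f h' k' ε).hom.1 :=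
    ρ.res q q₂ rfl ε ε' hε
  simp only [Category.assoc]
  rw [reassoc_of% h₂]

/-- The full image mapped to the other stack. -/
noncomputable def IsoMap.mapImg : fullImg x ⥤ᵇ 𝒴 where
  toFunctor :=
    { obj := fun c => y.obj (Over.mk c.h)
      map := fun m => ρ.ext' m.hom
      map_id := fun c => ρ.ext'_id c.h
      map_comp := fun m m' => ρ.ext'_comp m.hom m'.hom }
  w := by
    refine CategoryTheory.Functor.ext (fun c => (y.w_obj _).trans (x.w_obj _).symm) fun c c' m => ?_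
    show 𝒴.p.map (ρ.ext' m.hom) = _ ≫ 𝒳.p.map m.hom ≫ _
    obtain ⟨k, δ, q, e⟩ := exists_decomp m.hom
    rw [← e, ρ.ext'_eq, map_decomp, map_decomp]
    simp

theorem IsoMap.mapImg_faithful : ρ.mapImg.toFunctor.Faithful where
  map_injective {c c'} m m' e := by
    obtain ⟨k, δ, q, hm⟩ := exists_decomp m.hom
    obtain ⟨k', δ', q', hm'⟩ := exists_decomp m'.hom
    have e' : ρ.ext' m.hom = ρ.ext' m'.hom := e
    rw [← hm, ← hm', ρ.ext'_eq, ρ.ext'_eq] at e'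
    obtain ⟨rfl, h₁, h₂⟩ := decomp_unique (hf := hY) (ρ.f c.h k δ) (ρ.f c.h k' δ') q q' e'
    obtain rfl := (ρ.f c.h k).injective (eq_of_heq h₁)
    obtain rfl := eq_of_heq h₂
    exact InducedCategory.hom_ext (hm.symm.trans hm')

theorem IsoMap.mapImg_full : ρ.mapImg.toFunctor.Full where
  map_surjective {c c'} n := by
    obtain ⟨k, ε, q, rfl⟩ := exists_decomp (hf := hY) (x := y) n
    refine ⟨InducedCategory.homMk (((ρ.f c.h k).symm ε).hom.1 ≫ x.map q), ?_⟩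
    show ρ.ext' (((ρ.f c.h k).symm ε).hom.1 ≫ x.map q) = _
    rw [ρ.ext'_eq, Equiv.apply_symm_apply]

end

section Covers

open AlgebraicGeometry

universe w

variable {S : Scheme.{w}} {U : Over S} {𝒳 𝒴 : AlgSt.Cat S}

theorem exists_of_locEssSurj (h : FibCat.IsFibGrpd 𝒳.p) {x : FibCat.overCat U ⥤ᵇ 𝒳}
    (hx : Groth.Agent.AlgStLib.LocEssSurj x) (a : 𝒳.obj) :
    ∃ R ∈ QuotSh.J Scheme.fppfPrecoverage S (𝒳.p.obj a), ∀ ⦃V : Over S⦄ (f : V ⟶ 𝒳.p.obj a), R f →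
      ∃ (g : V ⟶ U) (φ : x.obj (Over.mk g) ⟶ a), 𝒳.p.IsHomLift f φ := by
  obtain ⟨G, e, he⟩ := exists_ofObj h a rfl
  obtain ⟨R, hR, hR'⟩ := hx (𝒳.p.obj a) G
  refine ⟨R, hR, fun V f hf => ?_⟩
  obtain ⟨z, ⟨iz⟩⟩ := hR' f hf
  have hl : 𝒳.p.IsHomLift (𝟙 V) (isoApp iz (Over.mk (𝟙 V))).hom := isoApp_lift iz rfl
  have hz : (z.obj (Over.mk (𝟙 V))).left = V := z.w_obj (Over.mk (𝟙 V))
  let k : (Over.mk (𝟙 V ≫ f) : Over (𝒳.p.obj a)) ⟶ Over.mk (𝟙 _) := toId _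
  have hk : 𝒳.p.IsHomLift f (G.map k) := by
    have := overMap_isHomLift G k
    simpa [k, toId] using this
  have : 𝒳.p.IsHomLift f (G.map k ≫ e.hom) := IsHomLift.comp_lift_id_right' 𝒳.p f (G.map k) (𝒳.p.obj a) e.hom
  have key : ∀ c : Over U, c.left = V → (m : x.obj c ⟶ a) → 𝒳.p.IsHomLift f m →
      ∃ (g : V ⟶ U) (φ : x.obj (Over.mk g) ⟶ a), 𝒳.p.IsHomLift f φ := by
    rintro ⟨cl, ⟨⟨⟩⟩, ch⟩ rfl m hm
    exact ⟨ch, m, hm⟩
  refine key _ (z.w_obj (Over.mk (𝟙 V))) ((isoApp iz (Over.mk (𝟙 V))).hom ≫ G.map k ≫ e.hom) ?_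
  exact IsHomLift.comp_lift_id_left' 𝒳.p V (isoApp iz (Over.mk (𝟙 V))).hom f (G.map k ≫ e.hom)

/-- Stacks with covering charts having the same isomorphisms are equivalent over the base. -/
theorem exists_equiv_of_isoMap_cover (hX : Stk.IsStack (QuotSh.J Scheme.fppfPrecoverage S) 𝒳)
    (hY : Stk.IsStack (QuotSh.J Scheme.fppfPrecoverage S) 𝒴) {x : FibCat.overCat U ⥤ᵇ 𝒳}
    {y : FibCat.overCat U ⥤ᵇ 𝒴}
    (hx : ∀ a : 𝒳.obj, ∃ R ∈ QuotSh.J Scheme.fppfPrecoverage S (𝒳.p.obj a),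
      ∀ ⦃V : Over S⦄ (f : V ⟶ 𝒳.p.obj a), R f → ∃ (g : V ⟶ U) (φ : x.obj (Over.mk g) ⟶ a), 𝒳.p.IsHomLift f φ)
    (hy : ∀ b : 𝒴.obj, ∃ R ∈ QuotSh.J Scheme.fppfPrecoverage S (𝒴.p.obj b),
      ∀ ⦃V : Over S⦄ (f : V ⟶ 𝒴.p.obj b), R f → ∃ (g : V ⟶ U) (φ : y.obj (Over.mk g) ⟶ b), 𝒴.p.IsHomLift f φ)
    (ρ : IsoMap x y) : ∃ e : 𝒳 ⥤ᵇ 𝒴, FibCat.IsEquivOver e := by
  have := hX.1
  have := hY.1
  have := ρ.mapImg_full
  have := ρ.mapImg_faithful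
  have : (fullImgIncl x).toFunctor.Full := InducedCategory.full _
  have : (fullImgIncl x).toFunctor.Faithful := InducedCategory.faithful _
  refine exists_equiv_of_span (i := fullImgIncl x) (j := ρ.mapImg) hX hY (hasLifts_fullImg x) (fun a => ?_)
    (fun b => ?_)
  · obtain ⟨R, hR, hR'⟩ := hx a
    exact ⟨R, hR, fun V f hf => let ⟨g, φ, hφ⟩ := hR' f hf; ⟨⟨V, g⟩, φ, hφ⟩⟩
  · obtain ⟨R, hR, hR'⟩ := hy b
    exact ⟨R, hR, fun V f hf => let ⟨g, φ, hφ⟩ := hR' f hf; ⟨⟨V, g⟩, φ, hφ⟩⟩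

/-- Stacks with atlases having the same isomorphisms are equivalent over the base. -/
theorem exists_equiv_of_isoMap (hX : Stk.IsStack (QuotSh.J Scheme.fppfPrecoverage S) 𝒳)
    (hY : Stk.IsStack (QuotSh.J Scheme.fppfPrecoverage S) 𝒴) {x : FibCat.overCat U ⥤ᵇ 𝒳}
    {y : FibCat.overCat U ⥤ᵇ 𝒴} (hx : Groth.Agent.AlgStLib.LocEssSurj x)
    (hy : Groth.Agent.AlgStLib.LocEssSurj y) (ρ : IsoMap x y) : ∃ e : 𝒳 ⥤ᵇ 𝒴, FibCat.IsEquivOver e :=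
  exists_equiv_of_isoMap_cover hX hY (exists_of_locEssSurj hX.1 hx) (exists_of_locEssSurj hY.1 hy) ρ

end Covers

end Groth.Agent.IsoNatLib
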