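import Groth.Agent.IsoNatLib.Geom
import Groth.Agent.IsoNatLib.DiagSep
import Mathlib.AlgebraicGeometry.Morphisms.ClosedImmersion
import Mathlib.AlgebraicGeometry.Morphisms.IsIso
import Mathlib.AlgebraicGeometry.Pullbacks
import Mathlib.RingTheory.TensorProduct.Maps

/-!
# The line without origin is schematically dense in the line
-/

set_option autoImplicit false
set_option backward.isDefEq.respectTransparency false
set_option backward.isDefEq.respectTransparency.types false

universe u

open CategoryTheory CategoryTheory.Limits AlgebraicGeometry AlgSp Polynomial TensorProduct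
open scoped LaurentPolynomial

namespace Groth.Agent.IsoNatLib

/-- A ring over the integers. -/
noncomputable def kkAlg (R : Type u) [CommRing R] : Algebra kk.{u} R :=
  ((Int.castRingHom R).comp ULift.ringEquiv.toRingHom).toAlgebra

attribute [-instance] ULift.smulLeft ULift.mulAction ULift.smulZeroClass ULift.distribSMul ULift.distribMulAction
  ULift.smulWithZero ULift.mulActionWithZero ULift.module

lemma injective_laurent_tensor (R : Type u) [CommRing R] [Algebra kk.{u} R]
    (g : (kk.{u})[X] →ₐ[kk.{u}] (kk.{u})[T;T⁻¹]) (hg : (g : (kk.{u})[X] →+* (kk.{u})[T;T⁻¹]) = toLaurent) :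
    Function.Injective (Algebra.TensorProduct.map (AlgHom.id kk.{u} R) g) := by
  have hl : ∀ p, g p = toLaurent p := fun p => RingHom.congr_fun hg p
  let t : (kk.{u})[T;T⁻¹] →ₗ[kk.{u}] (kk.{u})[X] :=
    { toFun := LaurentPolynomial.trunc
      map_add' := map_add _
      map_smul' := fun c x => by
        obtain ⟨m, rfl⟩ := (ULift.ringEquiv (R := ℤ)).symm.surjective c
        have h₁ : ((ULift.ringEquiv (R := ℤ)).symm m : kk.{u}) = (m : kk.{u}) :=
          (eq_intCast ((ULift.ringEquiv (R := ℤ)).symm.toRingHom) m)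
        rw [RingHom.id_apply, h₁, Int.cast_smul_eq_zsmul, Int.cast_smul_eq_zsmul, map_zsmul] }
  have : Function.LeftInverse (LinearMap.lTensor R t) (LinearMap.lTensor R g.toLinearMap) := fun z => by
    rw [← LinearMap.comp_apply, ← LinearMap.lTensor_comp,
      show t.comp g.toLinearMap = LinearMap.id from LinearMap.ext fun p => by
        show LaurentPolynomial.trunc (g p) = p
        rw [hl]
        exact LaurentPolynomial.leftInverse_trunc_toLaurent p,
      LinearMap.lTensor_id, LinearMap.id_apply]
  exact this.injective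

variable {S : Scheme.{u}} (T : Over S)

/-- The chart of a product over an affine piece. -/
noncomputable def prodChart {R : CommRingCat.{u}} [Algebra kk.{u} R] (g : Spec R ⟶ T.left) (A : Type u) [CommRing A]
    [Algebra kk.{u} A] : Spec (.of (↥R ⊗[kk.{u}] A)) ⟶ pullback (toPt T.left) (toPt (Spec (.of A))) :=
  (pullbackSpecIso kk.{u} R A).inv ≫
    pullback.map _ _ _ _ g (𝟙 _) (𝟙 _) (specULiftZIsTerminal.hom_ext _ _) (specULiftZIsTerminal.hom_ext _ _)

instance {R : CommRingCat.{u}} [Algebra kk.{u} R] (g : Spec R ⟶ T.left) [IsOpenImmersion g] (A : Type u) [CommRing A]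
    [Algebra kk.{u} A] : IsOpenImmersion (prodChart T g A) := by
  unfold prodChart; infer_instance

lemma range_prodChart {R : CommRingCat.{u}} [Algebra kk.{u} R] (g : Spec R ⟶ T.left) (A : Type u) [CommRing A]
    [Algebra kk.{u} A] (x : ↥(pullback (toPt T.left) (toPt (Spec (.of A))))) :
    x ∈ Set.range (prodChart T g A) ↔ pullback.fst (toPt T.left) (toPt (Spec (.of A))) x ∈ Set.range g := by
  have hsurj : Function.Surjective (pullbackSpecIso kk.{u} R A).inv :=
    (pullbackSpecIso kk.{u} R A).inv.homeomorph.surjective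
  rw [prodChart, Scheme.Hom.comp_base, TopCat.coe_comp, hsurj.range_comp, Scheme.Pullback.range_map]
  simp
  exact Iff.rfl

theorem isSchDense_prodL_gmToLine : IsSchDense (prodL T gmToLine.{u}) := by
  intro E i hi k hk
  let 𝒰 := T.left.affineCover
  let R : 𝒰.I₀ → CommRingCat.{u} := fun x => ((T.left.local_affine x).choose_spec).choose
  let alg : ∀ x, Algebra kk.{u} (R x) := fun x => kkAlg (R x)
  let ψ := fun x : 𝒰.I₀ => prodChart T (R := R x) (𝒰.f x) (kk.{u})[X]
  let 𝒱 : (pullback (toPt T.left) (toPt lineS.{u})).OpenCover :=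
    { I₀ := 𝒰.I₀
      X := _
      f := ψ
      mem₀ := by
        rw [Scheme.presieve₀_mem_precoverage_iff]
        refine ⟨fun z => ?_, fun x => inferInstanceAs (IsOpenImmersion (prodChart T (R := R x) (𝒰.f x) _))⟩
        obtain ⟨x, hx⟩ := 𝒰.exists_eq (pullback.fst (toPt T.left) (toPt lineS.{u}) z)
        exact ⟨x, (range_prodChart T (R := R x) (𝒰.f x) _ z).2 hx⟩ }
  rw [← MorphismProperty.isomorphisms.iff,
    IsZariskiLocalAtTarget.iff_of_openCover (P := MorphismProperty.isomorphisms Scheme) 𝒱]
  intro x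
  show IsIso (pullback.snd i (ψ x))
  let f := pullback.snd i (ψ x)
  have : IsClosedImmersion f := MorphismProperty.pullback_snd _ _ inferInstance
  obtain ⟨haff, hsurj⟩ := IsClosedImmersion.isAffine_surjective_of_isAffine f
  let gA : (kk.{u})[X] →ₐ[kk.{u}] (kk.{u})[T;T⁻¹] :=
    { (toLaurent : (kk.{u})[X] →+* (kk.{u})[T;T⁻¹]) with
      commutes' := fun r => RingHom.congr_fun
        (kk_ringHom_ext ((toLaurent).comp (algebraMap kk.{u} (kk.{u})[X])) (algebraMap kk.{u} (kk.{u})[T;T⁻¹])) r }
  let lT := Algebra.TensorProduct.map (AlgHom.id kk.{u} (R x)) gA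
  let φ : CommRingCat.of (↥(R x) ⊗[kk.{u}] (kk.{u})[X]) ⟶ CommRingCat.of (↥(R x) ⊗[kk.{u}] (kk.{u})[T;T⁻¹]) :=
    CommRingCat.ofHom lT.toRingHom
  have hsq : Spec.map φ ≫ ψ x =
      prodChart T (R := R x) (𝒰.f x) (kk.{u})[T;T⁻¹] ≫ prodL T gmToLine := by
    apply pullback.hom_ext
    · simp only [ψ, prodChart, Category.assoc, pullback.lift_fst, pullback.lift_fst_assoc, pullbackSpecIso_inv_fst_assoc]
      rw [← Category.assoc, ← Spec.map_comp, ← CommRingCat.ofHom_comp]
      congr 3
      ext r
      show lT (r ⊗ₜ 1) = r ⊗ₜ 1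
      simp [lT]
    · simp only [ψ, prodChart, Category.assoc, pullback.lift_snd, pullback.lift_snd_assoc, Category.comp_id,
        pullbackSpecIso_inv_snd_assoc, pullbackSpecIso_inv_snd]
      rw [← Spec.map_comp, ← Spec.map_comp, ← CommRingCat.ofHom_comp, ← CommRingCat.ofHom_comp]
      congr 2
  have hfac : pullback.lift (prodChart T (R := R x) (𝒰.f x) (kk.{u})[T;T⁻¹] ≫ k) (Spec.map φ)
      (by rw [Category.assoc, hk, hsq]) ≫ f = Spec.map φ := pullback.lift_snd _ _ _
  have hinj : Function.Injective (Spec.map φ).appTop := by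
    have e := Scheme.ΓSpecIso_naturality φ
    intro a b hab
    have := congrArg (Scheme.ΓSpecIso _).hom hab
    rw [← CommRingCat.comp_apply, ← CommRingCat.comp_apply, e] at this
    exact (Scheme.ΓSpecIso _).commRingCatIsoToRingEquiv.injective (injective_laurent_tensor _ gA rfl this)
  rw [← hfac, Scheme.Hom.comp_appTop] at hinj
  have : IsIso f.appTop :=
    (ConcreteCategory.isIso_iff_bijective _).2 ⟨Function.Injective.of_comp hinj, hsurj⟩
  exact (HasAffineProperty.iff_of_isAffine (P := MorphismProperty.isomorphisms Scheme) (f := f)).2 ⟨haff, this⟩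

variable {𝒳 : AlgSt.Cat S} [FibCat.IsFibGrpd 𝒳.p] (K : FibCat.overCat T ⥤ᵇ 𝒳)

/-- Automorphisms over the line are determined off the origin. -/
theorem res_lineDbl_injective
    (hd : AlgSt.RepByAlgSpWith IsSeparatedMor (FibCat.diag (FibCat.toSelf 𝒳))) :
    Function.Injective (res (K := K) (gadgetSys T).L.j) :=
  res_injective_of_dense hd (prodMap T gmToLine) (isSchDense_prodL_gmToLine T)

end Groth.Agent.IsoNatLib
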