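import Groth.Agent.IsoNatLib.Glue
import Groth.Agent.IsoNatLib.HomGlue
import Groth.Agent.IsoNatLib.Cls

/-!
# Classes on doubled objects and automorphisms
-/

set_option autoImplicit false
set_option backward.isDefEq.respectTransparency false
set_option backward.isDefEq.respectTransparency.types false

universe v₂ u₂ v u

open CategoryTheory CategoryTheory.Functor CategoryTheory.Limits Groth.Agent.FibBase Groth.Agent.StkLib

namespace Groth.Agent.IsoNatLib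

variable {C : Type u} [Category.{v} C] (J : GrothendieckTopology C) (T : C)

/-- An object covered by two copies of another. -/
structure Dbl where
  /-- the piece -/
  U : Over T
  /-- the intersection -/
  W : Over T
  /-- the doubled object -/
  Z : Over T
  /-- first copy -/
  i₁ : U ⟶ Z
  /-- second copy -/
  i₂ : U ⟶ Z
  /-- the inclusion of the intersection -/
  j : W ⟶ U
  mono₁ : Mono i₁.left
  mono₂ : Mono i₂.left
  sq : IsPullback j.left j.left i₁.left i₂.left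
  cov : (TwoCover.sieve ⟨i₁.left, i₂.left, j.left, j.left, mono₁, mono₂, sq⟩) ∈ J Z.left

variable {J T}

/-- The covering of a doubled object. -/
abbrev Dbl.cover (D : Dbl J T) : TwoCover D.Z.left D.U.left D.U.left D.W.left :=
  ⟨D.i₁.left, D.i₂.left, D.j.left, D.j.left, D.mono₁, D.mono₂, D.sq⟩

/-- Morphisms of doubled objects. -/
structure DblHom (D D' : Dbl J T) where
  /-- on the pieces -/
  U : D.U ⟶ D'.U
  /-- on the intersections -/
  W : D.W ⟶ D'.W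
  /-- on the doubled objects -/
  Z : D.Z ⟶ D'.Z
  w₁ : D.i₁ ≫ Z = U ≫ D'.i₁
  w₂ : D.i₂ ≫ Z = U ≫ D'.i₂
  wj : D.j ≫ U = W ≫ D'.j

variable {𝒳 : BasedCategory.{v₂, u₂} C} (hst : Stk.IsStack J 𝒳) [hf : FibCat.IsFibGrpd 𝒳.p]
  (K : FibCat.overCat T ⥤ᵇ 𝒳)

/-- The gluing datum of an automorphism on the intersection. -/
def dblDatum (D : Dbl J T) (s : AutAt K D.W) : Datum D.cover (𝒳 := 𝒳) where
  x₁ := K.obj D.U
  x₂ := K.obj D.U
  w := K.obj D.W
  a₁ := s.hom.1 ≫ K.map D.j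
  a₂ := K.map D.j
  lift₁ := haveI := overMap_isHomLift K D.j; haveI := s.hom.2
    IsHomLift.comp_lift_id_left' 𝒳.p D.W.left _ D.j.left _
  lift₂ := overMap_isHomLift K D.j

/-- The class of a glued object. -/
def gcl {D : Dbl J T} {s : AutAt K D.W} (G : Glued (dblDatum K D s)) : Cls 𝒳 D.Z.left :=
  cl ⟨G.z, G.proj⟩

/-- The trivial class. -/
abbrev triv (V : Over T) : Cls 𝒳 V.left := cl (fib K V)

variable {K}

lemma pull_triv {V V' : Over T} (φ : V' ⟶ V) : pull φ.left (triv K V) = triv K V' :=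
  haveI := overMap_isHomLift K φ
  pull_cl φ.left (x := fib K V) (y := fib K V') (K.map φ)

lemma gcl_pull_i₁ {D : Dbl J T} {s : AutAt K D.W} (G : Glued (dblDatum K D s)) :
    pull D.i₁.left (gcl K G) = triv K D.U :=
  haveI := G.lift₁
  pull_cl D.i₁.left (x := ⟨G.z, G.proj⟩) (y := fib K D.U) G.b₁

lemma gcl_pull_i₂ {D : Dbl J T} {s : AutAt K D.W} (G : Glued (dblDatum K D s)) :
    pull D.i₂.left (gcl K G) = triv K D.U :=
  haveI := G.lift₂
  pull_cl D.i₂.left (x := ⟨G.z, G.proj⟩) (y := fib K D.U) G.b₂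

include hst

lemma exists_gl (D : Dbl J T) (s : AutAt K D.W) : Nonempty (Glued (dblDatum K D s)) :=
  exists_glued hst D.cov _

omit hst in
/-- The standard gluing of the trivial datum. -/
def glOne (D : Dbl J T) : Glued (dblDatum K D 1) where
  z := K.obj D.Z
  b₁ := K.map D.i₁
  b₂ := K.map D.i₂
  lift₁ := overMap_isHomLift K D.i₁
  lift₂ := overMap_isHomLift K D.i₂
  comm := by
    show (𝟙 (K.obj D.W) ≫ K.map D.j) ≫ K.map D.i₁ = K.map D.j ≫ K.map D.i₂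
    rw [Category.id_comp, ← K.toFunctor.map_comp, ← K.toFunctor.map_comp,
      show D.j ≫ D.i₁ = D.j ≫ D.i₂ from Over.OverMorphism.ext D.sq.w]

/-- Gluings with the same class differ by automorphisms of the pieces. -/
theorem gcl_eq_iff {D : Dbl J T} {s s' : AutAt K D.W} (G : Glued (dblDatum K D s)) (G' : Glued (dblDatum K D s')) :
    gcl K G = gcl K G' ↔ ∃ g h : AutAt K D.U, s' = res D.j g * s * (res D.j h)⁻¹ := by
  have := G.lift₁
  have := G.lift₂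
  have := G'.lift₁
  have := G'.lift₂
  have hcomm : ∀ (g h : AutAt K D.U),
      (s' = res D.j g * s * (res D.j h)⁻¹) ↔
        (s.hom.1 ≫ K.map D.j) ≫ g.hom.1 ≫ G'.b₁ = K.map D.j ≫ h.hom.1 ≫ G'.b₂ := by
    intro g h
    have hj := overMap_isHomLift K D.j
    have := isSC (p := 𝒳.p) D.i₁.left G'.b₁
    rw [eq_mul_inv_iff_mul_eq]
    have e : K.map D.j ≫ h.hom.1 ≫ G'.b₂ = ((s' * res D.j h).hom.1 ≫ K.map D.j) ≫ G'.b₁ := by
      have hc : (s'.hom.1 ≫ K.map D.j) ≫ G'.b₁ = K.map D.j ≫ G'.b₂ := G'.comm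
      rw [Category.assoc] at hc
      rw [mul_hom, Category.assoc, Category.assoc, hc, ← Category.assoc, ← res_spec, Category.assoc]
    have e' : (s.hom.1 ≫ K.map D.j) ≫ g.hom.1 ≫ G'.b₁ = ((res D.j g * s).hom.1 ≫ K.map D.j) ≫ G'.b₁ := by
      rw [mul_hom, Category.assoc s.hom.1 (res D.j g).hom.1, res_spec]
      simp only [Category.assoc]
    rw [e, e']
    refine ⟨fun h' => by rw [h'], fun h' => ?_⟩
    have := (s' * res D.j h).hom.2
    have := (res D.j g * s).hom.2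
    have l1 : 𝒳.p.IsHomLift D.j.left ((s' * res D.j h).hom.1 ≫ K.map D.j) :=
      IsHomLift.comp_lift_id_left' 𝒳.p D.W.left _ D.j.left _
    have l2 : 𝒳.p.IsHomLift D.j.left ((res D.j g * s).hom.1 ≫ K.map D.j) :=
      IsHomLift.comp_lift_id_left' 𝒳.p D.W.left _ D.j.left _
    have := IsStronglyCartesian.ext 𝒳.p D.i₁.left G'.b₁ D.j.left h'
    exact (Iso.ext (Subtype.ext (cancel_map D.j (g := 𝟙 D.W.left) this))).symm
  constructor
  · intro heq
    obtain ⟨e⟩ : Nonempty (@Iso (𝒳.p.Fiber D.Z.left) _ ⟨G.z, G.proj⟩ ⟨G'.z, G'.proj⟩) := Quotient.exact heq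
    have he := e.hom.2
    have := isSC (p := 𝒳.p) D.i₁.left G'.b₁
    have := isSC (p := 𝒳.p) D.i₂.left G'.b₂
    haveI : 𝒳.p.IsHomLift D.i₁.left (G.b₁ ≫ e.hom.1) :=
      IsHomLift.comp_lift_id_right' 𝒳.p D.i₁.left _ D.Z.left _
    haveI : 𝒳.p.IsHomLift D.i₂.left (G.b₂ ≫ e.hom.1) :=
      IsHomLift.comp_lift_id_right' 𝒳.p D.i₂.left _ D.Z.left _
    let mg : fib K D.U ⟶ fib K D.U := ⟨IsCartesian.map 𝒳.p D.i₁.left G'.b₁ (G.b₁ ≫ e.hom.1),
      inferInstanceAs (𝒳.p.IsHomLift (𝟙 D.U.left) (IsCartesian.map 𝒳.p D.i₁.left G'.b₁ _))⟩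
    let mh : fib K D.U ⟶ fib K D.U := ⟨IsCartesian.map 𝒳.p D.i₂.left G'.b₂ (G.b₂ ≫ e.hom.1),
      inferInstanceAs (𝒳.p.IsHomLift (𝟙 D.U.left) (IsCartesian.map 𝒳.p D.i₂.left G'.b₂ _))⟩
    have := fiber_isIso mg
    have := fiber_isIso mh
    refine ⟨asIso mg, asIso mh, (hcomm _ _).2 ?_⟩
    show _ ≫ mg.1 ≫ G'.b₁ = _ ≫ mh.1 ≫ G'.b₂
    rw [show mg.1 ≫ G'.b₁ = G.b₁ ≫ e.hom.1 from IsCartesian.fac 𝒳.p D.i₁.left G'.b₁ _,
      show mh.1 ≫ G'.b₂ = G.b₂ ≫ e.hom.1 from IsCartesian.fac 𝒳.p D.i₂.left G'.b₂ _]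
    have hc : (s.hom.1 ≫ K.map D.j) ≫ G.b₁ = K.map D.j ≫ G.b₂ := G.comm
    exact ((Category.assoc _ _ _).symm.trans (congrArg (· ≫ e.hom.1) hc)).trans (Category.assoc _ _ _)
  · rintro ⟨g, h, he⟩
    have := g.hom.2
    have := h.hom.2
    let G'' : Glued (dblDatum K D s) :=
      { z := G'.z, b₁ := g.hom.1 ≫ G'.b₁, b₂ := h.hom.1 ≫ G'.b₂,
        lift₁ := IsHomLift.comp_lift_id_left' 𝒳.p D.U.left g.hom.1 D.i₁.left G'.b₁,
        lift₂ := IsHomLift.comp_lift_id_left' 𝒳.p D.U.left h.hom.1 D.i₂.left G'.b₂,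
        comm := (hcomm g h).1 he }
    obtain ⟨i, hi, -, -⟩ := exists_iso_glued hst D.cov G G''
    exact Quotient.sound ⟨fiberIsoMk i hi⟩

/-- Pullback of glued classes along a morphism of doubled objects. -/
theorem gcl_pull {D D' : Dbl J T} (m : DblHom D' D) {s : AutAt K D.W} (G : Glued (dblDatum K D s))
    (G' : Glued (dblDatum K D' (res m.W s))) : pull m.Z.left (gcl K G) = gcl K G' := by
  obtain ⟨y, a, ha⟩ := exists_fiber_lift m.Z.left (⟨G.z, G.proj⟩ : 𝒳.p.Fiber D.Z.left)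
  rw [gcl, pull_cl m.Z.left a]
  have := G.lift₁
  have := G.lift₂
  have := isSC (p := 𝒳.p) m.Z.left a
  have := overMap_isHomLift K m.U
  have := overMap_isHomLift K m.W
  have := overMap_isHomLift K D'.j
  have e₁ : m.U.left ≫ D.i₁.left = D'.i₁.left ≫ m.Z.left := (congrArg CommaMorphism.left m.w₁).symm
  have e₂ : m.U.left ≫ D.i₂.left = D'.i₂.left ≫ m.Z.left := (congrArg CommaMorphism.left m.w₂).symm
  haveI : 𝒳.p.IsHomLift (D'.i₁.left ≫ m.Z.left) (K.map m.U ≫ G.b₁) := by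
    rw [← e₁]; exact IsHomLift.comp 𝒳.p m.U.left D.i₁.left _ _
  haveI : 𝒳.p.IsHomLift (D'.i₂.left ≫ m.Z.left) (K.map m.U ≫ G.b₂) := by
    rw [← e₂]; exact IsHomLift.comp 𝒳.p m.U.left D.i₂.left _ _
  let c₁ := IsStronglyCartesian.map 𝒳.p m.Z.left a (g := D'.i₁.left) (f' := D'.i₁.left ≫ m.Z.left) rfl (K.map m.U ≫ G.b₁)
  let c₂ := IsStronglyCartesian.map 𝒳.p m.Z.left a (g := D'.i₂.left) (f' := D'.i₂.left ≫ m.Z.left) rfl (K.map m.U ≫ G.b₂)
  have f₁ : c₁ ≫ a = K.map m.U ≫ G.b₁ := IsStronglyCartesian.fac _ _ _ _ _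
  have f₂ : c₂ ≫ a = K.map m.U ≫ G.b₂ := IsStronglyCartesian.fac _ _ _ _ _
  let Gy : Glued (dblDatum K D' (res m.W s)) :=
    { z := y.1, b₁ := c₁, b₂ := c₂,
      lift₁ := inferInstanceAs (𝒳.p.IsHomLift D'.i₁.left (IsStronglyCartesian.map 𝒳.p m.Z.left a rfl _)),
      lift₂ := inferInstanceAs (𝒳.p.IsHomLift D'.i₂.left (IsStronglyCartesian.map 𝒳.p m.Z.left a rfl _)),
      comm := by
        show ((res m.W s).hom.1 ≫ K.map D'.j) ≫ c₁ = K.map D'.j ≫ c₂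
        have := (res m.W s).hom.2
        have l1 : 𝒳.p.IsHomLift (D'.j.left ≫ D'.i₁.left) (((res m.W s).hom.1 ≫ K.map D'.j) ≫ c₁) := by
          haveI : 𝒳.p.IsHomLift D'.j.left ((res m.W s).hom.1 ≫ K.map D'.j) :=
            IsHomLift.comp_lift_id_left' 𝒳.p D'.W.left _ D'.j.left _
          exact IsHomLift.comp 𝒳.p D'.j.left D'.i₁.left _ _
        have l2 : 𝒳.p.IsHomLift (D'.j.left ≫ D'.i₁.left) (K.map D'.j ≫ c₂) := by
          rw [D'.sq.w]; exact IsHomLift.comp 𝒳.p D'.j.left D'.i₂.left _ _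
        refine IsStronglyCartesian.ext 𝒳.p m.Z.left a (D'.j.left ≫ D'.i₁.left) ?_
        have hc : (s.hom.1 ≫ K.map D.j) ≫ G.b₁ = K.map D.j ≫ G.b₂ := G.comm
        have hK : K.map D'.j ≫ K.map m.U = K.map m.W ≫ K.map D.j := by
          rw [← K.toFunctor.map_comp, ← K.toFunctor.map_comp, m.wj]
        simp only [Category.assoc, f₁, f₂, reassoc_of% hK, reassoc_of% (res_spec m.W s)]
        rw [Category.assoc] at hc
        rw [hc] }
  obtain ⟨i, hi, -, -⟩ := exists_iso_glued hst D'.cov Gy G'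
  exact Quotient.sound ⟨fiberIsoMk i hi⟩

omit hst in
/-- A class trivial on both pieces comes from gluing. -/
theorem exists_of_pull {D : Dbl J T} (c : Cls 𝒳 D.Z.left) (h₁ : pull D.i₁.left c = triv K D.U)
    (h₂ : pull D.i₂.left c = triv K D.U) : ∃ (s : AutAt K D.W) (G : Glued (dblDatum K D s)), gcl K G = c := by
  obtain ⟨z, rfl⟩ := Quotient.exists_rep c
  obtain ⟨b₁, hb₁⟩ := exists_lift_of_pull_eq D.i₁.left h₁
  obtain ⟨b₂, hb₂⟩ := exists_lift_of_pull_eq D.i₂.left h₂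
  have := overMap_isHomLift K D.j
  have l1 : 𝒳.p.IsHomLift (D.j.left ≫ D.i₁.left) (K.map D.j ≫ b₁) := IsHomLift.comp 𝒳.p D.j.left D.i₁.left _ _
  have l2 : 𝒳.p.IsHomLift (D.j.left ≫ D.i₁.left) (K.map D.j ≫ b₂) := by
    rw [D.sq.w]; exact IsHomLift.comp 𝒳.p D.j.left D.i₂.left _ _
  have := isSC (p := 𝒳.p) (D.j.left ≫ D.i₁.left) (K.map D.j ≫ b₁)
  let m : fib K D.W ⟶ fib K D.W :=
    ⟨IsCartesian.map 𝒳.p (D.j.left ≫ D.i₁.left) (K.map D.j ≫ b₁) (K.map D.j ≫ b₂), inferInstance⟩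
  have := fiber_isIso m
  refine ⟨asIso m, ⟨z.1, b₁, b₂, hb₁, hb₂, ?_⟩, rfl⟩
  exact (Category.assoc _ _ _).trans (IsCartesian.fac 𝒳.p (D.j.left ≫ D.i₁.left) (K.map D.j ≫ b₁) _)

end Groth.Agent.IsoNatLib
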