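import Groth.Agent.IsoNatLib.Main
import Groth.Agent.IsoNatLib.CleanLocus
import Groth.Agent.AlgSpVal.DvrProper
import Groth.Agent.AlgStLib.SepDiag
import Groth.Agent.AlgStLib.SmoothLocally
import Mathlib.RingTheory.DiscreteValuationRing.Basic

/-!
# Properness of the inertia is read off from classes on doubled traits
-/

set_option autoImplicit false
set_option backward.isDefEq.respectTransparency false
set_option backward.isDefEq.respectTransparency.types false

universe u

open CategoryTheory CategoryTheory.Functor CategoryTheory.Limits AlgebraicGeometry AlgSp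
  Groth.Agent.FibBase Groth.Agent.AlgStLib

namespace Groth.Agent.IsoNatLib

variable {S : Scheme.{u}}

/-- An object doubled along an open subobject. -/
noncomputable def openDbl {T : Over S} {U W : Over T} (j : W ⟶ U) [IsOpenImmersion j.left.left] :
    Dbl (J S) T :=
  let p : dblS j.left.left ⟶ T.left := pushout.desc U.hom.left U.hom.left rfl
  { U := U
    W := W
    Z := Over.mk (Over.homMk p rfl : Over.mk (p ≫ T.hom) ⟶ T)
    i₁ := Over.homMk (Over.homMk (pushout.inl j.left.left j.left.left) (by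
        show pushout.inl _ _ ≫ p ≫ T.hom = U.left.hom
        rw [pushout.inl_desc_assoc, Over.w])) (Over.OverMorphism.ext (pushout.inl_desc _ _ _))
    i₂ := Over.homMk (Over.homMk (pushout.inr j.left.left j.left.left) (by
        show pushout.inr _ _ ≫ p ≫ T.hom = U.left.hom
        rw [pushout.inr_desc_assoc, Over.w])) (Over.OverMorphism.ext (pushout.inr_desc _ _ _))
    j := j
    mono₁ := (Over.forget S).mono_of_mono_map
      (show Mono (pushout.inl j.left.left j.left.left) from inferInstance)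
    mono₂ := (Over.forget S).mono_of_mono_map
      (show Mono (pushout.inr j.left.left j.left.left) from inferInstance)
    sq := IsPullback.of_map (Over.forget S) (Over.OverMorphism.ext (isPullback_dblS j.left.left).w)
      (isPullback_dblS j.left.left)
    cov := by
      refine mem_J_of_openImm (ι := ULift.{u} Bool) (fun _ => U.left)
        (fun i => bif i.down
          then (Over.homMk (pushout.inl j.left.left j.left.left) (by
            show pushout.inl _ _ ≫ p ≫ T.hom = U.left.hom
            rw [pushout.inl_desc_assoc, Over.w]) : U.left ⟶ Over.mk (p ≫ T.hom))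
          else (Over.homMk (pushout.inr j.left.left j.left.left) (by
            show pushout.inr _ _ ≫ p ≫ T.hom = U.left.hom
            rw [pushout.inr_desc_assoc, Over.w]) : U.left ⟶ Over.mk (p ≫ T.hom)))
        (fun i => ?_) (fun x => ?_) _ (fun i => ?_)
      · rcases i with ⟨_ | _⟩
        · exact inferInstanceAs (IsOpenImmersion (pushout.inr j.left.left j.left.left))
        · exact inferInstanceAs (IsOpenImmersion (pushout.inl j.left.left j.left.left))
      · rcases dblS_jointly_surjective j.left.left x with h | h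
        · exact ⟨⟨true⟩, h⟩
        · exact ⟨⟨false⟩, h⟩
      · rcases i with ⟨_ | _⟩
        · exact Or.inr ⟨𝟙 _, Category.id_comp _⟩
        · exact Or.inl ⟨𝟙 _, Category.id_comp _⟩ }

variable {𝒳 𝒴 : AlgSt.Cat S} [FibCat.IsFibGrpd 𝒳.p] [FibCat.IsFibGrpd 𝒴.p] {T : Over S}

/-- Restriction of automorphisms to the intersection is surjective exactly when only one class on the doubled object
is trivial on both pieces. -/
theorem res_surjective_iff (hst : Stk.IsStack (J S) 𝒳) (K : FibCat.overCat T ⥤ᵇ 𝒳) (D : Dbl (J S) T) :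
    Function.Surjective (res (K := K) D.j) ↔
      ∀ c : Cls 𝒳 D.Z.left, pull D.i₁.left c = triv K D.U → pull D.i₂.left c = triv K D.U →
        c = gcl K (glOne (K := K) D) := by
  constructor
  · intro h c h₁ h₂
    obtain ⟨s, G, rfl⟩ := exists_of_pull c h₁ h₂
    obtain ⟨g, hg⟩ := h s
    refine (gcl_eq_iff hst G (glOne D)).2 ⟨g⁻¹, 1, ?_⟩
    rw [_root_.map_inv, _root_.map_one, inv_one, mul_one, ← hg, inv_mul_cancel]
  · intro h s
    obtain ⟨G⟩ := exists_gl hst (K := K) D s
    obtain ⟨g, g', hgg⟩ := (gcl_eq_iff hst G (glOne D)).1 (h _ (gcl_pull_i₁ G) (gcl_pull_i₂ G))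
    refine ⟨g⁻¹ * g', ?_⟩
    have e := mul_inv_eq_one.1 hgg.symm
    rw [_root_.map_mul, _root_.map_inv, ← e, inv_mul_cancel_left]

/-- Surjectivity of restrictions is transported by bijections of classes. -/
theorem res_surjective_transfer (hX : Stk.IsStack (J S) 𝒳) (hY : Stk.IsStack (J S) 𝒴) (ψ : ClsIso 𝒳 𝒴)
    {K : FibCat.overCat T ⥤ᵇ 𝒳} {K' : FibCat.overCat T ⥤ᵇ 𝒴} (hψ : Corr ψ K K') (D : Dbl (J S) T)
    (h : Function.Surjective (res (K := K) D.j)) : Function.Surjective (res (K := K') D.j) := by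
  rw [res_surjective_iff hY] at ⊢
  rw [res_surjective_iff hX] at h
  intro c h₁ h₂
  have key : ∀ c' : Cls 𝒴 D.Z.left, pull D.i₁.left c' = triv K' D.U → pull D.i₂.left c' = triv K' D.U →
      (ψ.eqv _).symm c' = gcl K (glOne (K := K) D) := fun c' a₁ a₂ => by
    obtain ⟨d, rfl⟩ := (ψ.eqv _).surjective c'
    rw [← ψ.nat, ← eqv_triv ψ hψ] at a₁ a₂
    rw [Equiv.symm_apply_apply]
    exact h d ((ψ.eqv _).injective a₁) ((ψ.eqv _).injective a₂)
  exact (ψ.eqv _).symm.injective ((key c h₁ h₂).trans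
    (key _ (gcl_pull_i₁ (glOne D)) (gcl_pull_i₂ (glOne D))).symm)

/-- The generic point of a trait is open. -/
theorem isOpenImmersion_generic (A K : Type u) [CommRing A] [IsDomain A] [IsDiscreteValuationRing A] [Field K]
    [Algebra A K] [IsFractionRing A K] : IsOpenImmersion (Spec.map (CommRingCat.ofHom (algebraMap A K))) := by
  obtain ⟨ϖ, hϖ⟩ := IsDiscreteValuationRing.exists_irreducible A
  have : IsLocalization.Away ϖ K := by
    refine (IsLocalization.iff_of_le_of_exists_dvd (Submonoid.powers ϖ) (nonZeroDivisors A)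
      (Submonoid.powers_le.2 (mem_nonZeroDivisors_of_ne_zero hϖ.ne_zero)) fun a ha => ?_).2
      (inferInstanceAs (IsLocalization (nonZeroDivisors A) K))
    obtain ⟨n, hn⟩ := IsDiscreteValuationRing.associated_pow_irreducible (nonZeroDivisors.ne_zero ha) hϖ
    exact ⟨ϖ ^ n, ⟨n, rfl⟩, hn.dvd⟩
  exact IsOpenImmersion.of_isLocalization ϖ

section Squares

variable {V : Over S} {v : FibCat.overCat V ⥤ᵇ 𝒳} (R : AutRep v)

/-- Restriction along traits is surjective when squares lift. -/
theorem res_surjective_of_hasLift (hv : ∀ sq : ValSq R.a, IsDiscreteValuationRing sq.A → sq.HasLift)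
    (A : Type u) [CommRing A] [IsDomain A] [IsDiscreteValuationRing A] (K : Type u) [Field K] [Algebra A K]
    [IsFractionRing A K] (str : Spec (.of A) ⟶ S) (b : Over.mk str ⟶ V)
    (jj : Over.mk (Spec.map (CommRingCat.ofHom (algebraMap A K)) ≫ str) ⟶ Over.mk str)
    (hjj : jj.left = Spec.map (CommRingCat.ofHom (algebraMap A K))) :
    Function.Surjective (res (K := v) (ovHom jj b)) := by
  intro γ
  have hj : jj = Over.homMk (Spec.map (CommRingCat.ofHom (algebraMap A K))) rfl := Over.OverMorphism.ext hjj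
  obtain ⟨l, hl₁, hl₂⟩ := hv
    { A := A, K := K, str := str, top := R.pt (Tri.ofAut γ) rfl, bot := (yon S).map b,
      comm := by
        rw [R.pt_a, ← hj, ← Functor.map_comp] } ‹_›
  obtain ⟨t, e, rfl⟩ := R.pt_surj l
  have hb : t.h = b := (yon S).map_injective ((R.pt_a t e).symm.trans hl₂)
  obtain ⟨tb, tg, γ₀⟩ := t
  dsimp only at e hb
  subst e
  cases hb
  refine ⟨γ₀, ?_⟩
  have h1 : R.pt ((Tri.ofAut γ₀).res jj) rfl = R.pt (Tri.ofAut γ) rfl := by
    rw [R.pt_res (Tri.ofAut γ₀) rfl jj]
    refine Eq.trans ?_ hl₁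
    exact congrArg (fun z => (yon S).map z ≫ R.pt (Tri.ofAut γ₀) rfl) hj
  have h2 := R.pt_inj h1
  rw [Tri.res_ofAut] at h2
  injection h2

/-- Squares over traits lift when restrictions are surjective. -/
theorem hasLift_of_res_surjective (sq : ValSq R.a)
    (h : ∀ b : sq.ptA ⟶ V, Function.Surjective (res (K := v) (ovHom sq.j b))) : sq.HasLift := by
  obtain ⟨b, hb⟩ := (yon S).map_surjective sq.bot
  obtain ⟨t, e, ht⟩ := R.pt_surj sq.top
  have hth : t.h = sq.j ≫ b := (yon S).map_injective (by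
    rw [← R.pt_a t e, ht, Functor.map_comp, hb]
    exact sq.comm)
  obtain ⟨t', g', γ⟩ := t
  dsimp only at e hth
  subst e hth
  obtain ⟨γ₀, hγ₀⟩ := h b γ
  refine ⟨R.pt (Tri.ofAut γ₀) rfl, ?_, (R.pt_a _ _).trans hb⟩
  rw [← R.pt_res, ← ht]
  have e1 : (Tri.ofAut γ₀).res sq.j = Tri.ofAut γ := by rw [Tri.res_ofAut, hγ₀]
  congr 1

end Squares

/-- The separated quasi-compact inertia of finite presentation. -/
theorem inertia_sep_ft (hY : Nice 𝒴) :
    AlgSt.RepByAlgSpWith (LocP @LocallyOfFinitePresentation ⊓ (IsSeparatedMor ⊓ IsQuasiCompactMor))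
      (FibCat.inertiaToBase (FibCat.toSelf 𝒴)) := by
  have := respectsIso_locP (S := S) @LocallyOfFinitePresentation
  exact repByAlgSpWith_inf_iff.2 ⟨hY.inertia, repByAlgSpWith_inertiaToBase _ hY.diag⟩

theorem properInertia_of_clsIso (hX : Nice 𝒳) (hY : Nice 𝒴) (ψ : ClsIso 𝒳 𝒴)
    (hN : AlgSt.SmoothLocally (fun X => IsLocallyNoetherian X) 𝒴)
    (hpr : AlgSt.RepByAlgSpWith IsProperMor (FibCat.inertiaToBase (FibCat.toSelf 𝒳))) :
    AlgSt.RepByAlgSpWith IsProperMor (FibCat.inertiaToBase (FibCat.toSelf 𝒴)) := by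
  obtain ⟨V, v, hv, hv'⟩ := hY.alg.atlas
  have hVN : IsLocNoethSp ((yon S).obj V) := etaleLocally_yon (hN V v hv)
  obtain ⟨v', hvv⟩ := exists_corr_left ψ v
  obtain ⟨R', hR'⟩ := exists_autRep (v := v') hpr
  have hlift' := (Groth.Agent.AlgSpVal.isProperMor_iff_dvr R'.F.property (IsAlgSpace.yon_obj V)
    (repWith_mono' hR'.1) hR'.2.1 hVN).1 hR'
  obtain ⟨R, ⟨hl, hsep, hqc⟩, hR⟩ := exists_autRep_repOver (v := v) (inertia_sep_ft hY)
  have hft : IsFiniteTypeMor R.a := ⟨Groth.Agent.AlgSpLib.locP_mono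
    (fun _ _ g (_ : LocallyOfFinitePresentation g) => (inferInstance : LocallyOfFiniteType g)) hl, hqc⟩
  have hP : IsProperMor R.a := (Groth.Agent.AlgSpVal.isProperMor_iff_dvr R.F.property (IsAlgSpace.yon_obj V)
    (repWith_mono' hsep) hft hVN).2 fun sq hA => ⟨hasLift_of_res_surjective R sq fun b => by
      have : IsOpenImmersion (ovHom sq.j b).left.left := isOpenImmersion_generic sq.A sq.K
      refine res_surjective_transfer hX.alg.isStack hY.alg.isStack ψ hvv (openDbl (ovHom sq.j b)) ?_
      exact res_surjective_of_hasLift R' (fun s hs => (hlift' s hs).1) sq.A sq.K sq.str b sq.j rfl,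
    Groth.Agent.AlgSpVal.uniqVC_of_isSeparatedMor hsep sq⟩
  obtain ⟨F, e, he, hF⟩ := hR IsProperMor hP
  refine repByAlgSpWith_of_locEssSurj stableBC_isProperMor
    (isLocalOnBase_fppf_of_fpqc Groth.Agent.AlgSpLib.isLocalOnBase_fpqc_isProperMor)
    (repByAlgSp1_of_repByAlgSpWith hY.inertia) (locEssSurj_of_atlas hv hv') ?_
  let I := FibCat.inertiaToBase (FibCat.toSelf 𝒴)
  let a := AlgSt.spMapOfOver (BasedFunctor.comp e (FibCat.fpFst v I))
  exact (repByAlgSpWith_iff_of_square (f := FibCat.fpFst v I) (f' := AlgSt.ofSpMap a) (a := e)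
    (b := AlgSt.toOverCat V) he (isEquivOver_toOverCat V)
    (isoSpMapOfOver (BasedFunctor.comp e (FibCat.fpFst v I))).symm).2
    (repByAlgSpWith_ofSpMap stableBC_isProperMor F.property (IsAlgSpace.yon_obj V) a hF)
where
  repWith_mono' {F G : Sp S} {f : F ⟶ G} (h : IsSeparatedMor f) : IsQuasiSeparatedMor f :=
    Groth.Agent.AlgSpLib.repWith_mono (fun _ _ g (_ : IsClosedImmersion g) => (inferInstance : QuasiCompact g)) _ h

end Groth.Agent.IsoNatLib
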