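import Groth.Agent.IsoNatLib.Main
import Groth.Agent.AlgStLib.SpaceCalc
import Groth.Agent.AlgStLib.LocQ

/-!
# Detection of quasi-compactness by presheaves of isomorphism classes
-/

set_option autoImplicit false
set_option backward.isDefEq.respectTransparency false
set_option backward.isDefEq.respectTransparency.types false

universe u

open CategoryTheory CategoryTheory.Functor CategoryTheory.Limits AlgebraicGeometry AlgSp
  Groth.Agent.FibBase Groth.Agent.AlgSpLib Groth.Agent.AlgStLib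

namespace Groth.Agent.IsoNatLib

variable {S : Scheme.{u}}

section

variable {𝒲 𝒳 𝒴 𝒮 : AlgSt.Cat S} {F : 𝒳 ⥤ᵇ 𝒮} {G : 𝒴 ⥤ᵇ 𝒮}

/-- Isomorphic functors into a fibre product from isomorphic components. -/
def fpFunIso (E E' : 𝒲 ⥤ᵇ FibCat.fp F G)
    (α : BasedFunctor.comp E (FibCat.fpFst F G) ≅ BasedFunctor.comp E' (FibCat.fpFst F G))
    (β : BasedFunctor.comp E (FibCat.fpSnd F G) ≅ BasedFunctor.comp E' (FibCat.fpSnd F G))
    (h : ∀ w, F.map (isoApp α w).hom ≫ (E'.obj w).obj.iso.hom = (E.obj w).obj.iso.hom ≫ G.map (isoApp β w).hom) :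
    E ≅ E' :=
  BasedNatIso.mkNatIso
    (NatIso.ofComponents (fun w => fpIsoMk (isoApp α w) (isoApp β w) (h w)) (fun {w w'} φ => by
      refine ObjectProperty.hom_ext _ (CategoricalPullback.hom_ext ?_ ?_)
      · exact natural α φ
      · exact natural β φ))
    (fun w => fp_isHomLift (F := F) (G := G) (𝟙 _) _ (h := isoApp_lift α rfl))

end

lemma selfOver_lift_ext {T : Over S} {a b : (FibCat.selfOver (Over S)).obj} {φ ψ : a ⟶ b}
    [h₁ : (FibCat.selfOver (Over S)).p.IsHomLift (𝟙 T) φ] [h₂ : (FibCat.selfOver (Over S)).p.IsHomLift (𝟙 T) ψ] :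
    φ = ψ :=
  (IsHomLift.fac' (FibCat.selfOver (Over S)).p (𝟙 T) φ).trans
    (IsHomLift.fac' (FibCat.selfOver (Over S)).p (𝟙 T) ψ).symm

variable {T : Over S} {𝒳 : AlgSt.Cat S}

theorem isQuasiCompact_overCat {U : Over S} (hU : CompactSpace U.left) :
    AlgSt.IsQuasiCompact (FibCat.overCat U : AlgSt.Cat S) := by
  refine (isQuasiCompact_iff_compactSpace_points (isFibGrpd_overCat U) (isAlgStack_overCat U).atlas).2 ⟨?_⟩
  have hc := continuous_ofChart (isFibGrpd_overCat U) (isAlgStack_overCat U).atlas (BasedFunctor.id (FibCat.overCat U))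
  have hs : Function.Surjective (AlgSt.Points.ofChart (BasedFunctor.id (FibCat.overCat U : AlgSt.Cat S))) := fun p => by
    obtain ⟨t, rfl⟩ := ptAt_surjective U p
    obtain ⟨q, hq⟩ := AlgSt.Points.mk_surjective (ptAt U t)
    exact ⟨t, by rw [ofChart_eq_map, ← hq]; rfl⟩
  rw [← hs.range_eq]
  exact isCompact_range hc

/-- A pair of functors from a slice, as a functor to the square. -/
noncomputable abbrev pairOver (y₁ y₂ : FibCat.overCat T ⥤ᵇ 𝒳) :
    FibCat.overCat T ⥤ᵇ FibCat.fp (FibCat.toSelf 𝒳) (FibCat.toSelf 𝒳) :=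
  FibCat.fpLift y₁ y₂ (eqToIso ((comp_toSelf y₁).trans (comp_toSelf y₂).symm))

/-- The isomorphisms of two objects over a quasi-compact scheme form a quasi-compact space. -/
theorem exists_compact_isom
    (hd : AlgSt.RepByAlgSpWith IsQuasiCompactMor (FibCat.diag (FibCat.toSelf 𝒳))) (hT : CompactSpace T.left)
    (y₁ y₂ : FibCat.overCat T ⥤ᵇ 𝒳) :
    ∃ (W : Over S) (E : FibCat.overCat W ⥤ᵇ FibCat.fp (pairOver y₁ y₂) (FibCat.diag (FibCat.toSelf 𝒳))),
      CompactSpace W.left ∧ Function.Surjective (AlgSt.Points.ofChart E) := by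
  obtain ⟨F, e, he, ha⟩ := hd T (pairOver y₁ y₂)
  let a := AlgSt.spMapOfOver (BasedFunctor.comp e (FibCat.fpFst (pairOver y₁ y₂) (FibCat.diag (FibCat.toSelf 𝒳))))
  obtain ⟨W, p, -, hp', hW⟩ := ha (IsAlgSpace.yon_obj T) ⟨T, 𝟙 _, repWith_id _ T, repWith_id _ T, hT⟩ (𝟙 _)
    (𝟙 F.obj) a (IsPullback.of_horiz_isIso ⟨by simp [a]⟩)
  refine ⟨W, BasedFunctor.comp (overOfMap p) e, hW, fun w => ?_⟩
  obtain ⟨w', rfl⟩ := (pts_bijective_of_isEquivOver he).2 w
  obtain ⟨s, rfl⟩ := surjective_overOfMap hp' w'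
  exact ⟨s, by rw [ofChart_eq_map, pts_map_comp]⟩

variable {𝒴 𝒳' 𝒴' 𝒵 : AlgSt.Cat S} {f : 𝒳 ⥤ᵇ 𝒴} {f' : 𝒳' ⥤ᵇ 𝒴'}

theorem qc_detect_sq (φ : IsoNat.FIsoSq f f') (hX : Nice 𝒳) (hY : Nice 𝒴) (hX' : Nice 𝒳') (hY' : Nice 𝒴')
    (hf : AlgSt.IsQuasiCompactMor Scheme.fppfPrecoverage f) :
    AlgSt.IsQuasiCompactMor Scheme.fppfPrecoverage f' := by
  have := hX.fib
  have := hY.fib
  have := hX'.fib
  have := hY'.fib
  intro 𝒵 h𝒵 hZ g'
  have hP := isAlgStack_fp h𝒵 hX'.alg hY'.alg.isStack hY'.alg.diag g' f'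
  refine (isQuasiCompact_iff_compactSpace_points hP.isStack.1 hP.atlas).2 ⟨?_⟩
  obtain ⟨U, u, hU, -, hu⟩ := hZ
  let yU' := BasedFunctor.comp u g'
  obtain ⟨yU, hyy⟩ := exists_corr_left (clsIsoOfFIso φ.tgt) yU'
  have hUc : CompactSpace U.left := have := hU; inferInstance
  obtain ⟨T, c, hT, hc, hc'⟩ := hf _ (isAlgStack_overCat U) (isQuasiCompact_overCat hUc) yU
  have hTc : CompactSpace T.left := have := hT; inferInstance
  obtain ⟨a', haa⟩ := exists_corr_right (clsIsoOfFIso φ.src) (BasedFunctor.comp c (FibCat.fpSnd yU f))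
  let cU := BasedFunctor.comp c (FibCat.fpFst yU f)
  let y₁ : FibCat.overCat T ⥤ᵇ 𝒴' := BasedFunctor.comp (BasedFunctor.comp cU u) g'
  let y₂ : FibCat.overCat T ⥤ᵇ 𝒴' := BasedFunctor.comp a' f'
  obtain ⟨W, E, hW, hE⟩ := exists_compact_isom (repByAlgSpWith_mono inf_le_right hY'.diag) hTc y₁ y₂
  let t := FibCat.toSelf 𝒴'
  let q := FibCat.fpFst (pairOver y₁ y₂) (FibCat.diag t)
  let j := FibCat.fpIso (pairOver y₁ y₂) (FibCat.diag t)
  let j₁₂ : BasedFunctor.comp (BasedFunctor.comp q (BasedFunctor.comp cU u)) g' ≅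
      BasedFunctor.comp (BasedFunctor.comp q a') f' :=
    whiskerRightIso j (FibCat.fpFst t t) ≪≫ (whiskerRightIso j (FibCat.fpSnd t t)).symm
  let Φ := FibCat.fpLift (BasedFunctor.comp q (BasedFunctor.comp cU u)) (BasedFunctor.comp q a') j₁₂
  suffices h : Function.Surjective (AlgSt.Points.ofChart (BasedFunctor.comp E Φ)) by
    rw [← h.range_eq]
    exact isCompact_range (continuous_ofChart hP.isStack.1 hP.atlas _)
  intro w
  obtain ⟨q₀, rfl⟩ := AlgSt.Points.mk_surjective w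
  obtain ⟨d₀, hd₀⟩ := exists_ofChart_eq hP.isStack.1 q₀
  obtain ⟨T₁, k₁, h, ⟨i₁⟩, -, -, hk₁⟩ :=
    exists_chart_fp h𝒵.isStack.1 (BasedFunctor.comp d₀ (FibCat.fpFst g' f')) (repByAlgSp1_of_repByAlgSpWith hu)
  obtain ⟨s, -⟩ := hk₁ hu (IsLocalRing.closedPoint q₀.K)
  let d := BasedFunctor.comp (AlgSt.overMap k₁) d₀
  have hd : AlgSt.Points.ofChart d s = AlgSt.Points.mk q₀ := by rw [ofChart_overMap, hd₀]
  obtain ⟨a₀, ha₀⟩ := exists_corr_left (clsIsoOfFIso φ.src) (BasedFunctor.comp d (FibCat.fpSnd g' f'))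
  let ι : BasedFunctor.comp (BasedFunctor.comp (AlgSt.overMap h) u) g' ≅
      BasedFunctor.comp (BasedFunctor.comp d (FibCat.fpSnd g' f')) f' :=
    (whiskerRightIso i₁ g').symm ≪≫ whiskerLeftIso d (FibCat.fpIso g' f')
  obtain ⟨ε⟩ : Nonempty (BasedFunctor.comp (AlgSt.overMap h) yU ≅ BasedFunctor.comp a₀ f) := by
    refine exists_iso_of_triv ((clsIsoOfFIso φ.tgt).eqv T₁ |>.injective ?_)
    rw [corr_comp φ ha₀, triv_comp_overMap, (clsIsoOfFIso φ.tgt).nat, hyy, ← triv_comp_overMap]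
    exact triv_eq_of_iso ι
  let d₁ := FibCat.fpLift (AlgSt.overMap h) a₀ ε
  have hfib := fp_isFibGrpd (F := yU) (G := f) (isFibGrpd_overCat U) hX.fib hY.fib
  obtain ⟨t₀, ht₀⟩ := ofChart_surjective hfib hc' (AlgSt.Points.ofChart d₁ s)
  obtain ⟨T₂, p₁, p₂, ⟨i₂⟩, hjoint, -, -⟩ := exists_chart_fp hfib d₁ (repByAlgSp1_of_repByAlgSpWith hc)
  obtain ⟨r, hr, -⟩ := hjoint s t₀ ht₀.symm
  let dT := BasedFunctor.comp (AlgSt.overMap p₁) d
  let ε₁ : BasedFunctor.comp dT (FibCat.fpFst g' f') ≅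
      BasedFunctor.comp (AlgSt.overMap p₂) (BasedFunctor.comp cU u) :=
    whiskerLeftIso (AlgSt.overMap p₁) i₁ ≪≫ whiskerRightIso (whiskerRightIso i₂ (FibCat.fpFst yU f)) u
  obtain ⟨ε₂⟩ : Nonempty (BasedFunctor.comp dT (FibCat.fpSnd g' f') ≅
      BasedFunctor.comp (AlgSt.overMap p₂) a') := by
    have h₂ : triv (BasedFunctor.comp (AlgSt.overMap p₁) a₀) (Over.mk (𝟙 T₂)) =
        triv (BasedFunctor.comp (AlgSt.overMap p₂) (BasedFunctor.comp c (FibCat.fpSnd yU f))) (Over.mk (𝟙 T₂)) :=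
      triv_eq_of_iso (whiskerRightIso i₂ (FibCat.fpSnd yU f))
    have h₃ := congrArg ((clsIsoOfFIso φ.src).eqv T₂) h₂
    rw [triv_comp_overMap, triv_comp_overMap, (clsIsoOfFIso φ.src).nat, (clsIsoOfFIso φ.src).nat, ha₀, haa,
      ← triv_comp_overMap, ← triv_comp_overMap] at h₃
    exact exists_iso_of_triv h₃
  let θ : BasedFunctor.comp (AlgSt.overMap p₂) y₁ ≅ BasedFunctor.comp (AlgSt.overMap p₂) y₂ :=
    (whiskerRightIso ε₁ g').symm ≪≫ whiskerLeftIso dT (FibCat.fpIso g' f') ≪≫ whiskerRightIso ε₂ f'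
  let y := BasedFunctor.comp (AlgSt.overMap p₂) y₁
  let J : BasedFunctor.comp (AlgSt.overMap p₂) (pairOver y₁ y₂) ≅ BasedFunctor.comp y (FibCat.diag t) :=
    fpFunIso _ _ (Iso.refl _) θ.symm fun B => by
      let t' := FibCat.toSelf 𝒴'
      let 𝒦 := FibCat.selfOver (Over S)
      have b₁ : 𝒦.p.IsHomLift (𝟙 B.left) ((BasedFunctor.comp (AlgSt.overMap p₂) (pairOver y₁ y₂)).obj B).obj.iso.hom :=
        isHomLift_id_congr ((BasedFunctor.comp (AlgSt.overMap p₂) (pairOver y₁ y₂)).w_obj B)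
          ((BasedFunctor.comp (AlgSt.overMap p₂) (pairOver y₁ y₂)).obj B).property
      have b₂ : 𝒦.p.IsHomLift (𝟙 B.left) ((BasedFunctor.comp y (FibCat.diag t)).obj B).obj.iso.hom :=
        isHomLift_id_congr ((BasedFunctor.comp y (FibCat.diag t)).w_obj B)
          ((BasedFunctor.comp y (FibCat.diag t)).obj B).property
      have hα := fun {A C : FibCat.overCat T₂ ⥤ᵇ 𝒴'} (i : A ≅ C) =>
        (BasedFunctor.isHomLift_iff t' (𝟙 B.left) (isoApp i B).hom).2 (isoApp_lift i rfl)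
      have l₁ := hα (Iso.refl (BasedFunctor.comp (BasedFunctor.comp (AlgSt.overMap p₂) (pairOver y₁ y₂))
        (FibCat.fpFst t t)))
      have l₂ := hα θ.symm
      exact selfOver_lift_ext (T := B.left)
        (h₁ := haveI := l₁; haveI := b₂; IsHomLift.comp_lift_id_right' _ _ _ B.left _)
        (h₂ := haveI := l₂; haveI := b₁; IsHomLift.comp_lift_id_left' _ B.left _ _ _)
  let E₂ := FibCat.fpLift (AlgSt.overMap p₂) y J
  obtain ⟨K⟩ : Nonempty (BasedFunctor.comp E₂ Φ ≅ dT) := ⟨fpFunIso _ _ ε₁.symm ε₂.symm fun B => by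
    show g'.map (isoApp ε₁ B).inv ≫ (isoApp (whiskerLeftIso dT (FibCat.fpIso g' f')) B).hom =
      ((𝟙 _) ≫ (isoApp θ B).hom) ≫ f'.map (isoApp ε₂ B).inv
    show g'.map (isoApp ε₁ B).inv ≫ _ =
      ((𝟙 _) ≫ g'.map (isoApp ε₁ B).inv ≫ (isoApp (whiskerLeftIso dT (FibCat.fpIso g' f')) B).hom ≫
        f'.map (isoApp ε₂ B).hom) ≫ f'.map (isoApp ε₂ B).inv
    simp only [Category.id_comp, Category.assoc, ← Functor.map_comp, Iso.hom_inv_id]
    erw [f'.toFunctor.map_id, Category.comp_id]⟩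
  obtain ⟨r', hr'⟩ := hE (AlgSt.Points.ofChart E₂ r)
  refine ⟨r', ?_⟩
  rw [← map_ofChart, hr', map_ofChart, ← hd, ← hr, ← ofChart_overMap]
  exact pts_map_congr K (ptAt T₂ r)

end Groth.Agent.IsoNatLib
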