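import Groth.Agent.IsoNatLib.ProperInertia
import Groth.Agent.AlgStLib.Noetherian
import Groth.Agent.AlgStLib.LocQInst
import Groth.Agent.AlgStLib.SepUnivClosed
import Groth.Agent.FibBase.FpMaps

/-!
# Separatedness of morphisms is read off from classes on doubled traits
-/

set_option autoImplicit false
set_option backward.isDefEq.respectTransparency false
set_option backward.isDefEq.respectTransparency.types false

universe u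

open CategoryTheory CategoryTheory.Functor CategoryTheory.Limits AlgebraicGeometry AlgSp
  Groth.Agent.FibBase Groth.Agent.AlgStLib

namespace Groth.Agent.IsoNatLib

variable {S : Scheme.{u}}

/-- A discrete valuation ring over the base, with its fraction field. -/
structure Trait (S : Scheme.{u}) : Type (u + 1) where
  /-- the ring -/
  A : Type u
  [commRing : CommRing A]
  [isDomain : IsDomain A]
  [isDVR : IsDiscreteValuationRing A]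
  /-- the fraction field -/
  K : Type u
  [field : Field K]
  [algebra : Algebra A K]
  [isFractionRing : IsFractionRing A K]
  /-- the structure map -/
  str : Spec (.of A) ⟶ S

attribute [instance] Trait.commRing Trait.isDomain Trait.isDVR Trait.field Trait.algebra Trait.isFractionRing

/-- The trait as a scheme over the base. -/
noncomputable abbrev Trait.T (τ : Trait S) : Over S := Over.mk τ.str

/-- The generic point. -/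
noncomputable abbrev Trait.T' (τ : Trait S) : Over S :=
  Over.mk (Spec.map (CommRingCat.ofHom (algebraMap τ.A τ.K)) ≫ τ.str)

/-- The inclusion of the generic point. -/
noncomputable abbrev Trait.j (τ : Trait S) : τ.T' ⟶ τ.T :=
  Over.homMk (Spec.map (CommRingCat.ofHom (algebraMap τ.A τ.K))) rfl

instance Trait.isOpenImm (τ : Trait S) : IsOpenImmersion τ.j.left := isOpenImmersion_generic τ.A τ.K

instance Trait.isOpenImm' (τ : Trait S) :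
    IsOpenImmersion (Over.homMk τ.j (Category.comp_id _) : Over.mk τ.j ⟶ Over.mk (𝟙 τ.T)).left.left :=
  τ.isOpenImm

/-- The doubled trait. -/
noncomputable abbrev Trait.dbl (τ : Trait S) : Dbl (J S) τ.T :=
  openDbl (Over.homMk τ.j (Category.comp_id _) : Over.mk τ.j ⟶ Over.mk (𝟙 τ.T))

/-- The trait with the doubling map. -/
noncomputable abbrev Trait.fold (τ : Trait S) : τ.dbl.Z.left ⟶ τ.T := τ.dbl.Z.hom

lemma Trait.i₁_fold (τ : Trait S) : τ.dbl.i₁.left ≫ τ.fold = 𝟙 τ.T := Over.w τ.dbl.i₁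

lemma Trait.i₂_fold (τ : Trait S) : τ.dbl.i₂.left ≫ τ.fold = 𝟙 τ.T := Over.w τ.dbl.i₂

lemma Trait.isSchDense (τ : Trait S) : IsSchDense τ.j.left := by
  intro E i hi k hk
  have : IsDominant τ.j.left :=
    Groth.Agent.AlgSpVal.isDominant_generic (IsFractionRing.injective τ.A τ.K)
  have : IsReduced τ.T.left := inferInstanceAs (IsReduced (Spec (CommRingCat.of τ.A)))
  have : Surjective i := ⟨Set.range_eq_univ.1 (by
    rw [← (i.isClosedMap.isClosed_range).closure_eq]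
    refine Set.eq_univ_of_univ_subset (τ.j.left.denseRange.closure_eq ▸ closure_mono ?_)
    rintro _ ⟨x, rfl⟩
    exact ⟨k x, by rw [← hk]; rfl⟩)⟩
  exact isIso_of_isClosedImmersion_of_surjective _

variable {𝒳 𝒴 : AlgSt.Cat S}

/-- Isomorphisms over a generic point extend when their images do. -/
def SepLift (f : 𝒳 ⥤ᵇ 𝒴) : Prop :=
  ∀ (τ : Trait S) (u₁ u₂ : 𝒳.p.Fiber τ.T) (α : f.obj u₁.1 ≅ f.obj u₂.1),
    𝒴.p.IsHomLift (𝟙 τ.T) α.hom → ∀ (w : 𝒳.obj) (a₁ : w ⟶ u₁.1) (a₂ : w ⟶ u₂.1),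
      𝒳.p.IsHomLift τ.j a₁ → 𝒳.p.IsHomLift τ.j a₂ → f.map a₁ ≫ α.hom = f.map a₂ →
        ∃ γ : u₁.1 ⟶ u₂.1, 𝒳.p.IsHomLift (𝟙 τ.T) γ ∧ a₁ ≫ γ = a₂ ∧ f.map γ = α.hom

variable [FibCat.IsFibGrpd 𝒳.p] [FibCat.IsFibGrpd 𝒴.p]

/-- A class on a doubled trait whose image comes from the trait comes from the trait. -/
def ClsSep (f : 𝒳 ⥤ᵇ 𝒴) : Prop :=
  ∀ (τ : Trait S) (z : Cls 𝒳 τ.dbl.Z.left) (y : Cls 𝒴 τ.T),
    IsoNat.mapCls f τ.dbl.Z.left z = pull τ.fold y → ∃ x : Cls 𝒳 τ.T, z = pull τ.fold x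

variable {f : 𝒳 ⥤ᵇ 𝒴}

omit [FibCat.IsFibGrpd 𝒴.p] in
lemma isIso_over_id {T : Over S} {a b : 𝒳.obj} (φ : a ⟶ b) (h : 𝒳.p.IsHomLift (𝟙 T) φ) : IsIso φ :=
  isIso_of_lift (p := 𝒳.p) (𝟙 T) φ

omit [FibCat.IsFibGrpd 𝒳.p] in
lemma isHomLift_comp_fold (τ : Trait S) {i : τ.T ⟶ τ.dbl.Z.left} (hi : i ≫ τ.fold = 𝟙 τ.T) {a b c : 𝒴.obj}
    (φ : a ⟶ b) (ψ : b ⟶ c) (hφ : 𝒴.p.IsHomLift i φ) (hψ : 𝒴.p.IsHomLift τ.fold ψ) :
    𝒴.p.IsHomLift (𝟙 τ.T) (φ ≫ ψ) := by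
  rw [← hi]
  exact IsHomLift.comp 𝒴.p i τ.fold φ ψ

/-- The datum on the doubled trait. -/
noncomputable abbrev dblD (τ : Trait S) (x₁ x₂ w : 𝒳.obj) (a₁ : w ⟶ x₁) (a₂ : w ⟶ x₂)
    (h₁ : 𝒳.p.IsHomLift τ.j a₁) (h₂ : 𝒳.p.IsHomLift τ.j a₂) : Datum τ.dbl.cover (𝒳 := 𝒳) :=
  { x₁ := x₁, x₂ := x₂, w := w, a₁ := a₁, a₂ := a₂, lift₁ := h₁, lift₂ := h₂ }

/-- A gluing pulled back from the trait. -/
theorem exists_glued_fold (τ : Trait S) {x₁ x₂ w : 𝒳.obj} (a₁ : w ⟶ x₁) (a₂ : w ⟶ x₂)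
    (h₁ : 𝒳.p.IsHomLift τ.j a₁) (h₂ : 𝒳.p.IsHomLift τ.j a₂) {y : 𝒳.obj} (hy : 𝒳.p.obj y = τ.T)
    (c₁ : x₁ ⟶ y) (c₂ : x₂ ⟶ y) (hc₁ : 𝒳.p.IsHomLift (𝟙 τ.T) c₁) (hc₂ : 𝒳.p.IsHomLift (𝟙 τ.T) c₂)
    (h : a₁ ≫ c₁ = a₂ ≫ c₂) :
    ∃ (G : Glued (dblD τ x₁ x₂ w a₁ a₂ h₁ h₂)) (n : G.z ⟶ y), 𝒳.p.IsHomLift τ.fold n := by
  obtain ⟨x', n, hn⟩ := exists_lift_of_eq (p := 𝒳.p) inferInstance hy τ.fold
  have := isSC (p := 𝒳.p) τ.fold n
  let d₁ := IsStronglyCartesian.map 𝒳.p τ.fold n (g := τ.dbl.i₁.left) (f' := 𝟙 τ.T) τ.i₁_fold.symm c₁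
  let d₂ := IsStronglyCartesian.map 𝒳.p τ.fold n (g := τ.dbl.i₂.left) (f' := 𝟙 τ.T) τ.i₂_fold.symm c₂
  have e₁ : d₁ ≫ n = c₁ := IsStronglyCartesian.fac _ _ _ _ _
  have e₂ : d₂ ≫ n = c₂ := IsStronglyCartesian.fac _ _ _ _ _
  have hd₁ : 𝒳.p.IsHomLift τ.dbl.i₁.left d₁ :=
    inferInstanceAs (𝒳.p.IsHomLift τ.dbl.i₁.left (IsStronglyCartesian.map 𝒳.p τ.fold n τ.i₁_fold.symm c₁))
  have hd₂ : 𝒳.p.IsHomLift τ.dbl.i₂.left d₂ :=
    inferInstanceAs (𝒳.p.IsHomLift τ.dbl.i₂.left (IsStronglyCartesian.map 𝒳.p τ.fold n τ.i₂_fold.symm c₂))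
  refine ⟨{ z := x', b₁ := d₁, b₂ := d₂, lift₁ := hd₁, lift₂ := hd₂, comm := ?_ }, n, hn⟩
  have l₁ : 𝒳.p.IsHomLift (τ.j ≫ τ.dbl.i₁.left) (a₁ ≫ d₁) := IsHomLift.comp 𝒳.p _ _ _ _
  have l₂ : 𝒳.p.IsHomLift (τ.j ≫ τ.dbl.i₁.left) (a₂ ≫ d₂) := by
    rw [show τ.j ≫ τ.dbl.i₁.left = τ.j ≫ τ.dbl.i₂.left from τ.dbl.sq.w]
    exact IsHomLift.comp 𝒳.p _ _ _ _
  refine IsStronglyCartesian.ext 𝒳.p τ.fold n (τ.j ≫ τ.dbl.i₁.left) ?_
  show (a₁ ≫ d₁) ≫ n = (a₂ ≫ d₂) ≫ n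
  rw [Category.assoc, Category.assoc, e₁, e₂, h]

theorem clsSep_of_sepLift (hX : Stk.IsStack (J S) 𝒳) (H : SepLift f) : ClsSep f := by
  intro τ z y hzy
  obtain ⟨z, rfl⟩ := Quotient.exists_rep z
  obtain ⟨y, rfl⟩ := Quotient.exists_rep y
  obtain ⟨u₁, b₁, hb₁⟩ := exists_fiber_lift τ.dbl.i₁.left z
  obtain ⟨u₂, b₂, hb₂⟩ := exists_fiber_lift τ.dbl.i₂.left z
  obtain ⟨w, a₁, ha₁⟩ := exists_fiber_lift τ.j u₁
  have := isSC (p := 𝒳.p) τ.dbl.i₂.left b₂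
  have hw₁ : 𝒳.p.IsHomLift (τ.j ≫ τ.dbl.i₁.left) (a₁ ≫ b₁) := IsHomLift.comp 𝒳.p _ _ _ _
  have hsq : τ.j ≫ τ.dbl.i₁.left = τ.j ≫ τ.dbl.i₂.left := τ.dbl.sq.w
  let a₂ := IsStronglyCartesian.map 𝒳.p τ.dbl.i₂.left b₂ (g := τ.j) (f' := τ.j ≫ τ.dbl.i₁.left) hsq (a₁ ≫ b₁)
  have ea : a₂ ≫ b₂ = a₁ ≫ b₁ := IsStronglyCartesian.fac _ _ _ _ _
  have ha₂ : 𝒳.p.IsHomLift τ.j a₂ :=
    inferInstanceAs (𝒳.p.IsHomLift τ.j (IsStronglyCartesian.map 𝒳.p τ.dbl.i₂.left b₂ hsq (a₁ ≫ b₁)))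
  -- the isomorphism of images
  obtain ⟨y', ζ, hζ⟩ := exists_fiber_lift τ.fold y
  rw [pull_cl τ.fold ζ] at hzy
  obtain ⟨ι⟩ : Nonempty ((IsoNat.fibFun f τ.dbl.Z.left).obj z ≅ y') := Quotient.exact hzy
  have := ι.hom.2
  have hιζ : 𝒴.p.IsHomLift τ.fold (ι.hom.1 ≫ ζ) :=
    IsHomLift.comp_lift_id_left' 𝒴.p τ.dbl.Z.left ι.hom.1 τ.fold ζ
  let c₁ : f.obj u₁.1 ⟶ y.1 := f.map b₁ ≫ ι.hom.1 ≫ ζ
  let c₂ : f.obj u₂.1 ⟶ y.1 := f.map b₂ ≫ ι.hom.1 ≫ ζ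
  have hc₁ : 𝒴.p.IsHomLift (𝟙 τ.T) c₁ :=
    isHomLift_comp_fold τ τ.i₁_fold (f.map b₁) (ι.hom.1 ≫ ζ) (f.preserves_isHomLift _ b₁) hιζ
  have hc₂ : 𝒴.p.IsHomLift (𝟙 τ.T) c₂ :=
    isHomLift_comp_fold τ τ.i₂_fold (f.map b₂) (ι.hom.1 ≫ ζ) (f.preserves_isHomLift _ b₂) hιζ
  have := isIso_over_id c₂ hc₂
  have := isIso_over_id c₁ hc₁
  have := IsHomLift.lift_id_inv_isIso 𝒴.p τ.T c₂
  have hα : 𝒴.p.IsHomLift (𝟙 τ.T) (c₁ ≫ inv c₂) := IsHomLift.comp_lift_id_right' 𝒴.p _ c₁ τ.T _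
  have he : f.map a₁ ≫ c₁ = f.map a₂ ≫ c₂ := by
    simp only [c₁, c₂, ← Category.assoc, ← f.toFunctor.map_comp, ea]
  obtain ⟨γ, hγ, hγ₁, -⟩ := H τ u₁ u₂ (asIso (c₁ ≫ inv c₂)) hα w.1 a₁ a₂ ha₁ ha₂ (by
    rw [asIso_hom, ← Category.assoc, he, Category.assoc, IsIso.hom_inv_id, Category.comp_id])
  obtain ⟨G', n, hn⟩ := exists_glued_fold τ a₁ a₂ ha₁ ha₂ u₂.2 γ (𝟙 u₂.1) hγ (IsHomLift.id u₂.2)
    (by rw [hγ₁, Category.comp_id])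
  let G : Glued (dblD τ u₁.1 u₂.1 w.1 a₁ a₂ ha₁ ha₂) :=
    { z := z.1, b₁ := b₁, b₂ := b₂, lift₁ := hb₁, lift₂ := hb₂, comm := ea.symm }
  obtain ⟨e, he', -, -⟩ := exists_iso_glued hX τ.dbl.cov G G'
  refine ⟨cl u₂, ?_⟩
  rw [pull_cl τ.fold (y := ⟨G'.z, G'.proj⟩) n]
  exact Quotient.sound ⟨fiberIsoMk e he'⟩

theorem sepLift_of_clsSep (hX : Stk.IsStack (J S) 𝒳) (hY : Stk.IsStack (J S) 𝒴)
    (hd : AlgSt.RepByAlgSpWith IsSeparatedMor (FibCat.diag (FibCat.toSelf 𝒴))) (H : ClsSep f) : SepLift f := by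
  intro τ u₁ u₂ α hα w a₁ a₂ ha₁ ha₂ h
  obtain ⟨G⟩ := exists_glued hX τ.dbl.cov (dblD τ u₁.1 u₂.1 w a₁ a₂ ha₁ ha₂)
  have hb₁ := G.lift₁
  have hb₂ := G.lift₂
  have hf₁ : 𝒴.p.IsHomLift τ.j (f.map a₁) := f.preserves_isHomLift _ a₁
  have hf₂ : 𝒴.p.IsHomLift τ.j (f.map a₂) := f.preserves_isHomLift _ a₂
  obtain ⟨G', n, hn⟩ := exists_glued_fold τ (f.map a₁) (f.map a₂) hf₁ hf₂
    ((f.w_obj u₂.1).trans u₂.2) α.hom (𝟙 _) hα (IsHomLift.id ((f.w_obj u₂.1).trans u₂.2))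
    (by rw [h, Category.comp_id])
  let Gf : Glued (dblD τ (f.obj u₁.1) (f.obj u₂.1) (f.obj w) (f.map a₁) (f.map a₂) hf₁ hf₂) :=
    { z := f.obj G.z, b₁ := f.map G.b₁, b₂ := f.map G.b₂, lift₁ := f.preserves_isHomLift _ G.b₁,
      lift₂ := f.preserves_isHomLift _ G.b₂, comm := by
        rw [← f.toFunctor.map_comp, ← f.toFunctor.map_comp, G.comm] }
  obtain ⟨e, he, -, -⟩ := exists_iso_glued hY τ.dbl.cov Gf G'
  obtain ⟨x, hx⟩ := H τ (cl ⟨G.z, G.proj⟩) (cl (⟨f.obj u₂.1, (f.w_obj u₂.1).trans u₂.2⟩ : 𝒴.p.Fiber τ.T)) (by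
    rw [pull_cl τ.fold (y := ⟨G'.z, G'.proj⟩) n]
    exact Quotient.sound ⟨fiberIsoMk e he⟩)
  obtain ⟨x, rfl⟩ := Quotient.exists_rep x
  obtain ⟨ζ, hζ⟩ := exists_lift_of_pull_eq τ.fold hx.symm
  let c₁ : u₁.1 ⟶ x.1 := G.b₁ ≫ ζ
  let c₂ : u₂.1 ⟶ x.1 := G.b₂ ≫ ζ
  have hc₁ : 𝒳.p.IsHomLift (𝟙 τ.T) c₁ := isHomLift_comp_fold τ τ.i₁_fold G.b₁ ζ hb₁ hζ
  have hc₂ : 𝒳.p.IsHomLift (𝟙 τ.T) c₂ := isHomLift_comp_fold τ τ.i₂_fold G.b₂ ζ hb₂ hζ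
  have := isIso_over_id c₂ hc₂
  have := isIso_over_id c₁ hc₁
  have := IsHomLift.lift_id_inv_isIso 𝒳.p τ.T c₂
  have hγ : 𝒳.p.IsHomLift (𝟙 τ.T) (c₁ ≫ inv c₂) := IsHomLift.comp_lift_id_right' 𝒳.p _ c₁ τ.T _
  have hγ₁ : a₁ ≫ c₁ ≫ inv c₂ = a₂ := by
    rw [← Category.assoc, IsIso.comp_inv_eq]
    show a₁ ≫ G.b₁ ≫ ζ = a₂ ≫ G.b₂ ≫ ζ
    have hc := G.comm
    dsimp only at hc
    rw [← Category.assoc, hc, Category.assoc]
  refine ⟨c₁ ≫ inv c₂, hγ, hγ₁, ?_⟩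
  -- both extend the same isomorphism at the generic point
  obtain ⟨K, ek, hek⟩ := exists_overCat_obj (𝒳 := 𝒴) inferInstance (U := τ.T) (f.obj u₁.1)
    ((f.w_obj u₁.1).trans u₁.2)
  have hfγ : 𝒴.p.IsHomLift (𝟙 τ.T) (f.map (c₁ ≫ inv c₂)) := f.preserves_isHomLift _ _
  have := isIso_over_id _ hfγ
  have := IsHomLift.lift_id_inv_isIso 𝒴.p τ.T (f.map (c₁ ≫ inv c₂))
  let δ : f.obj u₁.1 ≅ f.obj u₁.1 := α ≪≫ (asIso (f.map (c₁ ≫ inv c₂))).symm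
  have hδ : 𝒴.p.IsHomLift (𝟙 τ.T) δ.hom :=
    IsHomLift.comp_lift_id_right' 𝒴.p _ α.hom τ.T (inv (f.map (c₁ ≫ inv c₂)))
  have hδ₁ : f.map a₁ ≫ δ.hom = f.map a₁ := by
    show f.map a₁ ≫ α.hom ≫ inv _ = _
    rw [← Category.assoc, h, IsIso.comp_inv_eq, ← f.toFunctor.map_comp, hγ₁]
  let φ : Over.mk τ.j ⟶ Over.mk (𝟙 τ.T) := Over.homMk τ.j (Category.comp_id _)
  have hinj : Function.Injective (res (K := K) φ) := res_injective_of_dense hd φ τ.isSchDense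
  have hek' : 𝒴.p.IsHomLift (𝟙 τ.T) (ek ≪≫ δ ≪≫ ek.symm).hom := by
    have := IsHomLift.lift_id_inv 𝒴.p τ.T ek
    have : 𝒴.p.IsHomLift (𝟙 τ.T) (δ ≪≫ ek.symm).hom :=
      IsHomLift.comp_lift_id_right' 𝒴.p _ δ.hom τ.T ek.inv
    exact IsHomLift.comp_lift_id_right' 𝒴.p _ ek.hom τ.T _
  let γ' : AutAt K (Over.mk (𝟙 τ.T)) :=
    fiberIsoMk (a := fib K (Over.mk (𝟙 τ.T))) (b := fib K (Over.mk (𝟙 τ.T))) (ek ≪≫ δ ≪≫ ek.symm) hek'
  have hφ : 𝒴.p.IsHomLift τ.j (K.map φ ≫ ek.hom) := by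
    have : 𝒴.p.IsHomLift τ.j (K.map φ) := overMap_isHomLift K φ
    exact IsHomLift.comp_lift_id_right' 𝒴.p τ.j _ τ.T ek.hom
  obtain ⟨i, -, hi⟩ := exists_iso_of_lifts (p := 𝒴.p) τ.j (f.map a₁) (K.map φ ≫ ek.hom)
  have h1 : γ' = 1 := by
    refine hinj ?_
    rw [_root_.map_one]
    refine res_eq φ ?_
    show 𝟙 _ ≫ K.map φ = K.map φ ≫ ek.hom ≫ δ.hom ≫ ek.inv
    rw [← Category.assoc (K.map φ), ← hi, Category.assoc, ← Category.assoc (f.map a₁), hδ₁, ← Category.assoc, hi,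
      Category.assoc, ek.hom_inv_id, Category.comp_id, Category.id_comp]
  have h2 : ek.hom ≫ δ.hom ≫ ek.inv = 𝟙 _ := congrArg (fun s : AutAt K (Over.mk (𝟙 τ.T)) => s.hom.1) h1
  have h3 : δ.hom = 𝟙 _ := by
    rw [← cancel_epi ek.hom, ← cancel_mono ek.inv, Category.assoc, h2, Category.comp_id, ek.hom_inv_id]
  have h4 : α.hom ≫ inv (f.map (c₁ ≫ inv c₂)) = 𝟙 _ := h3
  rw [IsIso.comp_inv_eq, Category.id_comp] at h4
  exact h4.symm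

theorem sepLift_of_proper (hp : AlgSt.RepByAlgSpWith IsProperMor (FibCat.diag f)) : SepLift f := by
  intro τ u₁ u₂ α hα w a₁ a₂ ha₁ ha₂ h
  have hff : FibCat.IsFibGrpd (FibCat.fp f f).p :=
    fp_isFibGrpd (F := f) (G := f) inferInstance inferInstance inferInstance
  let η₀ : (FibCat.fp f f).obj := ⟨⟨u₁.1, u₂.1, α⟩, isHomLift_id_congr u₁.2.symm hα⟩
  obtain ⟨c, e, he⟩ := exists_overCat_obj (𝒳 := FibCat.fp f f) hff (U := τ.T) η₀ u₁.2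
  obtain ⟨F, E, hE, hP⟩ := hp τ.T c
  have hZ : FibCat.IsFibGrpd (FibCat.fp c (FibCat.diag f)).p :=
    fp_isFibGrpd (isFibGrpd_overCat τ.T) inferInstance hff
  obtain ⟨pt, hpt, hinj, hsurj, hproj⟩ := exists_ptMap hZ hE
  -- the point over the generic point
  let φ : Over.mk τ.j ⟶ Over.mk (𝟙 τ.T) := Over.homMk τ.j (Category.comp_id _)
  let mw : (FibCat.diag f).obj w ⟶ η₀ := ObjectProperty.homMk ⟨a₁, a₂, by
    show f.map a₁ ≫ α.hom = 𝟙 _ ≫ f.map a₂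
    rw [Category.id_comp, h]⟩
  have hmw : (FibCat.fp f f).p.IsHomLift τ.j mw := fp_isHomLift τ.j mw (h := ha₁)
  have hc : (FibCat.fp f f).p.IsHomLift τ.j (c.map φ ≫ e.hom) := by
    have : (FibCat.fp f f).p.IsHomLift τ.j (c.map φ) := overMap_isHomLift c φ
    exact IsHomLift.comp_lift_id_right' _ τ.j _ τ.T e.hom
  obtain ⟨i, hi, hie⟩ := exists_iso_of_lifts (p := (FibCat.fp f f).p) (hp := hff) τ.j mw (c.map φ ≫ e.hom)
  let p : (FibCat.fp c (FibCat.diag f)).p.Fiber τ.T' := ⟨⟨⟨Over.mk τ.j, w, i⟩, hi⟩, rfl⟩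
  let a := AlgSt.spMapOfOver (BasedFunctor.comp E (FibCat.fpFst c (FibCat.diag f)))
  have hpa : pt τ.T' p ≫ a = (yon S).map τ.j :=
    (hproj τ.T (FibCat.fpFst c (FibCat.diag f)) τ.T' p).trans (congrArg (yon S).map (Category.id_comp _))
  let sq : ValSq a :=
    { A := τ.A, K := τ.K, str := τ.str, top := pt τ.T' p, bot := 𝟙 _,
      comm := by rw [Category.comp_id]; exact hpa }
  have hqs : IsQuasiSeparatedMor a := properInertia_of_clsIso.repWith_mono' hP.1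
  have hlift : sq.HasLift :=
    (Groth.Agent.AlgSpVal.existVC_iff_strict_of_isSeparatedMor F.property (IsAlgSpace.yon_obj _) hP.1).1
      (Groth.Agent.AlgSpVal.existVC_of_univClosed F.property (IsAlgSpace.yon_obj _) hqs hP.2.2) sq
  obtain ⟨l, hl₁, hl₂⟩ := hlift
  obtain ⟨q, rfl⟩ := hsurj τ.T l
  obtain ⟨q', n, hn⟩ := exists_lift_of_eq hZ q.2 τ.j
  obtain ⟨ι⟩ := hinj τ.T' p ⟨q', IsHomLift.domain_eq _ τ.j n⟩
    (hl₁.symm.trans (hpt τ.T' τ.T τ.j q ⟨q', IsHomLift.domain_eq _ τ.j n⟩ n hn))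
  have hι := ι.hom.2
  let N : p.1 ⟶ q.1 := ι.hom.1 ≫ n
  have hN : (FibCat.fp c (FibCat.diag f)).p.IsHomLift τ.j N := IsHomLift.comp_lift_id_left' _ τ.T' ι.hom.1 τ.j n
  obtain ⟨⟨⟨B, x, i'⟩, hi'⟩, hqT⟩ := q
  obtain ⟨bL, ⟨⟨⟩⟩, bh⟩ := B
  have hqT' : bL = τ.T := hqT
  subst hqT'
  have hbh : bh = 𝟙 _ := (yon S).map_injective (by
    rw [(yon S).map_id]
    refine Eq.trans ?_ hl₂
    exact ((hproj τ.T (FibCat.fpFst c (FibCat.diag f)) τ.T ⟨⟨⟨Over.mk bh, x, i'⟩, hi'⟩, rfl⟩).trans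
      (congrArg (yon S).map (Category.id_comp _))).symm)
  subst hbh
  have hi'' : (FibCat.fp f f).p.IsHomLift (𝟙 τ.T) i'.hom := hi'
  have := IsHomLift.lift_id_inv (FibCat.fp f f).p τ.T e
  let ψ : η₀ ⟶ (FibCat.diag f).obj x := e.inv ≫ i'.hom
  have hψ : (FibCat.fp f f).p.IsHomLift (𝟙 τ.T) ψ := IsHomLift.comp_lift_id_right' _ _ e.inv τ.T i'.hom
  have hψ₁ : 𝒳.p.IsHomLift (𝟙 τ.T) ψ.hom.fst := fp_isHomLift_fst _ ψ
  have hψ₂ : 𝒳.p.IsHomLift (𝟙 τ.T) ψ.hom.snd := fp_isHomLift_snd' _ ψ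
  have hN₁ : N.hom.fst = φ := Over.OverMorphism.ext (by
    have hl : (Over.forget τ.T).IsHomLift τ.j N.hom.fst := fp_isHomLift_fst _ N
    have := IsHomLift.fac (Over.forget τ.T) τ.j N.hom.fst
    simpa [φ] using this.symm)
  have hsq : mw ≫ ψ = (FibCat.diag f).map N.hom.snd := by
    have hw' : c.map N.hom.fst ≫ i'.hom = i.hom ≫ (FibCat.diag f).map N.hom.snd := N.hom.w
    rw [hN₁] at hw'
    rw [← cancel_epi i.hom, reassoc_of% hie, Iso.hom_inv_id_assoc]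
    exact hw'
  have := isIso_over_id ψ.hom.snd hψ₂
  have := IsHomLift.lift_id_inv_isIso 𝒳.p τ.T ψ.hom.snd
  refine ⟨ψ.hom.fst ≫ inv ψ.hom.snd, IsHomLift.comp_lift_id_right' _ _ _ τ.T _, ?_, ?_⟩
  · rw [← Category.assoc, IsIso.comp_inv_eq]
    exact (congrArg (fun k => k.hom.fst) hsq).trans (congrArg (fun k => k.hom.snd) hsq).symm
  · rw [f.toFunctor.map_comp, f.toFunctor.map_inv, IsIso.comp_inv_eq]
    exact (Category.comp_id _).symm.trans ψ.hom.w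

theorem proper_of_sepLift (hX : Nice 𝒳) (hY : Nice 𝒴) (hft : AlgSt.LocQ (LocP @LocallyOfFiniteType) f)
    (hN : AlgSt.SmoothLocally (fun X => IsLocallyNoetherian X) 𝒴) (H : SepLift f) :
    AlgSt.RepByAlgSpWith IsProperMor (FibCat.diag f) := by
  have h1 := repByAlgSp1_diag hX.alg.diag hY.alg.diag f
  have hsep : AlgSt.RepByAlgSpWith IsSeparatedMor (FibCat.diag f) :=
    repByAlgSpWith_diag_of_comp stableBC_isSeparatedMor cancels_isSeparatedMor (repByAlgSp1_iff_top.1 hY.alg.diag)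
      (repByAlgSpWith_diag_congr (comp_toSelf f) hX.sep)
  have hqc : AlgSt.RepByAlgSpWith qcqs (FibCat.diag f) :=
    repByAlgSpWith_diag_of_comp stableBC_qcqs cancels_qcqs
      (repByAlgSpWith_mono (fun _ _ _ h => properInertia_of_clsIso.repWith_mono' h) hY.sep)
      (repByAlgSpWith_diag_congr (comp_toSelf f)
        (repByAlgSpWith_mono (fun _ _ _ h => ⟨h.2, properInertia_of_clsIso.repWith_mono' h.1⟩) hX.diag))
  have hlft := repByAlgSpWith_lft_diag hX.alg hY.alg f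
  have hall := repByAlgSpWith_and stableBC_locP hlft (repByAlgSpWith_and stableBC_isSeparatedMor hsep hqc)
  have hfp := isAlgStack_fp hX.alg hX.alg hY.alg.isStack hY.alg.diag f f
  have hNfp : AlgSt.SmoothLocally (fun X => IsLocallyNoetherian X) (FibCat.fp f f) :=
    smoothLocally_noetherian_of_lft hfp hX.alg
      (locQ_fpFst Groth.Agent.AlgSpLib.isSmoothLocalST_lft stableBC_locP hX.alg hY.alg hX.alg f hft)
      (smoothLocally_noetherian_of_lft hX.alg hY.alg hft hN)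
  obtain ⟨W, c, hc, hc'⟩ := hfp.atlas
  obtain ⟨F, E, hE, hF⟩ := hall W c
  have hff : FibCat.IsFibGrpd (FibCat.fp f f).p := hfp.isStack.1
  have hZ : FibCat.IsFibGrpd (FibCat.fp c (FibCat.diag f)).p :=
    fp_isFibGrpd (isFibGrpd_overCat W) inferInstance hff
  obtain ⟨pt, hpt, hinj, hsurj, hproj⟩ := exists_ptMap hZ hE
  let a := AlgSt.spMapOfOver (BasedFunctor.comp E (FibCat.fpFst c (FibCat.diag f)))
  have hP : IsProperMor a :=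
    (Groth.Agent.AlgSpVal.isProperMor_iff_dvr F.property (IsAlgSpace.yon_obj W)
      (properInertia_of_clsIso.repWith_mono' hF.2.1) ⟨hF.1, hF.2.2.1⟩ (etaleLocally_yon (hNfp W c hc))).2
    fun sq hA => ⟨?_, Groth.Agent.AlgSpVal.uniqVC_of_isSeparatedMor hF.2.1 sq⟩
  swap
  · let τ : Trait S := { A := sq.A, K := sq.K, str := sq.str }
    obtain ⟨b, hb⟩ := (yon S).map_surjective sq.bot
    obtain ⟨p, hp⟩ := hsurj τ.T' sq.top
    obtain ⟨⟨⟨B, x, i⟩, hi⟩, hpT⟩ := p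
    obtain ⟨bL, ⟨⟨⟩⟩, bh⟩ := B
    have hpT' : bL = τ.T' := hpT
    subst hpT'
    have hbh : bh = τ.j ≫ b := (yon S).map_injective (by
      rw [Functor.map_comp]
      refine Eq.trans ?_ ((congrArg (fun z => z ≫ a) hp).trans (sq.comm.trans (congrArg ((yon S).map τ.j ≫ ·) hb.symm)))
      exact ((hproj W (FibCat.fpFst c (FibCat.diag f)) τ.T' _).trans
        (congrArg (yon S).map (Category.id_comp _))).symm)
    subst hbh
    have hi' : (FibCat.fp f f).p.IsHomLift (𝟙 τ.T') i.hom := hi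
    have := IsHomLift.lift_id_inv (FibCat.fp f f).p τ.T' i
    have : (FibCat.fp f f).p.IsHomLift τ.j (c.map (ovHom τ.j b)) := overMap_isHomLift c (ovHom τ.j b)
    let m : (FibCat.diag f).obj x ⟶ c.obj (Over.mk b) := i.inv ≫ c.map (ovHom τ.j b)
    have hm : (FibCat.fp f f).p.IsHomLift τ.j m := IsHomLift.comp_lift_id_left' _ τ.T' i.inv τ.j _
    let η := c.obj (Over.mk b)
    have hη : (FibCat.fp f f).p.obj η = τ.T := c.w_obj (Over.mk b)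
    have hη₁ : 𝒳.p.obj η.obj.fst = τ.T := hη
    have hη₂ : 𝒳.p.obj η.obj.snd = τ.T := (snd_proj η).trans hη
    obtain ⟨γ, hγ, hγ₁, hγ₂⟩ := H τ ⟨η.obj.fst, hη₁⟩ ⟨η.obj.snd, hη₂⟩ η.obj.iso
      (isHomLift_id_congr hη₁ η.property) x m.hom.fst m.hom.snd (fp_isHomLift_fst τ.j m) (fp_isHomLift_snd' τ.j m)
      (m.hom.w.trans (Category.id_comp _))
    have := isIso_over_id γ hγ
    let i' : c.obj (Over.mk b) ≅ (FibCat.diag f).obj η.obj.snd :=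
      fpIsoMk (x := c.obj (Over.mk b)) (y := (FibCat.diag f).obj η.obj.snd) (asIso γ) (Iso.refl _) (by
        show f.map γ ≫ 𝟙 _ = η.obj.iso.hom ≫ f.map (𝟙 _)
        rw [f.toFunctor.map_id, Category.comp_id, Category.comp_id, hγ₂])
    have hi'' : (FibCat.fp f f).p.IsHomLift (𝟙 τ.T) i'.hom := fpIsoMk_lift _ _ _ (h := hγ)
    let q : (FibCat.fp c (FibCat.diag f)).p.Fiber τ.T := ⟨⟨⟨Over.mk b, η.obj.snd, i'⟩, hi''⟩, rfl⟩
    refine ⟨pt τ.T q, ?_, ?_⟩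
    · refine Eq.trans ?_ hp
      refine hpt τ.T' τ.T τ.j q _ (ObjectProperty.homMk ⟨ovHom τ.j b, m.hom.snd, ?_⟩) ?_
      · have hcm : c.map (ovHom τ.j b) = i.hom ≫ m := (Iso.hom_inv_id_assoc i _).symm
        show c.map (ovHom τ.j b) ≫ i'.hom = i.hom ≫ (FibCat.diag f).map m.hom.snd
        rw [hcm, Category.assoc]
        congr 1
        refine ObjectProperty.hom_ext _ (CategoricalPullback.hom_ext ?_ ?_)
        · exact hγ₁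
        · exact Category.comp_id _
      · exact fp_isHomLift τ.j _ (h := exists_triRep.isHomLift_of_left (ovHom τ.j b) rfl)
    · exact ((hproj W (FibCat.fpFst c (FibCat.diag f)) τ.T q).trans
        (congrArg (yon S).map (Category.id_comp _))).trans hb
  refine repByAlgSpWith_of_locEssSurj stableBC_isProperMor
    (isLocalOnBase_fppf_of_fpqc Groth.Agent.AlgSpLib.isLocalOnBase_fpqc_isProperMor) h1
    (locEssSurj_of_atlas hc hc') ?_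
  exact (repByAlgSpWith_iff_of_square (f := FibCat.fpFst c (FibCat.diag f)) (f' := AlgSt.ofSpMap a) (a := E)
    (b := AlgSt.toOverCat W) hE (isEquivOver_toOverCat W)
    (isoSpMapOfOver (BasedFunctor.comp E (FibCat.fpFst c (FibCat.diag f)))).symm).2
    (repByAlgSpWith_ofSpMap stableBC_isProperMor F.property (IsAlgSpace.yon_obj W) a hP)

theorem clsSep_transfer {𝒳' 𝒴' : AlgSt.Cat S} [FibCat.IsFibGrpd 𝒳'.p] [FibCat.IsFibGrpd 𝒴'.p] {f' : 𝒳' ⥤ᵇ 𝒴'}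
    (φ : IsoNat.FIsoSq f f') (H : ClsSep f) : ClsSep f' := by
  intro τ z y h
  obtain ⟨z₀, rfl⟩ := ((clsIsoOfFIso φ.src).eqv _).surjective z
  obtain ⟨y₀, rfl⟩ := ((clsIsoOfFIso φ.tgt).eqv _).surjective y
  rw [← ClsIso.nat] at h
  obtain ⟨x, rfl⟩ := H τ z₀ y₀ (((clsIsoOfFIso φ.tgt).eqv _).injective ((φ.comm _ z₀).trans h))
  exact ⟨_, ClsIso.nat _ _ _⟩

end Groth.Agent.IsoNatLib
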