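import Groth.Agent.IsoNatLib.Kernel
import Groth.Agent.IsoNatLib.IsoMap
import Groth.Agent.IsoNatLib.Main

/-!
# Charts by the base: isomorphisms from classes when automorphisms commute
-/

set_option autoImplicit false
set_option backward.isDefEq.respectTransparency false
set_option backward.isDefEq.respectTransparency.types false

universe u

open CategoryTheory CategoryTheory.Functor CategoryTheory.Limits AlgebraicGeometry AlgSp Groth.Agent.FibBase
  Groth.Agent.StkLib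

namespace Groth.Agent.IsoNatLib

variable {S : Scheme.{u}}

/-- The comparison of automorphisms commutes with change of base. -/
theorem comparison_natural {𝒳 𝒴 : AlgSt.Cat S} [FibCat.IsFibGrpd 𝒳.p] [FibCat.IsFibGrpd 𝒴.p] {T T' : Over S}
    (φ : T' ⟶ T) (hst : Stk.IsStack (J S) 𝒳) (hst' : Stk.IsStack (J S) 𝒴) (ψ : ClsIso 𝒳 𝒴)
    (K : FibCat.overCat T ⥤ᵇ 𝒳) {K' : FibCat.overCat T ⥤ᵇ 𝒴}
    (hc : ∀ a b : AutAt (pushK φ K') (Over.mk (𝟙 T')), a * b = b * a)
    (hinj : Function.Injective (res (K := pushK φ K') (gadgetSys T').L.j))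
    {a : AutAt K (Over.mk (𝟙 T))} {b : AutAt K' (Over.mk (𝟙 T))} {b' : AutAt (pushK φ K') (Over.mk (𝟙 T'))}
    (h : ψ.eqv _ (Φ hst (gadgetSys T).D₂ ![1, a]) = Φ hst' (gadgetSys T).D₂ ![1, b])
    (h' : ψ.eqv _ (Φ hst (gadgetSys T').D₂ ![1, pushAut φ K a]) = Φ hst' (gadgetSys T').D₂ ![1, b']) :
    b' = pushAut φ K' b := by
  have e := (ψ.nat _ _).trans (congrArg (pull (pushAxes φ (0 : Fin 2)).Z.left) h)
  have e₁ := pull_Φ_axes φ hst K (0 : Fin 2) ![1, a]
  have e₂ := pull_Φ_axes φ hst' K' (0 : Fin 2) ![1, b]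
  have f₁ : (fun i => pushAut φ K (![1, a] i)) = ![1, pushAut φ K a] := by
    funext i; fin_cases i
    · exact map_one (res (K := K) _)
    · rfl
  have f₂ : (fun i => pushAut φ K' (![1, b] i)) = ![1, pushAut φ K' b] := by
    funext i; fin_cases i
    · exact map_one (res (K := K') _)
    · rfl
  rw [f₁] at e₁
  rw [f₂] at e₂
  have e₃ : Φ hst' (gadgetSys T').D₂ ![1, b'] = Φ hst' (gadgetSys T').D₂ ![1, pushAut φ K' b] :=
    h'.symm.trans ((congrArg (ψ.eqv _) e₁.symm).trans (e.trans e₂))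
  simpa using (Φ₂_eq_iff hst' (gadgetSys T') hinj hc _ _).1 e₃

variable {U : Over S} (hU : IsTerminal U)

/-- The only functor between slices. -/
def chartAt (T : Over S) : FibCat.overCat T ⥤ᵇ FibCat.overCat U where
  toFunctor :=
    { obj := fun V => Over.mk (hU.from V.left)
      map := fun f => Over.homMk f.left (hU.hom_ext _ _)
      map_id := fun _ => rfl
      map_comp := fun _ _ => rfl }
  w := rfl

variable {𝒳 𝒴 : AlgSt.Cat S} [FibCat.IsFibGrpd 𝒳.p] [FibCat.IsFibGrpd 𝒴.p]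

lemma res_chartAt (x : FibCat.overCat U ⥤ᵇ 𝒳) {T : Over S} {V V' : Over T} (a : V' ⟶ V)
    (t : AutAt (BasedFunctor.comp (chartAt hU T) x) V) :
    res (K := BasedFunctor.comp (chartAt hU T) x) a t = res (K := x) ((chartAt hU T).map a) t :=
  res_eq (K := BasedFunctor.comp (chartAt hU T) x) a (res_spec (K := x) ((chartAt hU T).map a) t)

lemma pushAut_chartAt (x : FibCat.overCat U ⥤ᵇ 𝒳) {T T' : Over S} (φ : T' ⟶ T)
    (p : Over.mk (hU.from T') ⟶ Over.mk (hU.from T)) (hp : p.left = φ) (t : AutAt x (Over.mk (hU.from T))) :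
    pushAut φ (BasedFunctor.comp (chartAt hU T) x) t = res (K := x) p t := by
  rw [pushAut, res_chartAt]
  exact congrArg (fun m => res (K := x) m t) (Over.OverMorphism.ext (by simp [chartAt, toId, mapB, hp]))

variable {x : FibCat.overCat U ⥤ᵇ 𝒳} {y : FibCat.overCat U ⥤ᵇ 𝒴} {ψ : ClsIso 𝒳 𝒴}

/-- Commutative automorphisms of a global object correspond to those of the corresponding one. -/
theorem exists_isoMap_terminal (hX : Stk.IsStack (J S) 𝒳) (hY : Stk.IsStack (J S) 𝒴)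
    (hdX : AlgSt.RepByAlgSpWith IsSeparatedMor (FibCat.diag (FibCat.toSelf 𝒳)))
    (hdY : AlgSt.RepByAlgSpWith IsSeparatedMor (FibCat.diag (FibCat.toSelf 𝒴))) (hxy : Corr ψ x y)
    (hcomm : ∀ (T : Over S) (s t : AutAt x (Over.mk (hU.from T))), s * t = t * s) : Nonempty (IsoMap x y) := by
  have hψ : ∀ T : Over S, ψ.eqv T (triv (BasedFunctor.comp (chartAt hU T) x) (Over.mk (𝟙 T))) =
      triv (BasedFunctor.comp (chartAt hU T) y) (Over.mk (𝟙 T)) := fun T => by
    show ψ.eqv T (triv x (Over.mk (hU.from T))) = triv y (Over.mk (hU.from T))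
    rw [triv_mk, ψ.nat, hxy, ← triv_mk]
  have ex := fun T : Over S => exists_mulEquiv_spec hX (gadgetSys T) ψ (hψ T) hY
    (res_lineDbl_injective T _ hdX) (res_lineDbl_injective T _ hdY) (hcomm T)
  choose m hm using ex
  have hnat : ∀ {T T' : Over S} (p : Over.mk (hU.from T') ⟶ Over.mk (hU.from T))
      (t : AutAt x (Over.mk (hU.from T))), m T' (res (K := x) p t) = res (K := y) p (m T t) := by
    intro T T' p t
    have hc' : ∀ a b : AutAt (pushK p.left (BasedFunctor.comp (chartAt hU T) y)) (Over.mk (𝟙 T')), a * b = b * a :=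
      (comm_aut_iff hX (gadgetSys T') ψ (hψ T') hY (res_lineDbl_injective T' _ hdX)
        (res_lineDbl_injective T' _ hdY)).1 (hcomm T')
    have key := comparison_natural p.left hX hY ψ (BasedFunctor.comp (chartAt hU T) x)
      (K' := BasedFunctor.comp (chartAt hU T) y) hc' (res_lineDbl_injective T' _ hdY) (hm T t)
      (hm T' (pushAut p.left (BasedFunctor.comp (chartAt hU T) x) t))
    exact (congrArg (m T') (pushAut_chartAt hU x p.left p rfl t).symm).trans
      (key.trans (pushAut_chartAt hU y p.left p rfl (m T t)))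
  have exf : ∀ {T : Over S} (h g : T ⟶ U),
      ∃ e : @Iso (𝒳.p.Fiber T) _ (fib x (Over.mk h)) (fib x (Over.mk g)) ≃
        @Iso (𝒴.p.Fiber T) _ (fib y (Over.mk h)) (fib y (Over.mk g)),
      h = hU.from T → g = hU.from T → HEq e (m T).toEquiv := by
    intro T h g
    obtain rfl := hU.hom_ext h (hU.from T)
    obtain rfl := hU.hom_ext g (hU.from T)
    exact ⟨(m T).toEquiv, fun _ _ => HEq.rfl⟩
  choose f hf using @exf
  have hfm : ∀ {T : Over S} (δ : AutAt x (Over.mk (hU.from T))), f (hU.from T) (hU.from T) δ = m T δ :=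
    fun {T} δ => by rw [eq_of_heq (hf (hU.from T) (hU.from T) rfl rfl)]; rfl
  refine ⟨⟨fun h g => f h g, fun {T T' h g h' g'} p q hpq δ δ' e => ?_, fun {T} h g k δ ε => ?_⟩⟩
  · obtain rfl := hU.hom_ext h (hU.from T)
    obtain rfl := hU.hom_ext g (hU.from T)
    obtain rfl := hU.hom_ext h' (hU.from T')
    obtain rfl := hU.hom_ext g' (hU.from T')
    obtain rfl : p = q := Over.OverMorphism.ext hpq
    have h₁ : res (K := x) p δ = δ' := res_eq p e
    have h₂ := hnat p δ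
    rw [h₁] at h₂
    rw [hfm, hfm]
    refine Eq.trans ?_ (res_spec (K := y) p (m T δ))
    exact congrArg (fun t : AutAt y (Over.mk (hU.from T')) => t.hom.1 ≫ y.map p) h₂
  · obtain rfl := hU.hom_ext h (hU.from T)
    obtain rfl := hU.hom_ext g (hU.from T)
    obtain rfl := hU.hom_ext k (hU.from T)
    rw [hfm, hfm, hfm]
    exact map_mul (m T) (show AutAt x (Over.mk (hU.from T)) from ε) δ

/-- A global object locally isomorphic to everything corresponds to one of the same kind. -/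
theorem covers_of_corr (hxy : Corr ψ x y)
    (hx : ∀ a : 𝒳.obj, ∃ R ∈ J S (𝒳.p.obj a),
      ∀ ⦃V : Over S⦄ (f : V ⟶ 𝒳.p.obj a), R f → ∃ (g : V ⟶ U) (φ : x.obj (Over.mk g) ⟶ a), 𝒳.p.IsHomLift f φ)
    (b : 𝒴.obj) : ∃ R ∈ J S (𝒴.p.obj b),
      ∀ ⦃V : Over S⦄ (f : V ⟶ 𝒴.p.obj b), R f → ∃ (g : V ⟶ U) (φ : y.obj (Over.mk g) ⟶ b), 𝒴.p.IsHomLift f φ := by
  let b₀ : 𝒴.p.Fiber (𝒴.p.obj b) := ⟨b, rfl⟩
  obtain ⟨⟨a, ha⟩, hab⟩ := Quotient.exists_rep ((ψ.eqv _).symm (cl b₀))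
  obtain ⟨R, hR, hR'⟩ := hx a
  refine ⟨R.pullback (eqToHom ha.symm), (J S).pullback_stable _ hR, fun V f hf => ?_⟩
  obtain ⟨g, φ, hφ⟩ := hR' _ hf
  have hφ' : 𝒳.p.IsHomLift f φ := IsHomLift.of_fac' _ f φ (IsHomLift.domain_eq 𝒳.p (f ≫ eqToHom ha.symm) φ) ha
    (by rw [IsHomLift.fac' 𝒳.p (f ≫ eqToHom ha.symm) φ]; simp)
  have h₁ : pull f ((ψ.eqv _).symm (cl b₀)) = triv x (Over.mk g) := by
    rw [← hab]
    exact pull_cl f (x := (⟨a, ha⟩ : 𝒳.p.Fiber _)) (y := fib x (Over.mk g)) φ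
  have h₂ := congrArg (ψ.eqv V) h₁
  rw [ψ.nat, Equiv.apply_symm_apply, triv_mk, ψ.nat, hxy, ← triv_mk] at h₂
  obtain ⟨χ, hχ⟩ := exists_lift_of_pull_eq (x := b₀) (y := fib y (Over.mk g)) f h₂
  exact ⟨g, χ, hχ⟩

end Groth.Agent.IsoNatLib
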