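import Groth.Agent.IsoNatLib.TriRep
import Groth.Agent.IsoNatLib.Recover
import Groth.Agent.AlgSpPts.Sep

/-!
# Local finite presentation of charts from classes
-/

set_option autoImplicit false
set_option backward.isDefEq.respectTransparency false
set_option backward.isDefEq.respectTransparency.types false

universe u

open CategoryTheory CategoryTheory.Functor CategoryTheory.Limits AlgebraicGeometry Opposite AlgSp
  Groth.Agent.FibBase Groth.Agent.AlgSpLib

namespace Groth.Agent.IsoNatLib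

theorem lfp_of_section {X Y Z : Scheme.{u}} (s : X ⟶ Y) (r : Y ⟶ X) (f : X ⟶ Z)
    (hs : s ≫ r = 𝟙 X) (h : LocallyOfFinitePresentation (r ≫ f)) : LocallyOfFinitePresentation f := by
  have : LocallyOfFiniteType r := locallyOfFiniteType_of_comp r f
  have : LocallyOfFinitePresentation (s ≫ r) := by rw [hs]; infer_instance
  have := AlgSpPts.locallyOfFinitePresentation_of_comp s r
  have e : f = s ≫ r ≫ f := by rw [← Category.assoc, hs, Category.id_comp]
  rw [e]; infer_instance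

variable {S : Scheme.{u}} {𝒳 𝒴 : AlgSt.Cat S} [FibCat.IsFibGrpd 𝒳.p] [FibCat.IsFibGrpd 𝒴.p] {U V T : Over S}
  {v' : FibCat.overCat V ⥤ᵇ 𝒳} {v : FibCat.overCat V ⥤ᵇ 𝒴} {x : FibCat.overCat U ⥤ᵇ 𝒳}
  {y : FibCat.overCat U ⥤ᵇ 𝒴} (ψ : ClsIso 𝒳 𝒴)

/-- Corresponding slices: their classes at the identity correspond. -/
def Corr {W : Over S} (a : FibCat.overCat W ⥤ᵇ 𝒳) (b : FibCat.overCat W ⥤ᵇ 𝒴) : Prop :=
  ψ.eqv W (triv a (Over.mk (𝟙 W))) = triv b (Over.mk (𝟙 W))

variable {ψ}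

theorem Corr.exists_tri (hv : Corr ψ v' v) (hx : Corr ψ x y) (t : Tri v' x T) :
    ∃ t' : Tri v y T, t'.h = t.h ∧ t'.g = t.g := by
  have h := congrArg (ψ.eqv T) t.cls_eq
  rw [ψ.nat, ψ.nat, hv, hx] at h
  exact Tri.exists_of_cls h

theorem Corr.exists_tri' (hv : Corr ψ v' v) (hx : Corr ψ x y) (t : Tri v y T) :
    ∃ t' : Tri v' x T, t'.h = t.h ∧ t'.g = t.g := by
  have h := t.cls_eq
  rw [← hv, ← hx, ← ψ.nat, ← ψ.nat] at h
  exact Tri.exists_of_cls ((ψ.eqv T).injective h)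

variable (R : TriRep v y) (R' : TriRep v' x) (G : AutRep v)

omit [FibCat.IsFibGrpd 𝒳.p] in
theorem TriRep.chart_w {W : Over S} {cW : (yon S).obj W ⟶ R.F.obj} {w : W ⟶ V}
    (hw : cW ≫ R.a = (yon S).map w) {t : Tri v y W} (ht : R.pt t = cW) : t.h = w :=
  (yon S).map_injective (by rw [← R.pt_a, ht, hw])

theorem lfp_of_corr (hv : Corr ψ v' v) (hx : Corr ψ x y) (hR' : LocP @LocallyOfFinitePresentation R'.a)
    (hG : LocP @LocallyOfFinitePresentation G.a) {W : Over S} {cW : (yon S).obj W ⟶ R.F.obj} {w : W ⟶ V}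
    (hc : RepWith @Etale cW) (hw : cW ≫ R.a = (yon S).map w) :
    LocallyOfFinitePresentation w.left := by
  obtain ⟨Q, cQ, hQ, hQ'⟩ := R'.F.property.atlas
  obtain ⟨WG, cG, hcG, hcG'⟩ := G.F.property.atlas
  obtain ⟨tW, htW⟩ := R.pt_surj cW
  obtain ⟨tQ', htQ'⟩ := R'.pt_surj cQ
  obtain ⟨γG, eG, hγG⟩ := G.pt_surj cG
  have ew : tW.h = w := R.chart_w hw htW
  have hq : LocallyOfFinitePresentation tQ'.h.left :=
    hR' cQ (𝟙 _) tQ'.h hQ (repWith_id _ V) (by rw [← htQ', R'.pt_a, Category.comp_id])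
  have hk : LocallyOfFinitePresentation γG.h.left :=
    hG cG (𝟙 _) γG.h hcG (repWith_id _ V) (by rw [← hγG, G.pt_a, Category.comp_id])
  obtain ⟨tQ, hQh, hQg⟩ := hv.exists_tri hx tQ'
  obtain ⟨tW', hWh, hWg⟩ := hv.exists_tri' hx tW
  -- first cover
  let W₂ := hQ.rep.pullback (R'.pt tW')
  let p₂ : W₂ ⟶ W := hQ.rep.snd (R'.pt tW')
  let q₂ : W₂ ⟶ Q := hQ.rep.fst' (R'.pt tW')
  have hp₂ : Etale p₂.left := hQ.property_snd _
  have hp₂' : Surjective p₂.left := hQ'.property_snd _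
  have e₂ : tQ'.res q₂ = tW'.res p₂ := R'.pt_inj (by
    rw [R'.pt_res, R'.pt_res, htQ', Functor.relativelyRepresentable.map_fst']
    exact hQ.rep.w _)
  obtain ⟨γ, hγh, hγe, hγ⟩ := (tQ.res q₂).exists_comp (tW.res p₂)
    (by rw [Tri.res_h, Tri.res_h, hQh, ← hWh]; exact congrArg Tri.h e₂)
    (by rw [Tri.res_g, Tri.res_g, hQg, ← hWg]; exact congrArg Tri.g e₂)
  -- second cover
  let W₃ := hcG.rep.pullback (G.pt γ (hγe.trans hγh.symm))
  let p₃ : W₃ ⟶ W₂ := hcG.rep.snd _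
  let g₃ : W₃ ⟶ WG := hcG.rep.fst' (G.pt γ (hγe.trans hγh.symm))
  have hp₃ : Etale p₃.left := hcG.property_snd _
  have hp₃' : Surjective p₃.left := hcG'.property_snd _
  have e₃ : γG.res g₃ = γ.res p₃ := G.pt_inj (e := congrArg (g₃ ≫ ·) eG)
    (e' := congrArg (p₃ ≫ ·) (hγe.trans hγh.symm)) (by
      rw [G.pt_res _ eG, G.pt_res _ (hγe.trans hγh.symm), hγG, Functor.relativelyRepresentable.map_fst']
      exact hcG.rep.w _)
  -- the family over `M`
  let M : Over S := Over.mk (pullback.fst tQ'.h.left γG.h.left ≫ Q.hom)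
  let prQ : M ⟶ Q := Over.homMk (pullback.fst tQ'.h.left γG.h.left) rfl
  let prG : M ⟶ WG := Over.homMk (pullback.snd tQ'.h.left γG.h.left) (by
    show _ = pullback.fst tQ'.h.left γG.h.left ≫ Q.hom
    rw [← Over.w tQ'.h, pullback.condition_assoc, Over.w γG.h])
  have eM : prQ ≫ tQ'.h = prG ≫ γG.h := Over.OverMorphism.ext pullback.condition
  let tM := (γG.res prG).comp (tQ.res prQ) (by rw [Tri.res_g, Tri.res_h, eG, hQh, eM])
  have hMfp : LocallyOfFinitePresentation (prQ ≫ tQ'.h).left := by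
    rw [Over.comp_left]
    show LocallyOfFinitePresentation (pullback.fst tQ'.h.left γG.h.left ≫ tQ'.h.left)
    infer_instance
  let N := hc.rep.pullback (R.pt tM)
  let nM : N ⟶ M := hc.rep.snd _
  let nW : N ⟶ W := hc.rep.fst' (R.pt tM)
  have hnM : Etale nM.left := hc.property_snd _
  have eN : nW ≫ w = nM ≫ prG ≫ γG.h := by
    have : tW.res nW = tM.res nM := R.pt_inj (by
      rw [R.pt_res, R.pt_res, htW, Functor.relativelyRepresentable.map_fst']; exact hc.rep.w _)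
    have := congrArg Tri.h this
    rw [Tri.res_h, ew] at this
    rw [this]; rfl
  -- the map to `M`
  have es : (p₃ ≫ q₂) ≫ tQ'.h = g₃ ≫ γG.h := by
    rw [show g₃ ≫ γG.h = p₃ ≫ γ.h from congrArg Tri.h e₃, hγh, Category.assoc, Tri.res_h, hQh]
  let s₃ : W₃ ⟶ M := Over.homMk
    (pullback.lift (p₃ ≫ q₂).left g₃.left (by rw [← Over.comp_left, ← Over.comp_left, es]))
    (by
      show pullback.lift _ _ _ ≫ pullback.fst _ _ ≫ Q.hom = _
      rw [pullback.lift_fst_assoc, Over.w])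
  have hs₁ : s₃ ≫ prQ = p₃ ≫ q₂ := Over.OverMorphism.ext (pullback.lift_fst _ _ _)
  have hs₂ : s₃ ≫ prG = g₃ := Over.OverMorphism.ext (pullback.lift_snd _ _ _)
  have hsM : tM.res s₃ = tW.res (p₃ ≫ p₂) := by
    rw [← tW.res_res, ← hγ, Tri.res_comp, Tri.res_comp]
    congr 1
    · rw [Tri.res_res, hs₂, e₃]
    · rw [Tri.res_res, Tri.res_res, hs₁]
  let σ : W₃ ⟶ N := hc.rep.lift' (p₃ ≫ p₂) s₃ (by
    rw [← htW, ← R.pt_res, ← R.pt_res, hsM])
  have hσ : σ.left ≫ nW.left = (p₃ ≫ p₂).left := by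
    rw [← Over.comp_left]
    exact congrArg CommaMorphism.left (hc.rep.lift'_fst _ _ _)
  -- conclusion
  have hπe : Etale (p₃ ≫ p₂).left := by rw [Over.comp_left]; infer_instance
  have hπs : Surjective (p₃ ≫ p₂).left := by rw [Over.comp_left]; infer_instance
  have hL : LocallyOfFinitePresentation (pullback.fst (p₃ ≫ p₂).left nW.left ≫ (p₃ ≫ p₂).left ≫ w.left) := by
    rw [pullback.condition_assoc, ← Over.comp_left _ _ _ nW w, eN, Over.comp_left _ _ _ nM]
    have : LocallyOfFinitePresentation (prG ≫ γG.h).left := eM ▸ hMfp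
    infer_instance
  have := lfp_of_section (pullback.lift (𝟙 _) σ.left (by rw [Category.id_comp, hσ])) _ _
    (pullback.lift_fst _ _ _) hL
  exact IsEtLocal.of_precomp (P := @LocallyOfFinitePresentation) _ _ hπe hπs this

end Groth.Agent.IsoNatLib
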