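import Mathlib
import Groth.Agent.AlgSpPts.Sep
import Groth.Agent.AlgSpPts.UnivClosed
import Groth.Agent.AlgSpPts.Misc
import Groth.Agent.MorLib.UnramLocus
import Groth.Agent.IsoNatLib.Geom
import Groth.Agent.S6285

/-!
# The locus over which a proper algebraic space with a section is trivial
-/

set_option autoImplicit false
set_option backward.isDefEq.respectTransparency false
set_option backward.isDefEq.respectTransparency.types false

universe u

open CategoryTheory CategoryTheory.Limits AlgebraicGeometry AlgSp Topology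
  Groth.Agent.AlgSpLib Groth.Agent.AlgSpPts

namespace Groth.Agent.IsoNatLib

open Groth.Agent.MorLib.UnrLocus in
/-- The points near which a morphism of finite presentation of affine schemes is unramified. -/
theorem exists_unr_open {X Y : Scheme.{u}} [IsAffine X] [IsAffine Y] (p : X ⟶ Y)
    [LocallyOfFinitePresentation p] :
    ∃ Ω : X.Opens, (∀ x, x ∈ Ω ↔ Loc p x) ∧ IsCompact (Ω : Set X) ∧ FormallyUnramified (Ω.ι ≫ p) := by
  have ho : IsOpen {x | Loc p x} := isOpen_iff_forall_mem_open.2 fun x ⟨U, hx, hU⟩ =>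
    ⟨U, fun y hy => ⟨U, hy, hU⟩, U.2, hx⟩
  let Ω : X.Opens := ⟨{x | Loc p x}, ho⟩
  refine ⟨Ω, fun x => Iff.rfl, ?_, ?_⟩
  · let e := X.isoSpec.inv ≫ p ≫ Y.isoSpec.hom
    obtain ⟨φ, hφ⟩ := Spec.map_surjective e
    let _ := φ.hom.toAlgebra
    have : Algebra.FinitePresentation Γ(Y, ⊤) Γ(X, ⊤) := by
      have h : LocallyOfFinitePresentation (Spec.map φ) := by
        rw [hφ]; infer_instance
      exact (HasRingHomProperty.Spec_iff (P := @LocallyOfFinitePresentation)).1 h
    have hset : X.isoSpec.inv ⁻¹' (Ω : Set X) = Algebra.unramifiedLocus Γ(Y, ⊤) Γ(X, ⊤) := by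
      ext x
      show Loc p (X.isoSpec.inv x) ↔ _
      rw [← loc_comp_left X.isoSpec.inv, ← loc_comp_right (X.isoSpec.inv ≫ p) Y.isoSpec.hom, Category.assoc]
      show Loc e x ↔ _
      rw [← hφ]
      exact loc_Spec_iff Γ(Y, ⊤) Γ(X, ⊤) x
    have hc : IsCompact (X.isoSpec.inv ⁻¹' (Ω : Set X)) := by
      rw [hset, Algebra.unramifiedLocus_eq_compl_support]
      exact (Groth.Agent.S6285.result _ _).2
    have := hc.image X.isoSpec.inv.continuous
    rwa [Set.image_preimage_eq _ X.isoSpec.inv.surjective] at this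
  · have hx : ∀ z : ↥Ω, Loc (Ω.ι ≫ p) z := fun z => (loc_comp_left Ω.ι p z).2 z.2
    choose U hU hU' using hx
    rw [IsZariskiLocalAtSource.iff_of_iSup_eq_top (P := @FormallyUnramified) U
      (eq_top_iff.2 fun z _ => TopologicalSpace.Opens.mem_iSup.2 ⟨z, hU z⟩)]
    exact hU'

theorem isCompact_of_isConstructible {X : Scheme.{u}} [CompactSpace X] [QuasiSeparatedSpace X] {s : Set X}
    (hs : IsConstructible s) : IsCompact s := by
  have : Nonempty X.affineOpens := ⟨⟨⊥, isAffineOpen_bot X⟩⟩
  have hb : TopologicalSpace.IsTopologicalBasis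
      (Set.range fun A : X.affineOpens => ((A.1 : X.Opens) : Set X)) := by
    have h := X.isBasis_affineOpens
    rw [TopologicalSpace.Opens.IsBasis] at h
    convert h using 1
    ext t
    simp
  refine IsConstructible.induction_of_isTopologicalBasis (P := fun s _ => IsCompact s) _ hb
    (fun A => A.2.isCompact) (fun A t ht => ?_) (fun s _ t _ hs ht => hs.union ht) s hs
  exact A.2.isCompact.diff (isOpen_biUnion fun B _ => B.1.2)

variable {S : Scheme.{u}}

/-- An algebraic space with quasi-compact space of points has an affine atlas. -/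
theorem exists_affine_atlas {F : Sp S} (h : IsQuasiCompactSp F) :
    ∃ (W₀ : Over S) (q : (yon S).obj W₀ ⟶ F),
      IsAffine W₀.left ∧ RepWith @Etale q ∧ RepWith @Surjective q := by
  obtain ⟨U₀, q₀, he, hs, (hU : CompactSpace ↥U₀.left)⟩ := h
  obtain ⟨Y, t, ht, ht', hY⟩ :=
    Scheme.exists_hom_isAffine_of_isZariskiLocalAtSource @Etale U₀.left
  let t' : Over.mk (t ≫ U₀.hom) ⟶ U₀ := Over.homMk t rfl
  exact ⟨_, (yon S).map t' ≫ q₀, hY, repWith_comp ((repWith_yon_map_iff _ t').2 ht') he,
    repWith_comp ((repWith_yon_map_iff _ t').2 ht) hs⟩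

variable {F : Sp S} {V : Over S}

/-- The structure map of `F` over `g` has only the section `e` as points. -/
def Triv (a : F ⟶ (yon S).obj V) (e : (yon S).obj V ⟶ F) {T : Over S} (g : T ⟶ V) : Prop :=
  ∀ ⦃T' : Over S⦄ (h : T' ⟶ T) (τ : (yon S).obj T' ⟶ F),
    τ ≫ a = (yon S).map (h ≫ g) → τ = (yon S).map (h ≫ g) ≫ e

theorem Triv.comp {a : F ⟶ (yon S).obj V} {e : (yon S).obj V ⟶ F} {T T₁ : Over S} {g : T ⟶ V}
    (hg : Triv a e g) (k : T₁ ⟶ T) : Triv a e (k ≫ g) := fun T' h τ hτ => by
  rw [← Category.assoc] at hτ ⊢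
  exact hg (h ≫ k) τ hτ

/-- An open subscheme, over the base. -/
abbrev opOver (W : Over S) (O : W.left.Opens) : Over S := Over.mk (O.ι ≫ W.hom)

/-- The inclusion of an open subscheme. -/
abbrev opIncl (W : Over S) (O : W.left.Opens) : opOver W O ⟶ W := Over.homMk O.ι rfl

theorem exists_factor_opIncl {W T : Over S} (g : T ⟶ W) {O : W.left.Opens} (h : ∀ t, g.left t ∈ O) :
    ∃ g' : T ⟶ opOver W O, g' ≫ opIncl W O = g := by
  have hr : Set.range g.left ⊆ Set.range O.ι := by
    rw [Scheme.Opens.range_ι]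
    rintro _ ⟨t, rfl⟩
    exact h t
  refine ⟨Over.homMk (IsOpenImmersion.lift O.ι g.left hr) ?_, Over.OverMorphism.ext (IsOpenImmersion.lift_fac _ _ hr)⟩
  show IsOpenImmersion.lift O.ι g.left hr ≫ O.ι ≫ W.hom = T.hom
  rw [← Category.assoc, IsOpenImmersion.lift_fac, Over.w]

theorem ofPt_id_injective (W : Over S) : Function.Injective (Points.ofPt (𝟙 ((yon S).obj W))) :=
  (Points.schemeEquiv W).injective

theorem isCompact_fibre_compl {W₀ W : Scheme.{u}} [IsAffine W₀] [IsAffine W] (p : W₀ ⟶ W)
    [LocallyOfFinitePresentation p] {G : Set W₀} (hG : IsOpen G) (hG' : IsCompact G) :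
    IsCompact (p '' Gᶜ)ᶜ :=
  isCompact_of_isConstructible (p.isConstructible_image (hG'.isConstructible hG).compl).compl

/-- Over an affine scheme the trivial locus of a proper space with a section is a compact open. -/
theorem exists_triv_open_affine (hF : IsAlgSpace F) {W : Over S} [IsAffine W.left]
    {a : F ⟶ (yon S).obj W} (hp : IsProperMor a) (hl : LocP @LocallyOfFinitePresentation a)
    {e : (yon S).obj W ⟶ F} (he : e ≫ a = 𝟙 _) :
    ∃ U : W.left.Opens, IsCompact (U : Set W.left) ∧ Triv a e (opIncl W U) ∧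
      ∀ (K : Type u) [Field K] (str : Spec (.of K) ⟶ S) (k : Over.mk str ⟶ W), Triv a e k →
        k.left (IsLocalRing.closedPoint K) ∈ U := by
  have hqcs : IsQuasiCompactSp F := hp.2.1.2 (IsAlgSpace.yon_obj W)
    ((isQuasiCompactSp_yon_iff W).2 inferInstance) (𝟙 _) (𝟙 _) a (IsPullback.of_horiz_isIso ⟨by simp⟩)
  obtain ⟨W₀, q, hW₀, hq, hq'⟩ := exists_affine_atlas hqcs
  obtain ⟨p, hpq⟩ := (yon S).map_surjective (q ≫ a)
  have hlfp : LocallyOfFinitePresentation p.left :=
    hl q (𝟙 _) p hq (repWith_id _ W) (by rw [Category.comp_id, hpq])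
  have hce : RepWith @IsClosedImmersion e := section_property he hp.1
  let E : Over S := hce.rep.pullback q
  let i : E ⟶ W₀ := hce.rep.snd q
  let r : E ⟶ W := hce.rep.fst' q
  have sqE : IsPullback ((yon S).map r) ((yon S).map i) e q := hce.rep.isPullback' q
  have hcl : IsClosedImmersion i.left := hce.property_snd q
  have hr : Etale r.left := hq.property e _ _ sqE.flip
  have hir : i ≫ p = r := (yon S).map_injective (by
    rw [Functor.map_comp, hpq, ← reassoc_of% sqE.w, he, Category.comp_id])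
  obtain ⟨Ω, hΩ, hΩc, hΩu⟩ := exists_unr_open p.left
  let j := i.left ∣_ Ω
  have hj : IsClosedImmersion j := IsZariskiLocalAtTarget.restrict hcl Ω
  have hjr : j ≫ Ω.ι ≫ p.left = (i.left ⁻¹ᵁ Ω).ι ≫ r.left := by
    rw [morphismRestrict_ι_assoc, ← hir]
    rfl
  have : Etale (j ≫ Ω.ι ≫ p.left) := by rw [hjr]; infer_instance
  have : Etale j := Etale.of_comp j (Ω.ι ≫ p.left)
  have : IsOpenImmersion j := IsOpenImmersion.of_flat_of_mono j
  let G : W₀.left.Opens := (j ≫ Ω.ι).opensRange
  have hGmem : ∀ x : E.left, i.left x ∈ Ω → i.left x ∈ G := fun x hx => by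
    refine ⟨⟨x, hx⟩, ?_⟩
    rw [morphismRestrict_ι]
    rfl
  have hGc : IsCompact (G : Set W₀.left) := by
    have h1 : IsCompact (i.left ⁻¹' (Ω : Set W₀.left)) := i.left.isClosedEmbedding.isCompact_preimage hΩc
    have : CompactSpace ↥(i.left ⁻¹ᵁ Ω).toScheme := isCompact_iff_compactSpace.1 h1
    exact isCompact_range (j ≫ Ω.ι).continuous
  let lG : G.toScheme ⟶ E.left := (j ≫ Ω.ι).isoOpensRange.inv ≫ (i.left ⁻¹ᵁ Ω).ι
  have hlG : lG ≫ i.left = G.ι := by
    have : (i.left ⁻¹ᵁ Ω).ι ≫ i.left = j ≫ Ω.ι := (morphismRestrict_ι _ _).symm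
    rw [Category.assoc, this, Scheme.Hom.isoOpensRange_inv_comp]
  let lG' : opOver W₀ G ⟶ E := Over.homMk lG (by
    show lG ≫ E.hom = G.ι ≫ W₀.hom
    rw [← Over.w i, ← Category.assoc, hlG])
  have hlG' : lG' ≫ i = opIncl W₀ G := Over.OverMorphism.ext hlG
  -- the open set
  have hclosed : IsClosedMap (Points.map a) :=
    hp.2.2 (IsAlgSpace.yon_obj W) (𝟙 _) (𝟙 _) a (IsPullback.of_horiz_isIso ⟨by simp⟩)
  let Z : Set (Points F) := (Points.ofPt q '' (G : Set W₀.left))ᶜ
  have hZ : IsClosed Z := (isOpenMap_ofPt hq _ G.2).isClosed_compl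
  let B : Set W.left := Points.ofPt (𝟙 ((yon S).obj W)) ⁻¹' (Points.map a '' Z)
  have hB : IsClosed B := (hclosed _ hZ).preimage (Points.continuous_ofPt _)
  let U : W.left.Opens := ⟨Bᶜ, hB.isOpen_compl⟩
  have hpt : ∀ w, Points.map a (Points.ofPt q w) = Points.ofPt (𝟙 ((yon S).obj W)) (p.left w) := fun w => by
    rw [Points.map_ofPt, ← hpq, ← ofPt_comp, Category.comp_id]
  -- triviality
  have hU : Triv a e (opIncl W U) := by
    intro T' h τ hτ
    let g := h ≫ opIncl W U
    have hqG : RepWith @Etale ((yon S).map (opIncl W₀ G) ≫ q) :=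
      repWith_comp ((repWith_yon_map_iff _ _).2 (inferInstanceAs (Etale G.ι))) hq
    let π := hqG.rep.snd τ
    let c := hqG.rep.fst' τ
    have : Etale π.left := hqG.property_snd τ
    have : Surjective π.left := ⟨fun t => by
      have hx : Points.map a (Points.ofPt τ t) = Points.ofPt (𝟙 ((yon S).obj W)) (g.left t) := by
        rw [Points.map_ofPt, hτ, ← ofPt_comp, Category.comp_id]
      have hxZ : Points.ofPt τ t ∉ Z := fun hh => by
        have hm : g.left t ∈ B := ⟨_, hh, hx⟩
        exact (h.left t).2 hm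
      obtain ⟨w, hw, hwx⟩ := not_not.1 hxZ
      have hxG : Points.ofPt ((yon S).map (opIncl W₀ G) ≫ q) ⟨w, hw⟩ = Points.ofPt τ t := by
        rw [ofPt_comp]
        exact hwx
      obtain ⟨z, -, hz⟩ := exists_ofPt_of_eq (hqG.rep.isPullback' τ) hxG
      exact ⟨z, hz⟩⟩
    have h1 : (yon S).map π ≫ τ = (yon S).map (c ≫ lG' ≫ r) ≫ e := by
      have hw : (yon S).map c ≫ (yon S).map (opIncl W₀ G) ≫ q = (yon S).map π ≫ τ :=
        (hqG.rep.isPullback' τ).w
      have e1 : (yon S).map (lG' ≫ i) ≫ q = (yon S).map (lG' ≫ r) ≫ e := by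
        simp only [Functor.map_comp, Category.assoc, sqE.w]
      have e2 : (yon S).map (opIncl W₀ G) ≫ q = (yon S).map (lG' ≫ r) ≫ e :=
        (congrArg (fun z => (yon S).map z ≫ q) hlG'.symm).trans e1
      refine hw.symm.trans ((congrArg ((yon S).map c ≫ ·) e2).trans ?_)
      simp only [Functor.map_comp, Category.assoc]
    have h2 : π ≫ g = c ≫ lG' ≫ r := (yon S).map_injective (by
      have := congrArg (fun x => x ≫ a) h1
      simp only [Category.assoc] at this
      rw [hτ, he, Category.comp_id] at this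
      rw [Functor.map_comp]
      exact this)
    refine hom_ext_of_fppf π (fppf_of_etale π.left) _ _ ?_
    rw [h1, ← h2, Functor.map_comp, Category.assoc]
  -- the fibre over a trivial field point
  have hfib : ∀ (K : Type u) [Field K] (str : Spec (.of K) ⟶ S) (k : Over.mk str ⟶ W), Triv a e k →
      ∀ w, p.left w = k.left (IsLocalRing.closedPoint K) → w ∈ G := by
    intro K _ str k hk w hw
    obtain ⟨x, hx, -⟩ := Scheme.Pullback.exists_preimage_pullback (f := p.left) (g := k.left) w
      (IsLocalRing.closedPoint K) hw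
    let P₀ : Over S := Over.mk (pullback.fst p.left k.left ≫ W₀.hom)
    let f₁ : P₀ ⟶ W₀ := Over.homMk (pullback.fst p.left k.left) rfl
    let f₂ : P₀ ⟶ Over.mk str := Over.homMk (pullback.snd p.left k.left) (by
      show pullback.snd p.left k.left ≫ str = pullback.fst p.left k.left ≫ W₀.hom
      have hk' : k.left ≫ W.hom = str := Over.w k
      refine (congrArg (pullback.snd p.left k.left ≫ ·) hk'.symm).trans ?_
      rw [← Over.w p, pullback.condition_assoc])
    have hf : f₁ ≫ p = f₂ ≫ k := Over.OverMorphism.ext pullback.condition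
    have h1 : (yon S).map f₁ ≫ q = (yon S).map (f₂ ≫ k) ≫ e := hk f₂ _ (by
      rw [Category.assoc, ← hpq, ← Functor.map_comp, hf])
    let l : P₀ ⟶ E := hce.rep.lift ((yon S).map (f₂ ≫ k)) f₁ h1.symm
    have hl1 : l ≫ i = f₁ := hce.rep.lift_snd _ _ _
    have hl2 : l ≫ r = f₂ ≫ k := (yon S).map_injective (by
      refine ((yon S).map_comp l r).trans ?_
      show (yon S).map l ≫ (yon S).map (hce.rep.fst' q) = _
      rw [Functor.relativelyRepresentable.map_fst']
      exact hce.rep.lift_fst _ _ _)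
    have hl1' : l.left ≫ i.left = pullback.fst p.left k.left := congrArg CommaMorphism.left hl1
    have hl2' : l.left ≫ r.left = pullback.snd p.left k.left ≫ k.left := congrArg CommaMorphism.left hl2
    have hir' : i.left ≫ p.left = r.left := congrArg CommaMorphism.left hir
    let m : pullback r.left k.left ⟶ pullback p.left k.left :=
      pullback.lift (pullback.fst r.left k.left ≫ i.left) (pullback.snd r.left k.left)
        (by rw [Category.assoc, hir', pullback.condition])
    let l' : pullback p.left k.left ⟶ pullback r.left k.left :=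
      pullback.lift l.left (pullback.snd p.left k.left) hl2'
    have : Mono m := ⟨fun {Y} u v huv => pullback.hom_ext
      (by
        have := congrArg (fun z => z ≫ pullback.fst p.left k.left) huv
        simp only [m, Category.assoc, pullback.lift_fst, ← cancel_mono i.left] at this ⊢
        simpa using this)
      (by
        have := congrArg (fun z => z ≫ pullback.snd p.left k.left) huv
        simpa [m] using this)⟩
    have hlm : l' ≫ m = 𝟙 _ := pullback.hom_ext (by simp [l', m, hl1']) (by simp [l', m])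
    have : IsIso l' := ⟨m, hlm, (cancel_mono m).1 (by rw [Category.assoc, hlm, Category.comp_id, Category.id_comp])⟩
    have : FormallyUnramified (pullback.snd p.left k.left) := by
      rw [← show l' ≫ pullback.snd r.left k.left = pullback.snd p.left k.left from pullback.lift_snd _ _ _]
      infer_instance
    have hloc : Groth.Agent.MorLib.UnrLocus.Loc (pullback.snd p.left k.left) x :=
      ⟨⊤, trivial, MorphismProperty.comp_mem @FormallyUnramified _ _ inferInstance inferInstance⟩
    have hwΩ : w ∈ Ω := by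
      rw [hΩ, ← hx]
      exact (Groth.Agent.MorLib.UnrLocus.loc_pullback p.left k.left x).1 hloc
    have hwi : i.left (l.left x) = w := by
      rw [← Scheme.Hom.comp_apply, hl1']
      exact hx
    rw [← hwi] at hwΩ ⊢
    exact hGmem _ hwΩ
  have hUmem : ∀ v, (∀ w, p.left w = v → w ∈ G) → v ∈ U := by
    rintro v h ⟨x, hx, hxv⟩
    obtain ⟨w, rfl⟩ := surjective_ofPt hq' x
    rw [hpt] at hxv
    exact hx ⟨w, h w (ofPt_id_injective W hxv), rfl⟩
  have hset : (U : Set W.left) = (p.left '' (G : Set W₀.left)ᶜ)ᶜ := by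
    ext v
    constructor
    · rintro hv ⟨w, hw, hwv⟩
      let str : Spec (W.left.residueField v) ⟶ S := W.left.fromSpecResidueField v ≫ W.hom
      let k : Over.mk str ⟶ W := Over.homMk (W.left.fromSpecResidueField v) rfl
      have hk : ∀ z, k.left z = v := fun z =>
        (Set.mem_singleton_iff.1 ((Scheme.range_fromSpecResidueField v).subset ⟨z, rfl⟩))
      obtain ⟨k', hk'⟩ := exists_factor_opIncl k (O := U) fun z => (hk z).symm ▸ hv
      exact hw (hfib _ str k (hk' ▸ hU.comp k') w (hwv.trans (hk _).symm))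
    · intro hv
      exact hUmem v fun w hwv => by_contra fun hw => hv ⟨w, hw, hwv⟩
  exact ⟨U, hset ▸ isCompact_fibre_compl p.left G.2 hGc, hU, fun K _ str k hk => hUmem _ (hfib K str k hk)⟩

theorem triv_pullback_iff {A : Over S} (j : A ⟶ V) {a : F ⟶ (yon S).obj V} {e : (yon S).obj V ⟶ F}
    (w : ((yon S).map j ≫ e) ≫ a = 𝟙 _ ≫ (yon S).map j) {T : Over S} (g : T ⟶ A) :
    Triv (pullback.snd a ((yon S).map j)) (pullback.lift ((yon S).map j ≫ e) (𝟙 _) w) g ↔
      Triv a e (g ≫ j) := by
  constructor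
  · intro hg T' h τ hτ
    have hc : τ ≫ a = (yon S).map (h ≫ g) ≫ (yon S).map j := by
      rw [hτ, ← Functor.map_comp, Category.assoc]
    have h1 := congrArg (fun z => z ≫ pullback.fst a ((yon S).map j))
      (hg h (pullback.lift τ ((yon S).map (h ≫ g)) hc) (pullback.lift_snd _ _ _))
    simp only [Category.assoc, pullback.lift_fst] at h1
    rw [h1]
    simp only [Functor.map_comp, Category.assoc]
  · intro hg T' h τ hτ
    have h1 := hg h (τ ≫ pullback.fst a ((yon S).map j)) (by
      rw [Category.assoc, pullback.condition, reassoc_of% hτ, ← Functor.map_comp, Category.assoc])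
    apply pullback.hom_ext
    · rw [h1]
      simp only [Functor.map_comp, Category.assoc, pullback.lift_fst]
    · simp only [hτ, Category.assoc, pullback.lift_snd, Category.comp_id]

/-- The trivial locus of a proper space with a section: a retrocompact open subscheme. -/
theorem exists_triv_open (hF : IsAlgSpace F) {a : F ⟶ (yon S).obj V} (hp : IsProperMor a)
    (hl : LocP @LocallyOfFinitePresentation a) {e : (yon S).obj V ⟶ F} (he : e ≫ a = 𝟙 _) :
    ∃ O : V.left.Opens, QuasiCompact O.ι ∧
      ∀ {T : Over S} (g : T ⟶ V), (∀ t, g.left t ∈ O) ↔ Triv a e g := by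
  have key : ∀ A : V.left.Opens, IsAffineOpen A → ∃ B : V.left.Opens, B ≤ A ∧ IsCompact (B : Set V.left) ∧
      Triv a e (opIncl V B) ∧ ∀ (K : Type u) [Field K] (str : Spec (.of K) ⟶ S) (k : Over.mk str ⟶ V),
        Triv a e k → k.left (IsLocalRing.closedPoint K) ∈ A → k.left (IsLocalRing.closedPoint K) ∈ B := by
    intro A hA
    have : IsAffine (opOver V A).left := hA
    let j := opIncl V A
    have w : ((yon S).map j ≫ e) ≫ a = 𝟙 _ ≫ (yon S).map j := by
      rw [Category.assoc, he, Category.comp_id, Category.id_comp]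
    have sq := IsPullback.of_hasPullback a ((yon S).map j)
    obtain ⟨U, hUc, hU, hfib⟩ := exists_triv_open_affine
      (isAlgSpace_of_isPullback sq hF (IsAlgSpace.yon_obj _) (IsAlgSpace.yon_obj _))
      (isProperMor_of_isPullback sq hF (IsAlgSpace.yon_obj _) (IsAlgSpace.yon_obj _) hp)
      (locP_of_isPullback sq hF (IsAlgSpace.yon_obj _) (IsAlgSpace.yon_obj _) hl)
      (pullback.lift_snd ((yon S).map j ≫ e) (𝟙 _) w)
    refine ⟨A.ι ''ᵁ U, ?_, hUc.image A.ι.continuous, ?_, fun K _ str k hk hkA => ?_⟩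
    · rintro _ ⟨x, -, rfl⟩
      exact x.2
    · obtain ⟨g₁, hg₁⟩ := exists_factor_opIncl (opIncl V (A.ι ''ᵁ U)) (O := A) (fun t => by
        obtain ⟨x, -, hx⟩ := t.2
        show t.1 ∈ A
        rw [← hx]
        exact x.2)
      obtain ⟨g₂, hg₂⟩ := exists_factor_opIncl g₁ (O := U) (fun t => by
        obtain ⟨x, hx, hxt⟩ := t.2
        have : g₁.left t = x := A.ι.injective
          ((congrArg (fun f => f t) (congrArg CommaMorphism.left hg₁)).trans hxt.symm)
        exact this ▸ hx)
      rw [← hg₁, ← hg₂, Category.assoc]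
      exact ((triv_pullback_iff j w (opIncl _ U)).1 hU).comp g₂
    · obtain ⟨k', hk'⟩ := exists_factor_opIncl k (O := A) (fun z => by
        have : Subsingleton ↥(Over.mk str).left := inferInstanceAs (Subsingleton ↥(Spec (.of K)))
        rwa [Subsingleton.elim z (IsLocalRing.closedPoint K)])
      refine ⟨_, hfib K str k' ((triv_pullback_iff j w k').2 (hk'.symm ▸ hk)), ?_⟩
      rw [← hk']
      rfl
  choose B hBA hBc hBt hBf using key
  let O : V.left.Opens := ⨆ A : V.left.affineOpens, B A.1 A.2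
  have hfield : ∀ v (A : V.left.Opens) (hA : IsAffineOpen A), v ∈ A → Triv a e
      (Over.homMk (V.left.fromSpecResidueField v) rfl :
        Over.mk (V.left.fromSpecResidueField v ≫ V.hom) ⟶ V) → v ∈ B A hA := fun v A hA hv ht => by
    have hz : ∀ z, V.left.fromSpecResidueField v z = v := fun z =>
      (Set.mem_singleton_iff.1 ((Scheme.range_fromSpecResidueField v).subset ⟨z, rfl⟩))
    have := hBf A hA _ _ _ ht (by
      show V.left.fromSpecResidueField v _ ∈ A
      rw [hz]; exact hv)
    exact (hz _) ▸ this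
  have hO : Triv a e (opIncl V O) := by
    intro T' h τ hτ
    let g := h ≫ opIncl V O
    have hmem : ∀ t, ∃ A : V.left.affineOpens, g.left t ∈ B A.1 A.2 := fun t =>
      TopologicalSpace.Opens.mem_iSup.1 (h.left t).2
    choose A hA using hmem
    let D : T'.left → T'.left.Opens := fun t => g.left ⁻¹ᵁ B (A t).1 (A t).2
    refine hom_ext_of_covering _ _ (R := Sieve.ofArrows (fun t => opOver T' (D t)) (fun t => opIncl T' (D t)))
      (mem_J_of_openImm _ _ (fun t => inferInstanceAs (IsOpenImmersion (D t).ι))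
        (fun t => ⟨t, by
          show t ∈ Set.range (D t).ι
          rw [Scheme.Opens.range_ι]
          exact hA t⟩) _ (Sieve.ofArrows_mk _ _)) ?_
    rintro T'' _ ⟨_, ψ, _, ⟨t⟩, rfl⟩
    obtain ⟨g', hg'⟩ := exists_factor_opIncl (ψ ≫ opIncl T' (D t) ≫ g) (O := B (A t).1 (A t).2)
      (fun z => (ψ.left z).2)
    have := hBt _ (A t).2 g' ((yon S).map (ψ ≫ opIncl T' (D t)) ≫ τ) (by
      rw [Category.assoc, hτ, ← Functor.map_comp, hg', Category.assoc])
    rw [this, hg', ← Category.assoc, ← Category.assoc, Functor.map_comp]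
    simp only [g, Functor.map_comp, Category.assoc]
  refine ⟨O, ?_, fun {T} g => ⟨fun h => ?_, fun h t => ?_⟩⟩
  · refine (quasiCompact_iff_forall_isAffineOpen).2 fun A hA => ?_
    rw [O.ι.isOpenEmbedding.isEmbedding.isCompact_iff]
    show IsCompact (O.ι '' (O.ι ⁻¹' (A : Set V.left)))
    rw [Set.image_preimage_eq_inter_range, Scheme.Opens.range_ι]
    convert hBc A hA using 1
    ext v
    refine ⟨fun ⟨hv, hv'⟩ => ?_, fun hv => ⟨hBA A hA hv, TopologicalSpace.Opens.mem_iSup.2 ⟨⟨A, hA⟩, hv⟩⟩⟩
    let k : Over.mk (V.left.fromSpecResidueField v ≫ V.hom) ⟶ V := Over.homMk (V.left.fromSpecResidueField v) rfl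
    obtain ⟨k', hk'⟩ := exists_factor_opIncl k (O := O) (fun z => by
      show V.left.fromSpecResidueField v z ∈ O
      rw [Set.mem_singleton_iff.1 ((Scheme.range_fromSpecResidueField v).subset ⟨z, rfl⟩)]
      exact hv')
    exact hfield v A hA hv (show Triv a e k from hk' ▸ hO.comp k')
  · obtain ⟨g', rfl⟩ := exists_factor_opIncl g h
    exact hO.comp g'
  · obtain ⟨A, hA, hvA, -⟩ := exists_isAffineOpen_mem_and_subset (U := (⊤ : V.left.Opens)) (x := g.left t) trivial
    let kk : Over.mk (T.left.fromSpecResidueField t ≫ T.hom) ⟶ T := Over.homMk (T.left.fromSpecResidueField t) rfl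
    have hkk : ∀ z, kk.left z = t := fun z =>
      (Set.mem_singleton_iff.1 ((Scheme.range_fromSpecResidueField t).subset ⟨z, rfl⟩))
    have hz : ∀ z, (kk ≫ g).left z = g.left t := fun z => by
      show g.left (kk.left z) = _
      rw [hkk]
    have := hBf A hA _ _ (kk ≫ g) (h.comp kk) ((hz _).symm ▸ hvA)
    rw [hz] at this
    exact TopologicalSpace.Opens.mem_iSup.2 ⟨⟨A, hA⟩, this⟩

end Groth.Agent.IsoNatLib
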